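import Cfsg.Agent.H905.MdD
import Cfsg.Agent.H905.DCIndex
import Cfsg.Agent.Nodes.TypeC
import Cfsg.Agent.Nodes.TypeD

/-!
# Small modules of type `B_l`, `D_l` are natural at the first node (helper925)

* `dim_words` : the lower bound of helper905 for explicit words;
* `small_B` (`l = 4, 5, 6`), `small_D` (`l = 5, 6`) : `dim V ≤ 12` implies `J = {0}ᶜ`, `dim V^U = 1`, `dim Le {0} ≤ 2`.
-/

set_option autoImplicit false
set_option linter.unusedSectionVars false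
set_option linter.style.longLine false

namespace Cfsg.Agent.H925.Nat

open CoxeterSystem Cfsg.Agent.ChevalleyStructure.CoxeterGeom Cfsg.Agent.Tits.Roots Cfsg.Agent.Tits.Core
  Cfsg.Agent.Tits.Exchange Cfsg.Agent.Nodes.Reps Cfsg.Agent.Nodes.BNOf Cfsg.Agent.Nodes.StabComb
  Cfsg.Agent.Nodes.Bruhat Cfsg.Agent.Nodes.OppDec Cfsg.Agent.Nodes.RGDLib Cfsg.Agent.Omega.CR
  Cfsg.Agent.Omega.FOne.Lift.Sd Cfsg.Agent.H905.Md Cfsg.Agent.H905.DC

variable {I W Y : Type*} [Fintype I] [DecidableEq I] [Group W] [Group Y] {M : CoxeterMatrix I}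
  {cs : CoxeterSystem M W} {A : I → I → ℤ} {h : IsCartan M A} {p : ℕ} {T : Subgroup Y} {n : I → Y}
  {X : (I → ℤ) → Subgroup Y}

/-- a reflection -/
def rfn (A : I → I → ℤ) (j : I) (x : I → ℤ) : I → ℤ := fun m => if m = j then x m - ∑ l, A j l * x l else x m

/-- the image of `α_i` under a word -/
def rf (A : I → I → ℤ) (i : I) (ω : List I) : I → ℤ := ω.foldr (rfn A) (Pi.single i 1)

theorem refl_eq_rfn (j : I) (x : I → ℤ) : refl A j x = rfn A j x := by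
  funext m
  rw [refl_apply, Pi.sub_apply]
  unfold rfn
  by_cases hm : m = j
  · subst hm
    rw [Pi.single_eq_same, if_pos rfl]
    rfl
  · rw [Pi.single_eq_of_ne hm, if_neg hm, sub_zero]

theorem rep_wordProd_sr (i : I) (ω : List I) : rep cs h (cs.wordProd ω) (sr i) = rf A i ω := by
  induction ω with
  | nil => rw [cs.wordProd_nil, map_one, Module.End.one_apply]; rfl
  | cons j ω ih => rw [cs.wordProd_cons, rep_mul_apply, ih, rep_simple, refl_eq_rfn]; rfl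

section

variable {k V : Type*} [Field k] [AddCommGroup V] [Module k V]
variable (R : RGD cs h p T n X) [Finite Y] [Finite W] [Fact p.Prime] [CharP k p]
  {ρ : Y →* Module.End k V} [FiniteDimensional k V] [Nontrivial V]
  (hirr : ∀ L : Submodule k V, Ivt ρ (GG cs h T X) L → L = ⊥ ∨ L = ⊤)
include R hirr

theorem dim_words {i : I} (hi : i ∉ Jx cs h X ρ) (L : List (List I)) (hL : (L.map (cf A i)).Nodup)
    (E : List (List I)) (hE : (E.map (rf A i) ++ E.map (fun ω => -rf A i ω)).Nodup) :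
    L.length * Module.finrank k (D cs h X ρ) + E.length * Module.finrank k (Io cs h T X ρ i) ≤
      Module.finrank k V := by
  have h1 := dim_ge R hirr (α := Fin L.length) (β := Fin E.length) (fun a => (cs.wordProd (L.get a))⁻¹) (by
    intro a b hab h0
    rw [inv_inv] at h0
    have h2 := co_mul_left cs h hi h0 (cs.wordProd (L.get b))
    rw [inv_mul_cancel_right, co_wordProd, co_wordProd] at h2
    apply hab
    have h3 := List.nodup_iff_injective_get.1 hL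
    have h4 : (⟨a, by rw [List.length_map]; exact a.2⟩ : Fin (L.map (cf A i)).length) =
        ⟨b, by rw [List.length_map]; exact b.2⟩ := by
      apply h3
      simpa using h2
    have h5 := congrArg Fin.val h4
    exact Fin.ext h5) (fun b => cs.wordProd (E.get b)) (fun _ => i) (by
    intro a b hab h0
    have hE1 := (List.nodup_append.1 hE).1
    have hE2 := (List.nodup_append.1 hE).2.2
    rcases h0 with ⟨h2, -⟩ | ⟨h2, -⟩
    · rw [rep_wordProd_sr, rep_wordProd_sr] at h2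
      apply hab
      have h3 := List.nodup_iff_injective_get.1 hE1
      have h4 : (⟨a, by rw [List.length_map]; exact a.2⟩ : Fin (E.map (rf A i)).length) =
          ⟨b, by rw [List.length_map]; exact b.2⟩ := by
        apply h3
        simpa using h2
      have h5 := congrArg Fin.val h4
      exact Fin.ext h5
    · rw [rep_wordProd_sr, rep_wordProd_sr] at h2
      exact hE2 _ (List.mem_map_of_mem (List.get_mem E a)) _
        (List.mem_map_of_mem (f := fun ω => -rf A i ω) (List.get_mem E b)) h2)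
  rw [Finset.sum_const, Finset.card_univ, Fintype.card_fin, Fintype.card_fin, smul_eq_mul] at h1
  exact h1

omit [Nontrivial V] [FiniteDimensional k V] in
/-- an irreducible module with `J` everything is trivial -/
theorem triv_of_Jx_univ (hG : G1 cs h X = ⊤) [FiniteDimensional k V] [Nontrivial V] (hJ : ∀ i, i ∈ Jx cs h X ρ)
    (g : Y) (v : V) : ρ g v = v := by
  have h1 : ∀ v ∈ D cs h X ρ, ∀ g : Y, ρ g v = v := by
    intro v hv g
    have h2 : v ∈ fx ρ (RGD.Sup X {x | IsRoot cs h x}) := by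
      have h3 : RGD.Sup X {x | IsRoot cs h x} ≤
          ({ carrier := {g | ρ g v = v}
             one_mem' := rho_one ρ _
             mul_mem' := by
               intro a b (ha : ρ a _ = _) (hb : ρ b _ = _)
               change ρ (a * b) _ = _
               rw [rho_mul, hb, ha]
             inv_mem' := by
               intro a (ha : ρ a _ = _)
               change ρ a⁻¹ _ = _
               conv_lhs => rw [← ha]
               exact rho_inv_rho ρ a _ } : Subgroup Y) := by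
        refine RGD.Sup_le fun x hx u hu => ?_
        exact X_fix_J R hirr (x := x) ⟨hx, fun j hj => absurd (hJ j) hj⟩ hu hv
      exact fun g hg => h3 hg
    have h3 : g ∈ RGD.Sup X {x | IsRoot cs h x} := by
      have : G1 cs h X = RGD.Sup X {x | IsRoot cs h x} := rfl
      rw [← this, hG]; trivial
    exact h2 g h3
  rcases hirr (D cs h X ρ) (fun g _ v hv => by rw [h1 v hv g]; exact hv) with h0 | h0
  · exact absurd h0 (simp_fx R ρ hirr).ne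
  · exact h1 v (by rw [h0]; trivial) g

/-- the combination -/
theorem natural_of_words {o : I} (hG : G1 cs h X = ⊤) (hn : Module.finrank k V ≤ 12)
    (hnt : ∃ (g : Y) (v : V), ρ g v ≠ v)
    (hL : ∀ i, i ≠ o → ∃ L : List (List I), (L.map (cf A i)).Nodup ∧ 13 ≤ L.length)
    (hE : ∃ L E : List (List I), (L.map (cf A o)).Nodup ∧ (E.map (rf A o) ++ E.map (fun ω => -rf A o ω)).Nodup ∧
      7 ≤ L.length ∧ 13 ≤ L.length + E.length) :
    (∀ i, i ∈ Jx cs h X ρ ↔ i ≠ o) ∧ Module.finrank k (D cs h X ρ) = 1 ∧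
      Module.finrank k (Le cs h T X ρ {o}) ≤ 2 := by
  have hD1 : 1 ≤ Module.finrank k (D cs h X ρ) := by
    rw [Nat.one_le_iff_ne_zero]
    intro h0
    exact (simp_fx R ρ hirr).ne (Submodule.finrank_eq_zero.1 h0)
  have hJ : ∀ i, i ≠ o → i ∈ Jx cs h X ρ := by
    intro i hi
    by_contra hiJ
    obtain ⟨L, h1, h2⟩ := hL i hi
    have h3 := dim_words R hirr hiJ L h1 [] (by simp)
    have h4 : 13 * 1 ≤ L.length * Module.finrank k (D cs h X ρ) := Nat.mul_le_mul h2 hD1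
    omega
  have ho : o ∉ Jx cs h X ρ := by
    intro ho
    obtain ⟨g, v, hgv⟩ := hnt
    refine hgv (triv_of_Jx_univ R hirr hG (fun i => ?_) g v)
    by_cases hi : i = o
    · rw [hi]; exact ho
    · exact hJ i hi
  obtain ⟨L, E, h1, h2, h3, h4⟩ := hE
  have h5 := dim_words R hirr ho L h1 E h2
  have hD : Module.finrank k (D cs h X ρ) = 1 := by
    by_contra hne
    have h6 : 7 * 2 ≤ L.length * Module.finrank k (D cs h X ρ) := Nat.mul_le_mul h3 (by omega)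
    omega
  rw [hD, mul_one] at h5
  have hIo : Module.finrank k (Io cs h T X ρ o) = 0 := by
    by_contra hne
    have h6 : E.length * 1 ≤ E.length * Module.finrank k (Io cs h T X ρ o) := Nat.mul_le_mul le_rfl (by omega)
    omega
  refine ⟨fun i => ⟨fun hi e => ho (e ▸ hi), hJ i⟩, hD, ?_⟩
  have h7 := finrank_Io R hirr (ρ := ρ) o
  omega

end

/-- Cartan matrix -/
def mAB4 : Fin 4 → Fin 4 → ℤ := ![![2, -1, 0, 0], ![-1, 2, -1, 0], ![0, -1, 2, -2], ![0, 0, -1, 2]]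

theorem mAB4_eq : (Nodes.TypeC.A 4) = mAB4 := by
  funext i j
  rw [Nodes.TypeC.A_apply]
  revert i j
  decide +kernel

section

variable {W Y : Type*} [Group W] [Group Y] {cs : CoxeterSystem (CoxeterMatrix.B 4) W} {p : ℕ} {T : Subgroup Y} {n : Fin 4 → Y}
  {X : (Fin 4 → ℤ) → Subgroup Y} {k V : Type*} [Field k] [AddCommGroup V] [Module k V]

theorem small_B4 (R : RGD cs (Nodes.TypeC.isCartan 4) p T n X) [Finite Y] [Finite W] [Fact p.Prime] [CharP k p]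
    {ρ : Y →* Module.End k V} [FiniteDimensional k V] [Nontrivial V]
    (hirr : ∀ L : Submodule k V, Ivt ρ (GG cs (Nodes.TypeC.isCartan 4) T X) L → L = ⊥ ∨ L = ⊤)
    (hG : G1 cs (Nodes.TypeC.isCartan 4) X = ⊤) (hn : Module.finrank k V ≤ 12) (hnt : ∃ (g : Y) (v : V), ρ g v ≠ v) :
    (∀ i, i ∈ Jx cs (Nodes.TypeC.isCartan 4) X ρ ↔ i ≠ 0) ∧ Module.finrank k (D cs (Nodes.TypeC.isCartan 4) X ρ) = 1 ∧
      Module.finrank k (Le cs (Nodes.TypeC.isCartan 4) T X ρ {0}) ≤ 2 := by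
  refine natural_of_words R hirr hG hn hnt ?_ ?_
  · intro i hi
    rw [mAB4_eq]
    fin_cases i
    · exact absurd rfl hi
    · exact ⟨[[], [1], [1, 0], [1, 2], [1, 0, 2], [1, 2, 3], [1, 0, 2, 1], [1, 0, 2, 3], [1, 2, 3, 2], [1, 0, 2, 1, 3], [1, 0, 2, 3, 2], [1, 2, 3, 2, 1], [1, 0, 2, 1, 3, 2]], by decide +kernel, by decide⟩
    · exact ⟨[[], [2], [2, 1], [2, 3], [2, 1, 0], [2, 1, 3], [2, 3, 2], [2, 1, 0, 3], [2, 1, 3, 2], [2, 3, 2, 1], [2, 1, 0, 3, 2], [2, 1, 3, 2, 1], [2, 1, 3, 2, 3]], by decide +kernel, by decide⟩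
    · exact ⟨[[], [3], [3, 2], [3, 2, 1], [3, 2, 3], [3, 2, 1, 0], [3, 2, 1, 3], [3, 2, 1, 0, 3], [3, 2, 1, 3, 2], [3, 2, 1, 0, 3, 2], [3, 2, 1, 3, 2, 3], [3, 2, 1, 0, 3, 2, 1], [3, 2, 1, 0, 3, 2, 3]], by decide +kernel, by decide⟩
  · rw [mAB4_eq]
    exact ⟨[[], [0], [0, 1], [0, 1, 2], [0, 1, 2, 3], [0, 1, 2, 3, 2], [0, 1, 2, 3, 2, 1], [0, 1, 2, 3, 2, 1, 0]], [[], [1], [0, 1], [2, 1], [2, 0, 1]], by decide +kernel, by decide +kernel, by decide, by decide⟩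

end

/-- Cartan matrix -/
def mAB5 : Fin 5 → Fin 5 → ℤ := ![![2, -1, 0, 0, 0], ![-1, 2, -1, 0, 0], ![0, -1, 2, -1, 0], ![0, 0, -1, 2, -2], ![0, 0, 0, -1, 2]]

theorem mAB5_eq : (Nodes.TypeC.A 5) = mAB5 := by
  funext i j
  rw [Nodes.TypeC.A_apply]
  revert i j
  decide +kernel

section

variable {W Y : Type*} [Group W] [Group Y] {cs : CoxeterSystem (CoxeterMatrix.B 5) W} {p : ℕ} {T : Subgroup Y} {n : Fin 5 → Y}
  {X : (Fin 5 → ℤ) → Subgroup Y} {k V : Type*} [Field k] [AddCommGroup V] [Module k V]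

theorem small_B5 (R : RGD cs (Nodes.TypeC.isCartan 5) p T n X) [Finite Y] [Finite W] [Fact p.Prime] [CharP k p]
    {ρ : Y →* Module.End k V} [FiniteDimensional k V] [Nontrivial V]
    (hirr : ∀ L : Submodule k V, Ivt ρ (GG cs (Nodes.TypeC.isCartan 5) T X) L → L = ⊥ ∨ L = ⊤)
    (hG : G1 cs (Nodes.TypeC.isCartan 5) X = ⊤) (hn : Module.finrank k V ≤ 12) (hnt : ∃ (g : Y) (v : V), ρ g v ≠ v) :
    (∀ i, i ∈ Jx cs (Nodes.TypeC.isCartan 5) X ρ ↔ i ≠ 0) ∧ Module.finrank k (D cs (Nodes.TypeC.isCartan 5) X ρ) = 1 ∧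
      Module.finrank k (Le cs (Nodes.TypeC.isCartan 5) T X ρ {0}) ≤ 2 := by
  refine natural_of_words R hirr hG hn hnt ?_ ?_
  · intro i hi
    rw [mAB5_eq]
    fin_cases i
    · exact absurd rfl hi
    · exact ⟨[[], [1], [1, 0], [1, 2], [1, 0, 2], [1, 2, 3], [1, 0, 2, 1], [1, 0, 2, 3], [1, 2, 3, 4], [1, 0, 2, 1, 3], [1, 0, 2, 3, 4], [1, 2, 3, 4, 3], [1, 0, 2, 1, 3, 2]], by decide +kernel, by decide⟩
    · exact ⟨[[], [2], [2, 1], [2, 3], [2, 1, 0], [2, 1, 3], [2, 3, 4], [2, 1, 0, 3], [2, 1, 3, 2], [2, 1, 3, 4], [2, 3, 4, 3], [2, 1, 0, 3, 2], [2, 1, 0, 3, 4]], by decide +kernel, by decide⟩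
    · exact ⟨[[], [3], [3, 2], [3, 4], [3, 2, 1], [3, 2, 4], [3, 4, 3], [3, 2, 1, 0], [3, 2, 1, 4], [3, 2, 4, 3], [3, 4, 3, 2], [3, 2, 1, 0, 4], [3, 2, 1, 4, 3]], by decide +kernel, by decide⟩
    · exact ⟨[[], [4], [4, 3], [4, 3, 2], [4, 3, 4], [4, 3, 2, 1], [4, 3, 2, 4], [4, 3, 2, 1, 0], [4, 3, 2, 1, 4], [4, 3, 2, 4, 3], [4, 3, 2, 1, 0, 4], [4, 3, 2, 1, 4, 3], [4, 3, 2, 4, 3, 4]], by decide +kernel, by decide⟩
  · rw [mAB5_eq]
    exact ⟨[[], [0], [0, 1], [0, 1, 2], [0, 1, 2, 3], [0, 1, 2, 3, 4], [0, 1, 2, 3, 4, 3], [0, 1, 2, 3, 4, 3, 2], [0, 1, 2, 3, 4, 3, 2, 1], [0, 1, 2, 3, 4, 3, 2, 1, 0]], [[], [1], [0, 1]], by decide +kernel, by decide +kernel, by decide, by decide⟩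

end

/-- Cartan matrix -/
def mAB6 : Fin 6 → Fin 6 → ℤ := ![![2, -1, 0, 0, 0, 0], ![-1, 2, -1, 0, 0, 0], ![0, -1, 2, -1, 0, 0], ![0, 0, -1, 2, -1, 0], ![0, 0, 0, -1, 2, -2], ![0, 0, 0, 0, -1, 2]]

theorem mAB6_eq : (Nodes.TypeC.A 6) = mAB6 := by
  funext i j
  rw [Nodes.TypeC.A_apply]
  revert i j
  decide +kernel

section

variable {W Y : Type*} [Group W] [Group Y] {cs : CoxeterSystem (CoxeterMatrix.B 6) W} {p : ℕ} {T : Subgroup Y} {n : Fin 6 → Y}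
  {X : (Fin 6 → ℤ) → Subgroup Y} {k V : Type*} [Field k] [AddCommGroup V] [Module k V]

theorem small_B6 (R : RGD cs (Nodes.TypeC.isCartan 6) p T n X) [Finite Y] [Finite W] [Fact p.Prime] [CharP k p]
    {ρ : Y →* Module.End k V} [FiniteDimensional k V] [Nontrivial V]
    (hirr : ∀ L : Submodule k V, Ivt ρ (GG cs (Nodes.TypeC.isCartan 6) T X) L → L = ⊥ ∨ L = ⊤)
    (hG : G1 cs (Nodes.TypeC.isCartan 6) X = ⊤) (hn : Module.finrank k V ≤ 12) (hnt : ∃ (g : Y) (v : V), ρ g v ≠ v) :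
    (∀ i, i ∈ Jx cs (Nodes.TypeC.isCartan 6) X ρ ↔ i ≠ 0) ∧ Module.finrank k (D cs (Nodes.TypeC.isCartan 6) X ρ) = 1 ∧
      Module.finrank k (Le cs (Nodes.TypeC.isCartan 6) T X ρ {0}) ≤ 2 := by
  refine natural_of_words R hirr hG hn hnt ?_ ?_
  · intro i hi
    rw [mAB6_eq]
    fin_cases i
    · exact absurd rfl hi
    · exact ⟨[[], [1], [1, 0], [1, 2], [1, 0, 2], [1, 2, 3], [1, 0, 2, 1], [1, 0, 2, 3], [1, 2, 3, 4], [1, 0, 2, 1, 3], [1, 0, 2, 3, 4], [1, 2, 3, 4, 5], [1, 0, 2, 1, 3, 2]], by decide +kernel, by decide⟩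
    · exact ⟨[[], [2], [2, 1], [2, 3], [2, 1, 0], [2, 1, 3], [2, 3, 4], [2, 1, 0, 3], [2, 1, 3, 2], [2, 1, 3, 4], [2, 3, 4, 5], [2, 1, 0, 3, 2], [2, 1, 0, 3, 4]], by decide +kernel, by decide⟩
    · exact ⟨[[], [3], [3, 2], [3, 4], [3, 2, 1], [3, 2, 4], [3, 4, 5], [3, 2, 1, 0], [3, 2, 1, 4], [3, 2, 4, 3], [3, 2, 4, 5], [3, 4, 5, 4], [3, 2, 1, 0, 4]], by decide +kernel, by decide⟩
    · exact ⟨[[], [4], [4, 3], [4, 5], [4, 3, 2], [4, 3, 5], [4, 5, 4], [4, 3, 2, 1], [4, 3, 2, 5], [4, 3, 5, 4], [4, 5, 4, 3], [4, 3, 2, 1, 0], [4, 3, 2, 1, 5]], by decide +kernel, by decide⟩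
    · exact ⟨[[], [5], [5, 4], [5, 4, 3], [5, 4, 5], [5, 4, 3, 2], [5, 4, 3, 5], [5, 4, 3, 2, 1], [5, 4, 3, 2, 5], [5, 4, 3, 5, 4], [5, 4, 3, 2, 1, 0], [5, 4, 3, 2, 1, 5], [5, 4, 3, 2, 5, 4]], by decide +kernel, by decide⟩
  · rw [mAB6_eq]
    exact ⟨[[], [0], [0, 1], [0, 1, 2], [0, 1, 2, 3], [0, 1, 2, 3, 4], [0, 1, 2, 3, 4, 5], [0, 1, 2, 3, 4, 5, 4], [0, 1, 2, 3, 4, 5, 4, 3], [0, 1, 2, 3, 4, 5, 4, 3, 2], [0, 1, 2, 3, 4, 5, 4, 3, 2, 1], [0, 1, 2, 3, 4, 5, 4, 3, 2, 1, 0]], [[], [1]], by decide +kernel, by decide +kernel, by decide, by decide⟩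

end

/-- Cartan matrix -/
def mAD5 : Fin 5 → Fin 5 → ℤ := ![![2, -1, 0, 0, 0], ![-1, 2, -1, 0, 0], ![0, -1, 2, -1, -1], ![0, 0, -1, 2, 0], ![0, 0, -1, 0, 2]]

theorem mAD5_eq : (Nodes.TypeD.A 3) = mAD5 := by
  funext i j
  rw [Nodes.TypeD.A_apply]
  revert i j
  decide +kernel

section

variable {W Y : Type*} [Group W] [Group Y] {cs : CoxeterSystem (Nodes.TypeD.M 3) W} {p : ℕ} {T : Subgroup Y} {n : Fin 5 → Y}
  {X : (Fin 5 → ℤ) → Subgroup Y} {k V : Type*} [Field k] [AddCommGroup V] [Module k V]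

theorem small_D5 (R : RGD cs (Nodes.TypeD.isCartan 3) p T n X) [Finite Y] [Finite W] [Fact p.Prime] [CharP k p]
    {ρ : Y →* Module.End k V} [FiniteDimensional k V] [Nontrivial V]
    (hirr : ∀ L : Submodule k V, Ivt ρ (GG cs (Nodes.TypeD.isCartan 3) T X) L → L = ⊥ ∨ L = ⊤)
    (hG : G1 cs (Nodes.TypeD.isCartan 3) X = ⊤) (hn : Module.finrank k V ≤ 12) (hnt : ∃ (g : Y) (v : V), ρ g v ≠ v) :
    (∀ i, i ∈ Jx cs (Nodes.TypeD.isCartan 3) X ρ ↔ i ≠ 0) ∧ Module.finrank k (D cs (Nodes.TypeD.isCartan 3) X ρ) = 1 ∧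
      Module.finrank k (Le cs (Nodes.TypeD.isCartan 3) T X ρ {0}) ≤ 2 := by
  refine natural_of_words R hirr hG hn hnt ?_ ?_
  · intro i hi
    rw [mAD5_eq]
    fin_cases i
    · exact absurd rfl hi
    · exact ⟨[[], [1], [1, 0], [1, 2], [1, 0, 2], [1, 2, 3], [1, 2, 4], [1, 0, 2, 1], [1, 0, 2, 3], [1, 0, 2, 4], [1, 2, 3, 4], [1, 0, 2, 1, 3], [1, 0, 2, 1, 4]], by decide +kernel, by decide⟩
    · exact ⟨[[], [2], [2, 1], [2, 3], [2, 4], [2, 1, 0], [2, 1, 3], [2, 1, 4], [2, 3, 4], [2, 1, 0, 3], [2, 1, 0, 4], [2, 1, 3, 2], [2, 1, 3, 4]], by decide +kernel, by decide⟩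
    · exact ⟨[[], [3], [3, 2], [3, 2, 1], [3, 2, 4], [3, 2, 1, 0], [3, 2, 1, 4], [3, 2, 1, 0, 4], [3, 2, 1, 4, 2], [3, 2, 1, 0, 4, 2], [3, 2, 1, 4, 2, 3], [3, 2, 1, 0, 4, 2, 1], [3, 2, 1, 0, 4, 2, 3]], by decide +kernel, by decide⟩
    · exact ⟨[[], [4], [4, 2], [4, 2, 1], [4, 2, 3], [4, 2, 1, 0], [4, 2, 1, 3], [4, 2, 1, 0, 3], [4, 2, 1, 3, 2], [4, 2, 1, 0, 3, 2], [4, 2, 1, 3, 2, 4], [4, 2, 1, 0, 3, 2, 1], [4, 2, 1, 0, 3, 2, 4]], by decide +kernel, by decide⟩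
  · rw [mAD5_eq]
    exact ⟨[[], [0], [0, 1], [0, 1, 2], [0, 1, 2, 3], [0, 1, 2, 4], [0, 1, 2, 3, 4], [0, 1, 2, 3, 4, 2], [0, 1, 2, 3, 4, 2, 1], [0, 1, 2, 3, 4, 2, 1, 0]], [[], [1], [0, 1]], by decide +kernel, by decide +kernel, by decide, by decide⟩

end

/-- Cartan matrix -/
def mAD6 : Fin 6 → Fin 6 → ℤ := ![![2, -1, 0, 0, 0, 0], ![-1, 2, -1, 0, 0, 0], ![0, -1, 2, -1, 0, 0], ![0, 0, -1, 2, -1, -1], ![0, 0, 0, -1, 2, 0], ![0, 0, 0, -1, 0, 2]]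

theorem mAD6_eq : (Nodes.TypeD.A 4) = mAD6 := by
  funext i j
  rw [Nodes.TypeD.A_apply]
  revert i j
  decide +kernel

section

variable {W Y : Type*} [Group W] [Group Y] {cs : CoxeterSystem (Nodes.TypeD.M 4) W} {p : ℕ} {T : Subgroup Y} {n : Fin 6 → Y}
  {X : (Fin 6 → ℤ) → Subgroup Y} {k V : Type*} [Field k] [AddCommGroup V] [Module k V]

theorem small_D6 (R : RGD cs (Nodes.TypeD.isCartan 4) p T n X) [Finite Y] [Finite W] [Fact p.Prime] [CharP k p]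
    {ρ : Y →* Module.End k V} [FiniteDimensional k V] [Nontrivial V]
    (hirr : ∀ L : Submodule k V, Ivt ρ (GG cs (Nodes.TypeD.isCartan 4) T X) L → L = ⊥ ∨ L = ⊤)
    (hG : G1 cs (Nodes.TypeD.isCartan 4) X = ⊤) (hn : Module.finrank k V ≤ 12) (hnt : ∃ (g : Y) (v : V), ρ g v ≠ v) :
    (∀ i, i ∈ Jx cs (Nodes.TypeD.isCartan 4) X ρ ↔ i ≠ 0) ∧ Module.finrank k (D cs (Nodes.TypeD.isCartan 4) X ρ) = 1 ∧
      Module.finrank k (Le cs (Nodes.TypeD.isCartan 4) T X ρ {0}) ≤ 2 := by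
  refine natural_of_words R hirr hG hn hnt ?_ ?_
  · intro i hi
    rw [mAD6_eq]
    fin_cases i
    · exact absurd rfl hi
    · exact ⟨[[], [1], [1, 0], [1, 2], [1, 0, 2], [1, 2, 3], [1, 0, 2, 1], [1, 0, 2, 3], [1, 2, 3, 4], [1, 2, 3, 5], [1, 0, 2, 1, 3], [1, 0, 2, 3, 4], [1, 0, 2, 3, 5]], by decide +kernel, by decide⟩
    · exact ⟨[[], [2], [2, 1], [2, 3], [2, 1, 0], [2, 1, 3], [2, 3, 4], [2, 3, 5], [2, 1, 0, 3], [2, 1, 3, 2], [2, 1, 3, 4], [2, 1, 3, 5], [2, 3, 4, 5]], by decide +kernel, by decide⟩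
    · exact ⟨[[], [3], [3, 2], [3, 4], [3, 5], [3, 2, 1], [3, 2, 4], [3, 2, 5], [3, 4, 5], [3, 2, 1, 0], [3, 2, 1, 4], [3, 2, 1, 5], [3, 2, 4, 3]], by decide +kernel, by decide⟩
    · exact ⟨[[], [4], [4, 3], [4, 3, 2], [4, 3, 5], [4, 3, 2, 1], [4, 3, 2, 5], [4, 3, 2, 1, 0], [4, 3, 2, 1, 5], [4, 3, 2, 5, 3], [4, 3, 2, 1, 0, 5], [4, 3, 2, 1, 5, 3], [4, 3, 2, 5, 3, 4]], by decide +kernel, by decide⟩
    · exact ⟨[[], [5], [5, 3], [5, 3, 2], [5, 3, 4], [5, 3, 2, 1], [5, 3, 2, 4], [5, 3, 2, 1, 0], [5, 3, 2, 1, 4], [5, 3, 2, 4, 3], [5, 3, 2, 1, 0, 4], [5, 3, 2, 1, 4, 3], [5, 3, 2, 4, 3, 5]], by decide +kernel, by decide⟩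
  · rw [mAD6_eq]
    exact ⟨[[], [0], [0, 1], [0, 1, 2], [0, 1, 2, 3], [0, 1, 2, 3, 4], [0, 1, 2, 3, 5], [0, 1, 2, 3, 4, 5], [0, 1, 2, 3, 4, 5, 3], [0, 1, 2, 3, 4, 5, 3, 2], [0, 1, 2, 3, 4, 5, 3, 2, 1], [0, 1, 2, 3, 4, 5, 3, 2, 1, 0]], [[], [1]], by decide +kernel, by decide +kernel, by decide, by decide⟩

end

end Cfsg.Agent.H925.Nat
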