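import Cfsg.Agent.H914.Quad
import Cfsg.Agent.H920.FormUniq
import Cfsg.Agent.H925.OrthBasic
import Cfsg.Agent.H931.SpProper
import Cfsg.Agent.H915.LD
import Cfsg.Agent.H924.SympForm

/-!
# Classical groups up to a change of the basis (helper925)

`CjOf S P` : there is `θ : F^ν ≃ F^ι` with `P = θ S θ⁻¹`.

* `omegaGL_absIrr` : `Ω(Q)` is absolutely irreducible in dimension at least five;
* `omegaGL_eq`, `map_omegaGL_of` : `Ω` under isomorphisms of general linear groups;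
* `CjOf.card_eq`; `CjOf.omega_form` : `P = Ω(Q₁)`; `CjOf.fixQ`; `CjOf.omega_eq` : `P = Ω(Q₀)` for every non-degenerate `Q₀`
  fixed by `P`; `CjOf.not_maximal_omega`;
* `CjOf.fixA`, `CjOf.sp_mem_iff`, `CjOf.sp_eq`, `CjOf.sp_not_fixQ`, `CjOf.not_maximal_sp`.
-/

set_option autoImplicit false
set_option linter.unusedSectionVars false

namespace Cfsg.Agent.H925.Nat

open Cfsg Cfsg.Geo QuadraticMap
open Cfsg.Agent.LieClassical.OrthCore Cfsg.Agent.LieClassical.OrthTrans Cfsg.Agent.LieClassical.OrthFinite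
open Cfsg.Agent.H915.LD
open scoped MatrixGroups Matrix

/-! ### conjugation by a linear equivalence -/

section conj

variable {ν ι : Type} [Fintype ν] [DecidableEq ν] [Fintype ι] [DecidableEq ι] {F : Type*} [Field F]

/-- conjugation -/
def cjE (θ : (ν → F) ≃ₗ[F] (ι → F)) : ((ν → F) ≃ₗ[F] (ν → F)) ≃* ((ι → F) ≃ₗ[F] (ι → F)) where
  toFun g := (θ.symm.trans g).trans θ
  invFun g := (θ.trans g).trans θ.symm
  left_inv g := by ext1 v; simp
  right_inv g := by ext1 v; simp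
  map_mul' g g' := by
    apply LinearEquiv.ext
    intro v
    change θ (g (g' (θ.symm v))) = θ (g (θ.symm (θ (g' (θ.symm v)))))
    rw [LinearEquiv.symm_apply_apply]

/-- conjugation of matrices -/
noncomputable def cjG (θ : (ν → F) ≃ₗ[F] (ι → F)) : GL ν F ≃* GL ι F :=
  (glEquiv ν F).trans ((cjE θ).trans (glEquiv ι F).symm)

theorem cjG_mulVec (θ : (ν → F) ≃ₗ[F] (ι → F)) (B : GL ν F) (w : ι → F) :
    (cjG θ B : Matrix ι ι F) *ᵥ w = θ ((B : Matrix ν ν F) *ᵥ θ.symm w) := by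
  rw [← glEquiv_apply]
  change glEquiv ι F ((glEquiv ι F).symm (cjE θ (glEquiv ν F B))) w = _
  rw [MulEquiv.apply_symm_apply]
  rfl

/-- `P = θ S θ⁻¹` -/
def CjOf (S : Subgroup (GL ν F)) (P : Subgroup (GL ι F)) : Prop :=
  ∃ θ : (ν → F) ≃ₗ[F] (ι → F), ∀ A : GL ι F,
    A ∈ P ↔ ∃ B ∈ S, ∀ v, θ ((B : Matrix ν ν F) *ᵥ v) = (A : Matrix ι ι F) *ᵥ θ v

theorem GL_ext {A B : GL ι F} (h : ∀ v, (A : Matrix ι ι F) *ᵥ v = (B : Matrix ι ι F) *ᵥ v) : A = B := by
  apply (glEquiv ι F).injective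
  ext1 v
  exact h v

theorem cjOf_iff {S : Subgroup (GL ν F)} {P : Subgroup (GL ι F)} :
    CjOf S P ↔ ∃ θ : (ν → F) ≃ₗ[F] (ι → F), P = S.map (cjG θ).toMonoidHom := by
  constructor
  · rintro ⟨θ, h⟩
    refine ⟨θ, ?_⟩
    ext A
    rw [h]
    constructor
    · rintro ⟨B, hB, e⟩
      refine ⟨B, hB, GL_ext fun w => ?_⟩
      change (cjG θ B : Matrix ι ι F) *ᵥ w = _
      rw [cjG_mulVec, e, LinearEquiv.apply_symm_apply]
    · rintro ⟨B, hB, rfl⟩
      refine ⟨B, hB, fun v => ?_⟩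
      change _ = (cjG θ B : Matrix ι ι F) *ᵥ θ v
      rw [cjG_mulVec, LinearEquiv.symm_apply_apply]
  · rintro ⟨θ, rfl⟩
    refine ⟨θ, fun A => ?_⟩
    constructor
    · rintro ⟨B, hB, rfl⟩
      refine ⟨B, hB, fun v => ?_⟩
      change _ = (cjG θ B : Matrix ι ι F) *ᵥ θ v
      rw [cjG_mulVec, LinearEquiv.symm_apply_apply]
    · rintro ⟨B, hB, e⟩
      refine ⟨B, hB, GL_ext fun w => ?_⟩
      change (cjG θ B : Matrix ι ι F) *ᵥ w = _
      rw [cjG_mulVec, e, LinearEquiv.apply_symm_apply]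

theorem CjOf.card_eq {S : Subgroup (GL ν F)} {P : Subgroup (GL ι F)} (h : CjOf S P) :
    Fintype.card ι = Fintype.card ν := by
  obtain ⟨θ, -⟩ := h
  have := LinearEquiv.finrank_eq θ
  rw [Module.finrank_fintype_fun_eq_card, Module.finrank_fintype_fun_eq_card] at this
  exact this.symm

end conj

/-! ### orthogonal groups -/

section omega

variable {ν ι : Type} [Fintype ν] [DecidableEq ν] [Fintype ι] [DecidableEq ι]

theorem omegaGL_eq {F : Type*} [Field F] (Q : (ι → F) → F) :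
    omegaGL Q = ⁅Cfsg.isometryGroup F Q, Cfsg.isometryGroup F Q⁆ := by
  unfold omegaGL Omega
  rw [commutator_def, Subgroup.map_commutator, ← MonoidHom.range_eq_map, Subgroup.range_subtype]

theorem map_omegaGL_of {K F : Type*} [Field K] [Field F] {Q : (ν → K) → K} {Q' : (ι → F) → F}
    (e : GL ν K ≃* GL ι F) (h : (Cfsg.isometryGroup K Q).map e.toMonoidHom = Cfsg.isometryGroup F Q') :
    (omegaGL Q).map e.toMonoidHom = omegaGL Q' := by
  rw [omegaGL_eq, omegaGL_eq, Subgroup.map_commutator, h]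

/-- an isomorphism of fields on matrices -/
def glm (ν : Type) [Fintype ν] [DecidableEq ν] {K F : Type*} [Field K] [Field F] (τ : K ≃+* F) : GL ν K ≃* GL ν F :=
  Units.mapEquiv (RingEquiv.mapMatrix (m := ν) τ).toMulEquiv

theorem glm_coe {K F : Type*} [Field K] [Field F] (τ : K ≃+* F) (A : GL ν K) :
    (glm ν τ A : Matrix ν ν F) = (A : Matrix ν ν K).map (τ : K →+* F) := rfl

theorem map_mulVec {K F : Type*} [Field K] [Field F] (τ : K ≃+* F) (A : Matrix ν ν K) (v : ν → K) :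
    (A.map (τ : K →+* F)) *ᵥ (fun i => τ (v i)) = fun i => τ ((A *ᵥ v) i) := by
  funext i
  simp [Matrix.mulVec, dotProduct, map_sum, map_mul]

theorem exists_pre {K F : Type*} [Field K] [Field F] (τ : K ≃+* F) (w : ν → F) : ∃ v : ν → K, w = fun i => τ (v i) :=
  ⟨fun i => τ.symm (w i), by funext i; simp⟩

theorem map_iso_glm {K F : Type*} [Field K] [Field F] (τ : K ≃+* F) {Q : (ν → K) → K} {Q' : (ν → F) → F}
    (h : ∀ v, Q' (fun i => τ (v i)) = τ (Q v)) :
    (Cfsg.isometryGroup K Q).map (glm ν τ).toMonoidHom = Cfsg.isometryGroup F Q' := by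
  ext A
  constructor
  · rintro ⟨B, hB, rfl⟩
    rw [mem_isometryGroup_iff]
    intro w
    obtain ⟨v, rfl⟩ := exists_pre τ w
    change Q' ((glm ν τ B : Matrix ν ν F) *ᵥ _) = _
    rw [glm_coe, map_mulVec, h, h, mem_isometryGroup_iff.1 hB v]
  · intro hA
    refine ⟨(glm ν τ).symm A, ?_, (glm ν τ).apply_symm_apply A⟩
    rw [SetLike.mem_coe, mem_isometryGroup_iff]
    intro v
    apply τ.injective
    rw [← h, ← h, ← map_mulVec, ← glm_coe, MulEquiv.apply_symm_apply]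
    exact mem_isometryGroup_iff.1 hA _

theorem map_omega_glm {K F : Type*} [Field K] [Field F] (τ : K ≃+* F) {Q : (ν → K) → K} {Q' : (ν → F) → F}
    (h : ∀ v, Q' (fun i => τ (v i)) = τ (Q v)) : (omegaGL Q).map (glm ν τ).toMonoidHom = omegaGL Q' :=
  map_omegaGL_of _ (map_iso_glm τ h)

variable {F : Type*} [Field F]

theorem map_iso_cjG (θ : (ν → F) ≃ₗ[F] (ι → F)) (Q : (ν → F) → F) :
    (Cfsg.isometryGroup F Q).map (cjG θ).toMonoidHom = Cfsg.isometryGroup F (fun w => Q (θ.symm w)) := by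
  ext A
  constructor
  · rintro ⟨B, hB, rfl⟩
    rw [mem_isometryGroup_iff]
    intro w
    change Q (θ.symm ((cjG θ B : Matrix ι ι F) *ᵥ w)) = _
    rw [cjG_mulVec, LinearEquiv.symm_apply_apply, mem_isometryGroup_iff.1 hB]
  · intro hA
    refine ⟨(cjG θ).symm A, ?_, (cjG θ).apply_symm_apply A⟩
    rw [SetLike.mem_coe, mem_isometryGroup_iff]
    intro v
    have h1 := mem_isometryGroup_iff.1 hA (θ v)
    rw [← (cjG θ).apply_symm_apply A, cjG_mulVec, LinearEquiv.symm_apply_apply, LinearEquiv.symm_apply_apply] at h1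
    exact h1

theorem isND_comp {Q : (ν → F) → F} (hQ : IsNondegenerateQuadraticForm Q) (θ : (ν → F) ≃ₗ[F] (ι → F)) :
    IsNondegenerateQuadraticForm (fun w => Q (θ.symm w)) := by
  have hp : ∀ u v, polar (fun w => Q (θ.symm w)) u v = polar Q (θ.symm u) (θ.symm v) := by
    intro u v
    simp only [polar, map_add]
  refine ⟨fun c v => by rw [map_smul, hQ.smul], ⟨?_, ?_, ?_, ?_⟩, ?_⟩
  · intro x y v
    rw [hp, hp, hp, map_add, hQ.polar_bilinear.add_left]
  · intro c x v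
    rw [hp, hp, map_smul, hQ.polar_bilinear.smul_left]
  · intro v x y
    rw [hp, hp, hp, map_add, hQ.polar_bilinear.add_right]
  · intro c v x
    rw [hp, hp, map_smul, hQ.polar_bilinear.smul_right]
  · intro v hv
    have hv' : θ.symm v ≠ 0 := fun h0 => hv (by simpa using h0)
    obtain ⟨⟨x, hx⟩, ⟨y, hy⟩⟩ := hQ.nondegenerate _ hv'
    exact ⟨⟨θ x, by rw [hp, LinearEquiv.symm_apply_apply]; exact hx⟩,
      ⟨θ y, by rw [hp, LinearEquiv.symm_apply_apply]; exact hy⟩⟩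

variable {P : Subgroup (GL ι F)}

theorem CjOf.omega_form {Q : (ν → F) → F} (hQ : IsNondegenerateQuadraticForm Q) (h : CjOf (omegaGL Q) P) :
    ∃ Q₁ : (ι → F) → F, IsNondegenerateQuadraticForm Q₁ ∧ P = omegaGL Q₁ ∧
      ∃ θ : (ν → F) ≃ₗ[F] (ι → F), ∀ v, Q₁ (θ v) = Q v := by
  obtain ⟨θ, rfl⟩ := cjOf_iff.1 h
  exact ⟨_, isND_comp hQ θ, map_omegaGL_of _ (map_iso_cjG θ Q), θ, fun v => by rw [LinearEquiv.symm_apply_apply]⟩

theorem omegaGL_fixes (Q : (ι → F) → F) : FixesQuadForm (matrixSet (omegaGL Q)) Q := by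
  rintro _ ⟨A, hA, rfl⟩ v
  exact mem_isometryGroup_iff.1 (omegaGL_le_iso Q hA) v

theorem CjOf.fixQ {Q : (ν → F) → F} (hQ : IsNondegenerateQuadraticForm Q) (h : CjOf (omegaGL Q) P) : FixQ P := by
  obtain ⟨Q₁, h1, rfl, -⟩ := h.omega_form hQ
  exact ⟨Q₁, h1, omegaGL_fixes Q₁⟩

/-- `Ω` only depends on the form up to a scalar. -/
theorem omegaGL_smul {Q Q' : (ι → F) → F} {c : F} (hc : c ≠ 0) (h : ∀ v, Q' v = c * Q v) : omegaGL Q' = omegaGL Q := by
  rw [omegaGL_eq, omegaGL_eq]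
  have h1 : Cfsg.isometryGroup F Q' = Cfsg.isometryGroup F Q := by
    ext A
    rw [mem_isometryGroup_iff, mem_isometryGroup_iff]
    refine forall_congr' fun v => ?_
    rw [h, h]
    exact mul_right_inj' hc
  rw [h1]

/-- **Two non-degenerate quadratic forms fixed by an absolutely irreducible group are proportional.** -/
theorem quad_prop [Finite F] [Nonempty ι] (hP : ActsAbsolutelyIrreducibly (matrixSet P)) {Q Q' : (ι → F) → F}
    (hQ : IsNondegenerateQuadraticForm Q) (hQ' : IsNondegenerateQuadraticForm Q')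
    (h : FixesQuadForm (matrixSet P) Q) (h' : FixesQuadForm (matrixSet P) Q') : ∃ c : F, c ≠ 0 ∧ ∀ v, Q' v = c * Q v := by
  have hp : FixesForm (matrixSet P) (polar Q) := H914.fixesForm_polar h
  have hp' : FixesForm (matrixSet P) (polar Q') := H914.fixesForm_polar h'
  obtain ⟨c, hc⟩ := H920.form_unique hP hQ.polar_bilinear hQ.nondegenerate hp hQ'.polar_bilinear hp'
  have hc0 : c ≠ 0 := by
    rintro rfl
    obtain ⟨i⟩ := (inferInstance : Nonempty ι)
    have hne : (Pi.single i 1 : ι → F) ≠ 0 := by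
      intro h0
      have := congrFun h0 i
      simp at this
    obtain ⟨⟨x, hx⟩, -⟩ := hQ'.nondegenerate _ hne
    exact hx (by rw [hc, zero_mul])
  refine ⟨c, hc0, fun v => ?_⟩
  refine H914.quad_unique hP.1 (Q := Q') (Q' := fun v => c * Q v) hQ'.smul (fun a v => by rw [hQ.smul]; ring) ?_ ?_ h' ?_ v
  · intro u v
    rw [hc]
    unfold polar
    ring
  · intro v hv
    exact (hQ'.nondegenerate v hv).1
  · intro s hs v
    simp only [h s hs v]

theorem CjOf.omega_eq [Finite F] [Nonempty ι] (hP : ActsAbsolutelyIrreducibly (matrixSet P)) {Q : (ν → F) → F}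
    (hQ : IsNondegenerateQuadraticForm Q) (h : CjOf (omegaGL Q) P) {Q₀ : (ι → F) → F}
    (hQ₀ : IsNondegenerateQuadraticForm Q₀) (hfix : FixesQuadForm (matrixSet P) Q₀) : P = omegaGL Q₀ := by
  obtain ⟨Q₁, h1, h2, -⟩ := h.omega_form hQ
  have h3 : FixesQuadForm (matrixSet P) Q₁ := by rw [h2]; exact omegaGL_fixes Q₁
  obtain ⟨c, hc, h4⟩ := quad_prop hP h1 hQ₀ h3 hfix
  rw [h2, omegaGL_smul hc h4]

/-- then the form is isometric to a multiple of the given one -/
theorem CjOf.omega_isometric [Finite F] [Nonempty ι] (hP : ActsAbsolutelyIrreducibly (matrixSet P)) {Q : (ν → F) → F}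
    (hQ : IsNondegenerateQuadraticForm Q) (h : CjOf (omegaGL Q) P) {Q₀ : (ι → F) → F}
    (hQ₀ : IsNondegenerateQuadraticForm Q₀) (hfix : FixesQuadForm (matrixSet P) Q₀) :
    ∃ (c : F) (θ : (ν → F) ≃ₗ[F] (ι → F)), c ≠ 0 ∧ ∀ v, Q₀ (θ v) = c * Q v := by
  obtain ⟨Q₁, h1, h2, θ, h5⟩ := h.omega_form hQ
  have h3 : FixesQuadForm (matrixSet P) Q₁ := by rw [h2]; exact omegaGL_fixes Q₁
  obtain ⟨c, hc, h4⟩ := quad_prop hP h1 hQ₀ h3 hfix
  exact ⟨c, θ, hc, fun v => by rw [h4, h5]⟩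

theorem CjOf.not_maximal_omega [Finite F] {H : Subgroup (GL ι F)} (hR : IsResidualCore H P) {Q : (ν → F) → F}
    (hQ : IsNondegenerateQuadraticForm Q) (h : CjOf (omegaGL Q) P) {Q₀ : (ι → F) → F}
    (hQ₀ : IsNondegenerateQuadraticForm Q₀) (hH : IsMaximalIn (omegaGL Q₀) H) : False := by
  have := (core_of_residual hR).nonempty
  have h1 : FixesQuadForm (matrixSet P) Q₀ := by
    rintro _ ⟨A, hA, rfl⟩ v
    exact omegaGL_fixes Q₀ _ ⟨A, hH.1.le (hR.le hA), rfl⟩ v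
  have h2 := h.omega_eq hR.absIrred hQ hQ₀ h1
  exact absurd hH.1 (not_lt_of_ge (h2 ▸ hR.le))

/-- **`Ω(Q)` is absolutely irreducible.** -/
theorem omegaGL_absIrr [Finite F] {Q : (ι → F) → F} (hQ : IsNondegenerateQuadraticForm Q)
    (hn : 5 ≤ Fintype.card ι) : ActsAbsolutelyIrreducibly (matrixSet (omegaGL Q)) := by
  have hirr : ActsIrreducibly (matrixSet (omegaGL Q)) := by
    intro W hW
    refine omegaGL_irreducible hQ hn W fun g hg w hw => ?_
    have := hW _ ⟨g, hg, rfl⟩ ⟨w, hw, rfl⟩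
    rwa [Matrix.toLin'_apply] at this
  refine ⟨hirr, fun M hM => ?_⟩
  have hG := good_qf hQ hn
  obtain ⟨x, y, hxy⟩ := hG.exists_hyp
  obtain ⟨a, c, h1, h2, h3, h4, h5⟩ := exists_perp2 hG.nondeg (by
    rw [Module.finrank_fintype_fun_eq_card]; omega) hxy
  have hQx : Q x = 0 := hxy.left
  obtain ⟨g, hg, hgv⟩ := exists_siegel hQ hn (u := x) (w := a) hQx h1
  obtain ⟨k, hk, hkv⟩ := exists_siegel hQ hn (u := x) (w := c) hQx h3
  have hMg : ∀ v, M *ᵥ ((g : Matrix ι ι F) *ᵥ v) = (g : Matrix ι ι F) *ᵥ (M *ᵥ v) := fun v => by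
    rw [Matrix.mulVec_mulVec, Matrix.mulVec_mulVec, hM _ ⟨g, hg, rfl⟩]
  have hMk : ∀ v, M *ᵥ ((k : Matrix ι ι F) *ᵥ v) = (k : Matrix ι ι F) *ᵥ (M *ᵥ v) := fun v => by
    rw [Matrix.mulVec_mulVec, Matrix.mulVec_mulVec, hM _ ⟨k, hk, rfl⟩]
  have h1' : polar Q x a = 0 := h1
  have h3' : polar Q x c = 0 := h3
  have h5' : polar Q a c = 1 := h5
  have hxx : polar Q x x = 0 := polar_self_of_sing (Q := qf hQ) hQx
  have hax : polar Q a x = 0 := by rw [polar_comm]; exact h1'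
  have hBa := hQ.polar_bilinear
  -- the operator of rank one
  have key : ∀ v, ((g : Matrix ι ι F) *ᵥ ((k : Matrix ι ι F) *ᵥ v - v) - ((k : Matrix ι ι F) *ᵥ v - v)) =
      (-polar Q x v) • x := by
    intro v
    have e1 : (k : Matrix ι ι F) *ᵥ v - v = polar Q x v • c - polar Q c v • x - (Q c * polar Q x v) • x := by
      rw [hkv]; abel
    have e2 : polar Q x ((k : Matrix ι ι F) *ᵥ v - v) = 0 := by
      rw [e1, sub_eq_add_neg, sub_eq_add_neg, hBa.add_right, hBa.add_right, ← neg_smul, ← neg_smul,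
        hBa.smul_right, hBa.smul_right, hBa.smul_right, h3', hxx]
      ring
    have e3 : polar Q a ((k : Matrix ι ι F) *ᵥ v - v) = polar Q x v := by
      rw [e1, sub_eq_add_neg, sub_eq_add_neg, hBa.add_right, hBa.add_right, ← neg_smul, ← neg_smul,
        hBa.smul_right, hBa.smul_right, hBa.smul_right, h5', hax]
      ring
    rw [hgv, e2, e3]
    module
  have hMx : M *ᵥ x = polar Q x (M *ᵥ y) • x := by
    have e1 := key y
    have e2 := key (M *ᵥ y)
    have hxy1 : polar Q x y = 1 := hxy.pair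
    rw [hxy1] at e1
    have e3 : M *ᵥ ((g : Matrix ι ι F) *ᵥ ((k : Matrix ι ι F) *ᵥ y - y) - ((k : Matrix ι ι F) *ᵥ y - y)) =
        (g : Matrix ι ι F) *ᵥ ((k : Matrix ι ι F) *ᵥ (M *ᵥ y) - M *ᵥ y) -
          ((k : Matrix ι ι F) *ᵥ (M *ᵥ y) - M *ᵥ y) := by
      rw [Matrix.mulVec_sub, hMg, Matrix.mulVec_sub, hMk]
    rw [e1, e2, Matrix.mulVec_smul] at e3
    have e4 : M *ᵥ x = (-1 : F) • ((-1 : F) • M *ᵥ x) := by rw [smul_smul]; simp
    rw [e4, e3, smul_smul]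
    simp
  set l := polar Q x (M *ᵥ y) with hl
  refine ⟨l, ?_⟩
  let W : Submodule F (ι → F) :=
    { carrier := {v | M *ᵥ v = l • v}
      add_mem' := fun {u v} (hu : M *ᵥ u = l • u) (hv : M *ᵥ v = l • v) => by
        change M *ᵥ (u + v) = l • (u + v)
        rw [Matrix.mulVec_add, hu, hv, smul_add]
      zero_mem' := by
        change M *ᵥ 0 = l • 0
        rw [Matrix.mulVec_zero, smul_zero]
      smul_mem' := fun b v (hv : M *ᵥ v = l • v) => by
        change M *ᵥ (b • v) = l • (b • v)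
        rw [Matrix.mulVec_smul, hv, smul_comm] }
  rcases hirr W (by
    rintro _ ⟨s, hs, rfl⟩ _ ⟨v, hv, rfl⟩
    rw [Matrix.toLin'_apply]
    change M *ᵥ ((s : Matrix ι ι F) *ᵥ v) = l • ((s : Matrix ι ι F) *ᵥ v)
    have hv' : M *ᵥ v = l • v := hv
    rw [Matrix.mulVec_mulVec, hM _ ⟨s, hs, rfl⟩, ← Matrix.mulVec_mulVec, hv', Matrix.mulVec_smul]) with h | h
  · exfalso
    have hx : x ∈ W := hMx
    rw [h, Submodule.mem_bot] at hx
    subst hx
    have := hxy.pair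
    rw [polar_zero_left] at this
    exact zero_ne_one this
  · apply Matrix.toLin'.injective
    refine LinearMap.ext fun v => ?_
    have hv : v ∈ W := by rw [h]; trivial
    rw [Matrix.toLin'_apply, Matrix.toLin'_apply, Matrix.smul_mulVec, Matrix.one_mulVec]
    exact hv

end omega

/-! ### symplectic groups -/

section sp

variable {ι : Type} [Fintype ι] [DecidableEq ι] {F : Type*} [Field F] {P : Subgroup (GL ι F)} {m : ℕ}

theorem symp_form (m : ℕ) (F : Type*) [Field F] : IsSymplecticForm (sympForm m F) := H924.isSymplecticForm_sympForm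

theorem CjOf.sp_form (h : CjOf (spGL m F) P) : ∃ f : (ι → F) → (ι → F) → F, IsSymplecticForm f ∧
    (∀ A : GL ι F, A ∈ P ↔ ∀ u v, f ((A : Matrix ι ι F) *ᵥ u) ((A : Matrix ι ι F) *ᵥ v) = f u v) := by
  obtain ⟨θ, rfl⟩ := cjOf_iff.1 h
  have hs := symp_form m F
  refine ⟨fun u v => sympForm m F (θ.symm u) (θ.symm v), ⟨⟨?_, ?_, ?_, ?_⟩, ?_, ?_, ?_⟩, fun A => ?_⟩
  · intro x y v
    rw [map_add, hs.bilinear.add_left]
  · intro c x v
    rw [map_smul, hs.bilinear.smul_left]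
  · intro v x y
    rw [map_add, hs.bilinear.add_right]
  · intro c v x
    rw [map_smul, hs.bilinear.smul_right]
  · intro v w
    exact hs.skew _ _
  · intro v
    exact hs.alternating _
  · intro v hv
    have hv' : θ.symm v ≠ 0 := fun h0 => hv (by simpa using h0)
    obtain ⟨⟨x, hx⟩, ⟨y, hy⟩⟩ := hs.nondegenerate _ hv'
    exact ⟨⟨θ x, by simpa using hx⟩, ⟨θ y, by simpa using hy⟩⟩
  · constructor
    · rintro ⟨B, hB, rfl⟩ u v
      change sympForm m F (θ.symm ((cjG θ B : Matrix ι ι F) *ᵥ u)) (θ.symm ((cjG θ B : Matrix ι ι F) *ᵥ v)) = _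
      rw [cjG_mulVec, cjG_mulVec, LinearEquiv.symm_apply_apply, LinearEquiv.symm_apply_apply]
      exact hB _ _
    · intro hA
      refine ⟨(cjG θ).symm A, ?_, (cjG θ).apply_symm_apply A⟩
      intro u v
      have h1 := hA (θ u) (θ v)
      rw [← (cjG θ).apply_symm_apply A, cjG_mulVec, cjG_mulVec] at h1
      simp only [LinearEquiv.symm_apply_apply] at h1
      exact h1

theorem CjOf.fixA (h : CjOf (spGL m F) P) : FixA P := by
  obtain ⟨f, hf, hA⟩ := h.sp_form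
  refine ⟨f, hf, ?_⟩
  rintro _ ⟨A, hAP, rfl⟩ u v
  exact (hA A).1 hAP u v

theorem CjOf.sp_mem_iff [Nonempty ι] (hP : ActsAbsolutelyIrreducibly (matrixSet P)) (h : CjOf (spGL m F) P)
    {f : (ι → F) → (ι → F) → F} (hf : IsSymplecticForm f) (hfix : FixesForm (matrixSet P) f) (A : GL ι F) :
    A ∈ P ↔ ∀ u v, f ((A : Matrix ι ι F) *ᵥ u) ((A : Matrix ι ι F) *ᵥ v) = f u v := by
  obtain ⟨f₁, hf₁, hA⟩ := h.sp_form
  constructor
  · intro hAP u v
    exact hfix _ ⟨A, hAP, rfl⟩ u v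
  · intro hA'
    obtain ⟨c, hc⟩ := H920.form_unique hP hf.bilinear hf.nondegenerate hfix hf₁.bilinear (by
      rintro _ ⟨B, hB, rfl⟩ u v
      exact (hA B).1 hB u v)
    rw [hA]
    intro u v
    rw [hc, hc, hA']

theorem CjOf.sp_eq {P : Subgroup (GL (Fin m ⊕ Fin m) F)} [Nonempty (Fin m)]
    (hP : ActsAbsolutelyIrreducibly (matrixSet P)) {m' : ℕ} (h : CjOf (spGL m' F) P) (hle : P ≤ spGL m F) :
    P = spGL m F := by
  ext A
  rw [h.sp_mem_iff hP (symp_form m F) (by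
    rintro _ ⟨B, hB, rfl⟩ u v
    exact hle hB u v) A]
  exact Iff.rfl

theorem CjOf.not_maximal_sp {P H : Subgroup (GL (Fin m ⊕ Fin m) F)} (hR : IsResidualCore H P) {m' : ℕ}
    (h : CjOf (spGL m' F) P) (hH : IsMaximalIn (spGL m F) H) : False := by
  have hne := (core_of_residual hR).nonempty
  have : Nonempty (Fin m) := by
    obtain ⟨i | i⟩ := hne
    · exact ⟨i⟩
    · exact ⟨i⟩
  have h1 := h.sp_eq hR.absIrred (hR.le.trans hH.1.le)
  exact absurd hH.1 (not_lt_of_ge (h1 ▸ hR.le))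

/-- the symplectic group fixes no quadratic form -/
theorem CjOf.sp_not_fixQ (hm : 2 ≤ m) (h : CjOf (spGL m F) P) : ¬ FixQ P := by
  rintro ⟨Q, hQ, hfix⟩
  obtain ⟨θ, rfl⟩ := cjOf_iff.1 h
  have htr : ∀ x y : Fin m ⊕ Fin m → F, x ≠ 0 → y ≠ 0 → Q (θ x) = Q (θ y) := by
    intro x y hx hy
    obtain ⟨g, hg, e⟩ := H931.exists_spGL_mulVec_eq hx hy
    have h1 := hfix _ ⟨cjG θ g, ⟨g, hg, rfl⟩, rfl⟩ (θ x)
    change Q ((cjG θ g : Matrix ι ι F) *ᵥ θ x) = _ at h1
    rw [cjG_mulVec, LinearEquiv.symm_apply_apply, e] at h1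
    exact h1.symm
  let i0 : Fin m := ⟨0, by omega⟩
  let i1 : Fin m := ⟨1, by omega⟩
  have hi : i0 ≠ i1 := by simp [i0, i1, Fin.ext_iff]
  let a : Fin m ⊕ Fin m → F := Pi.single (Sum.inl i0) 1
  let b : Fin m ⊕ Fin m → F := Pi.single (Sum.inl i1) 1
  let c : Fin m ⊕ Fin m → F := Pi.single (Sum.inr i0) 1
  have ha : a ≠ 0 := fun h0 => by simpa [a] using congrFun h0 (Sum.inl i0)
  have hb : b ≠ 0 := fun h0 => by simpa [b] using congrFun h0 (Sum.inl i1)
  have hc : c ≠ 0 := fun h0 => by simpa [c] using congrFun h0 (Sum.inr i0)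
  have hab : a + b ≠ 0 := fun h0 => by simpa [a, b, hi] using congrFun h0 (Sum.inl i0)
  have hac : a + c ≠ 0 := fun h0 => by simpa [a, c] using congrFun h0 (Sum.inl i0)
  have hbc : b + c ≠ 0 := fun h0 => by simpa [b, c] using congrFun h0 (Sum.inl i1)
  have habc : a + (b + c) ≠ 0 := fun h0 => by simpa [a, b, c, hi] using congrFun h0 (Sum.inl i0)
  have hq : Q (θ a) = 0 := by
    have e1 := hQ.polar_bilinear.add_right (θ a) (θ b) (θ c)
    unfold polar at e1
    rw [← map_add, ← map_add, ← map_add, ← map_add, htr _ a hab ha, htr _ a hac ha, htr _ a hbc ha,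
      htr _ a habc ha, htr b a hb ha, htr c a hc ha] at e1
    linear_combination e1
  have h0 : ∀ w, Q w = 0 := by
    intro w
    obtain ⟨x, rfl⟩ := θ.surjective w
    by_cases hx : x = 0
    · rw [hx, map_zero]
      have := hQ.smul 0 0
      rwa [zero_smul, zero_pow two_ne_zero, zero_mul] at this
    · rw [htr x a hx ha, hq]
  have hne : θ a ≠ 0 := fun h1 => ha (by simpa using h1)
  obtain ⟨⟨x, hx⟩, -⟩ := hQ.nondegenerate _ hne
  apply hx
  unfold polar
  rw [h0, h0, h0]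
  ring

end sp

end Cfsg.Agent.H925.Nat
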