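import Cfsg.Agent.H925.NatFam
import Cfsg.Agent.H925.NatConj
import Cfsg.Agent.TitsThree.KInstSp

/-!
# Classical groups in the defining characteristic, dimension at most twelve (helper925)

`P ≤ GL(ι, F)` a core (`H915.LD.Core`), `char F = char K = p`, `|ι| ≤ 12`:

* **`psp`** : `P / scalars ≃ PSp_2m(K)`, `m ≥ 4` : `K ≃ F` and `P = θ Sp_2m(F) θ⁻¹` (`CjOf (spGL m F) P`);
* **`po_odd`** : `P / scalars ≃ PΩ_{2m+1}(K)`, `m ≥ 4`, `|K|` odd : `CjOf (omegaGL (quadFormOdd m F)) P`;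
* **`po_plus`** : `P / scalars ≃ PΩ⁺_2m(K)`, `m ≥ 5` : `CjOf (omegaGL (quadFormPlus m F)) P`;
* **`po_minus`** : `P / scalars ≃ PΩ⁻_{2m+2}(K)`, `m ≥ 4` : `CjOf (omegaGL (quadFormMinus m F (τ a) (τ b))) P`.
-/

set_option autoImplicit false
set_option linter.unusedSectionVars false

namespace Cfsg.Agent.H925.Nat

open QuadraticMap
open Cfsg.Agent.LieClassical Cfsg.Agent.LieClassical.OrthCore Cfsg.Agent.LieClassical.OrthTrans
open Cfsg.Agent.LieClassical.OrthSimple Cfsg.Agent.LieClassical.OrthFinite Cfsg.Agent.LieClassical.OrthForms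
open Cfsg.Agent.TitsThree Cfsg.Agent.TitsThree.KSideO Cfsg.Agent.TitsThree.StdData
open Cfsg.Agent.Nodes Cfsg.Agent.Nodes.WittAll Cfsg.Agent.Nodes.WittInst Cfsg.Agent.Nodes.WittU
  Cfsg.Agent.TitsThree.Siegel Cfsg.Agent.TitsThree.SiegelGen
  Cfsg.Agent.TitsThree.WittFrame Cfsg.Agent.TitsThree.WBridge Cfsg.Agent.TitsThree.WittWeyl
  Cfsg.Agent.TitsThree.FrameCN
open Cfsg.Agent.H915.LD
open Cfsg Cfsg.Geo
open scoped MatrixGroups Matrix

universe u

section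

variable {F : Type u} [Field F] [Finite F] {ι : Type} [Fintype ι] [DecidableEq ι] {P : Subgroup (GL ι F)}
  {K : Type} [Field K] {ν : Type} [Fintype ν] [DecidableEq ν]

theorem mt_eq (G0 : Subgroup ((ν → K) ≃ₗ[K] (ν → K))) (g : G0) :
    mt G0 g = (((glEquiv ν K).symm g.1 : GL ν K) : Matrix ν ν K) := by
  apply Matrix.toLin'.injective
  refine LinearMap.ext fun v => ?_
  rw [Matrix.toLin'_apply, Matrix.toLin'_apply, mt_mulVec, ← glEquiv_apply, MulEquiv.apply_symm_apply]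

/-- transfer to matrices -/
theorem cjOf_of {G0 : Subgroup ((ν → K) ≃ₗ[K] (ν → K))} {S : Subgroup (GL ν K)}
    (hS : ∀ A : GL ν K, A ∈ S ↔ glEquiv ν K A ∈ G0) {τ : K ≃+* F} {S' : Subgroup (GL ν F)}
    (hS' : S.map (glm ν τ).toMonoidHom = S') {θ : (ν → F) ≃ₗ[F] (ι → F)}
    (h : ∀ A : GL ι F, A ∈ P ↔ ∃ g : G0, ∀ v, θ (((mt G0 g).map (τ : K →+* F)) *ᵥ v) = (A : Matrix ι ι F) *ᵥ θ v) :
    CjOf S' P := by
  refine ⟨θ, fun A => ?_⟩
  rw [h]
  constructor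
  · rintro ⟨g, hg⟩
    refine ⟨glm ν τ ((glEquiv ν K).symm g.1), ?_, fun v => ?_⟩
    · rw [← hS']
      refine ⟨_, (hS _).2 ?_, rfl⟩
      rw [MulEquiv.apply_symm_apply]
      exact g.2
    · rw [glm_coe, ← mt_eq]
      exact hg v
  · rintro ⟨B, hB, hBv⟩
    rw [← hS'] at hB
    obtain ⟨B₀, hB₀, rfl⟩ := hB
    refine ⟨⟨glEquiv ν K B₀, (hS _).1 hB₀⟩, fun v => ?_⟩
    rw [mt_eq]
    simp only [MulEquiv.symm_apply_apply]
    exact hBv v

theorem span_of_matrixSet {G0 : Subgroup ((ν → K) ≃ₗ[K] (ν → K))} {S : Subgroup (GL ν K)}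
    (hS : ∀ A : GL ν K, A ∈ S ↔ glEquiv ν K A ∈ G0) (habs : ActsAbsolutelyIrreducibly (matrixSet S)) :
    Submodule.span K (Set.range (mt G0)) = ⊤ := by
  refine span_of_absIrr ?_ habs
  rintro _ ⟨A, hA, rfl⟩
  refine ⟨⟨glEquiv ν K A, (hS A).1 hA⟩, ?_⟩
  rw [mt_eq]
  simp only [MulEquiv.symm_apply_apply]

/-! ### symplectic groups -/

theorem mem_spGL_iff' {m : ℕ} (A : GL (Fin m ⊕ Fin m) K) :
    A ∈ spGL m K ↔ glEquiv (Fin m ⊕ Fin m) K A ∈ SpIdent.isos (SpIdent.form m K) := Iff.rfl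

theorem sympForm_map {K F : Type*} [Field K] [Field F] (τ : K ≃+* F) {m : ℕ} (u v : Fin m ⊕ Fin m → K) :
    sympForm m F (fun i => τ (u i)) (fun i => τ (v i)) = τ (sympForm m K u v) := by
  unfold sympForm
  simp only [dotProduct, Matrix.mulVec, map_sum, map_mul]
  refine Finset.sum_congr rfl fun i _ => ?_
  congr 1
  refine Finset.sum_congr rfl fun j _ => ?_
  congr 1
  rcases i with i | i <;> rcases j with j | j <;> simp [Matrix.J, Matrix.one_apply, apply_ite τ]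

theorem map_spGL_glm {K F : Type*} [Field K] [Field F] (τ : K ≃+* F) (m : ℕ) :
    (spGL m K).map (glm (Fin m ⊕ Fin m) τ).toMonoidHom = spGL m F := by
  ext A
  constructor
  · rintro ⟨B, hB, rfl⟩ u v
    obtain ⟨u, rfl⟩ := exists_pre τ u
    obtain ⟨v, rfl⟩ := exists_pre τ v
    change sympForm m F ((glm (Fin m ⊕ Fin m) τ B : Matrix (Fin m ⊕ Fin m) (Fin m ⊕ Fin m) F) *ᵥ _)
      ((glm (Fin m ⊕ Fin m) τ B : Matrix (Fin m ⊕ Fin m) (Fin m ⊕ Fin m) F) *ᵥ _) = _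
    rw [glm_coe, map_mulVec, map_mulVec, sympForm_map, sympForm_map]
    exact congrArg τ (hB u v)
  · intro hA
    refine ⟨(glm (Fin m ⊕ Fin m) τ).symm A, ?_, (glm (Fin m ⊕ Fin m) τ).apply_symm_apply A⟩
    intro u v
    apply τ.injective
    change τ (sympForm m K ((((glm (Fin m ⊕ Fin m) τ).symm A : GL (Fin m ⊕ Fin m) K) : Matrix _ _ K) *ᵥ u)
      ((((glm (Fin m ⊕ Fin m) τ).symm A : GL (Fin m ⊕ Fin m) K) : Matrix _ _ K) *ᵥ v)) = τ (sympForm m K u v)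
    rw [← sympForm_map, ← sympForm_map, ← map_mulVec, ← map_mulVec, ← glm_coe, MulEquiv.apply_symm_apply]
    exact hA _ _

theorem commutator_isos [Finite K] {m : ℕ} (hm : 3 ≤ m) :
    commutator ↥(SpIdent.isos (SpIdent.form m K)) = ⊤ := by
  have := Fintype.ofFinite K
  have h1 := SympPerfect.commutator_eq_top (m := m) (F := K) (Or.inl hm)
  have hb : Function.Bijective (SpIdent.toSp (m := m) (F := K)) := ⟨SpIdent.toSp_injective, SpIdent.toSp_surjective⟩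
  have h2 := map_commutator_top (f := SpIdent.toSp (m := m) (F := K)) hb.2
  rw [h1] at h2
  rw [eq_top_iff]
  intro g _
  have h3 : SpIdent.toSp g ∈ (commutator ↥(SpIdent.isos (SpIdent.form m K))).map SpIdent.toSp := by rw [h2]; trivial
  obtain ⟨g', hg', e⟩ := h3
  rwa [← hb.1 e]

/-- **Symplectic groups.** -/
theorem psp (hC : Core P) [Finite K] {p : ℕ} [Fact p.Prime] [CharP F p] [CharP K p] (hι : Fintype.card ι ≤ 12) {m : ℕ}
    (hm : 4 ≤ m) (hm6 : m ≤ 6) (e : Soc P ≃* PSp m K) : Nonempty (K ≃+* F) ∧ CjOf (spGL m F) P := by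
  have hfin : Finite ((Fin m ⊕ Fin m → K) ≃ₗ[K] (Fin m ⊕ Fin m → K)) :=
    Finite.of_injective (fun g : (Fin m ⊕ Fin m → K) ≃ₗ[K] (Fin m ⊕ Fin m → K) =>
      (g : (Fin m ⊕ Fin m → K) → (Fin m ⊕ Fin m → K))) DFunLike.coe_injective
  obtain ⟨τ, θ, h⟩ := identify_C hC (KInstSp.model m K) (AmbT.of_amb amb_Sp p) (p0 := SpIdent.adm 1) one_ne_zero
    (by omega) (commutator_isos (by omega))
    (span_of_matrixSet mem_spGL_iff' (H931.spGL_absIrreducible (by omega))) hι e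
  exact ⟨⟨τ⟩, cjOf_of mem_spGL_iff' (map_spGL_glm τ m) h⟩

/-! ### orthogonal groups -/

section orth

variable {Q : QuadraticForm K (ν → K)}

theorem mem_omega_iff'' (hG : Good Q) (A : GL ν K) : A ∈ omegaGL (⇑Q) ↔ glEquiv ν K A ∈ E Q := by
  rw [← hG.commutator_eq_E, ← map_omegaGL]
  constructor
  · intro h
    exact ⟨A, h, rfl⟩
  · rintro ⟨A', h', he⟩
    have : A' = A := (glEquiv ν K).injective he
    rwa [← this]

theorem span_E [Finite K] (hG : Good Q) (hn : 5 ≤ Fintype.card ν) :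
    Submodule.span K (Set.range (mt (E Q))) = ⊤ :=
  span_of_matrixSet (mem_omega_iff'' hG) (omegaGL_absIrr (isND_of_nondeg hG.nondeg) hn)

end orth

theorem quadFormPlus_map {K F : Type*} [Field K] [Field F] (τ : K ≃+* F) {m : ℕ} (v : Fin m ⊕ Fin m → K) :
    quadFormPlus m F (fun i => τ (v i)) = τ (quadFormPlus m K v) := by
  unfold quadFormPlus
  simp [map_sum, map_mul]

theorem quadFormOdd_map {K F : Type*} [Field K] [Field F] (τ : K ≃+* F) {m : ℕ} (v : Unit ⊕ (Fin m ⊕ Fin m) → K) :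
    quadFormOdd m F (fun i => τ (v i)) = τ (quadFormOdd m K v) := by
  unfold quadFormOdd
  simp [map_sum, map_mul]

theorem quadFormMinus_map {K F : Type*} [Field K] [Field F] (τ : K ≃+* F) {m : ℕ} (a b : K)
    (v : (Fin m ⊕ Fin m) ⊕ Fin 2 → K) :
    quadFormMinus m F (τ a) (τ b) (fun i => τ (v i)) = τ (quadFormMinus m K a b v) := by
  unfold quadFormMinus
  simp [map_sum, map_mul]

/-- **Odd-dimensional orthogonal groups.** -/
theorem po_odd (hC : Core P) [Finite K] {p : ℕ} [Fact p.Prime] [CharP F p] [CharP K p] (hι : Fintype.card ι ≤ 12) {m : ℕ}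
    (hm : 4 ≤ m) (hm6 : m ≤ 6) (h2 : (2 : K) ≠ 0) (e : Soc P ≃* POmega K (quadFormOdd m K)) :
    Nonempty (K ≃+* F) ∧ CjOf (omegaGL (quadFormOdd m F)) P := by
  have hG : Good (oddForm m K) := by
    apply good_of_finite (nondeg_oddForm m K h2)
    rw [Module.finrank_fintype_fun_eq_card, Fintype.card_sum, Fintype.card_sum, Fintype.card_fin,
      Fintype.card_unit]
    omega
  have hp : ((embOdd m K).ngt ⟨1, -1 ^ 2, rfl⟩).c ≠ 0 := by
    change (1 : K)⁻¹ * (-1 ^ 2) ≠ 0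
    simp
  rw [← coe_oddForm] at e
  have hfin : Finite ((Unit ⊕ (Fin m ⊕ Fin m) → K) ≃ₗ[K] (Unit ⊕ (Fin m ⊕ Fin m) → K)) :=
    Finite.of_injective (fun g : (Unit ⊕ (Fin m ⊕ Fin m) → K) ≃ₗ[K] (Unit ⊕ (Fin m ⊕ Fin m) → K) =>
      (g : (Unit ⊕ (Fin m ⊕ Fin m) → K) → (Unit ⊕ (Fin m ⊕ Fin m) → K))) DFunLike.coe_injective
  obtain ⟨τ, θ, h⟩ := identify_C hC (model (wodd m K) hG ⟨_, hp⟩) (AmbT.of_amb (amb_O_of_two _ h2) p) hp
    (by omega) (H911.Five.commutator_top hG.E_perfect)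
    (span_E hG (by rw [Fintype.card_sum, Fintype.card_sum, Fintype.card_fin, Fintype.card_unit]; omega)) hι e
  refine ⟨⟨τ⟩, cjOf_of (mem_omega_iff'' hG) (map_omega_glm τ fun v => ?_) h⟩
  rw [coe_oddForm]
  exact quadFormOdd_map τ v

/-- **Orthogonal groups of minus type.** -/
theorem po_minus (hC : Core P) [Finite K] {p : ℕ} [Fact p.Prime] [CharP F p] [CharP K p] (hι : Fintype.card ι ≤ 12)
    {m : ℕ} (hm : 4 ≤ m) (hm6 : m ≤ 6) {a b : K}
    (hab : ∀ z₁ z₂ : K, z₁ ^ 2 + a * z₁ * z₂ + b * z₂ ^ 2 = 0 → z₁ = 0 ∧ z₂ = 0)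
    (e : Soc P ≃* POmega K (quadFormMinus m K a b)) :
    ∃ τ : K ≃+* F, CjOf (omegaGL (quadFormMinus m F (τ a) (τ b))) P := by
  have hG : Good (minusForm m K a b) := by
    apply good_of_finite (nondeg_minusForm m K a b hab)
    rw [Module.finrank_fintype_fun_eq_card, Fintype.card_sum, Fintype.card_sum, Fintype.card_fin,
      Fintype.card_fin]
    omega
  have hp : ((embMinus m K a b hab).ngt ⟨(1, 0), -nf a b (1, 0), rfl⟩).c ≠ 0 := by
    change (1 : K)⁻¹ * (-nf a b (1, 0)) ≠ 0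
    simp [nf]
  have hA : AmbT (toFrame (wminus m K a b hab)) p (E (minusForm m K a b)) := by
    by_cases h2 : (2 : K) = 0
    · have hp2 : p = 2 := by
        have h3 : CharP K 2 := CharTwo.of_one_ne_zero_of_two_eq_zero one_ne_zero h2
        exact CharP.eq K ‹CharP K p› h3
      subst hp2
      exact ambT_O _ fun g hg hg2 hb => fixp_minus a b hab h2 (by omega) hG hg hg2 hb
    · exact AmbT.of_amb (amb_O_of_two _ h2) p
  rw [← coe_minusForm] at e
  have hfin : Finite (((Fin m ⊕ Fin m) ⊕ Fin 2 → K) ≃ₗ[K] ((Fin m ⊕ Fin m) ⊕ Fin 2 → K)) :=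
    Finite.of_injective (fun g : ((Fin m ⊕ Fin m) ⊕ Fin 2 → K) ≃ₗ[K] ((Fin m ⊕ Fin m) ⊕ Fin 2 → K) =>
      (g : ((Fin m ⊕ Fin m) ⊕ Fin 2 → K) → ((Fin m ⊕ Fin m) ⊕ Fin 2 → K))) DFunLike.coe_injective
  obtain ⟨τ, θ, h⟩ := identify_C hC (model (wminus m K a b hab) hG ⟨_, hp⟩) hA hp
    (by omega) (H911.Five.commutator_top hG.E_perfect)
    (span_E hG (by rw [Fintype.card_sum, Fintype.card_sum, Fintype.card_fin, Fintype.card_fin]; omega)) hι e
  refine ⟨τ, cjOf_of (mem_omega_iff'' hG) (map_omega_glm τ fun v => ?_) h⟩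
  rw [coe_minusForm]
  exact quadFormMinus_map τ a b v

/-- **Orthogonal groups of plus type.** -/
theorem po_plus (hC : Core P) [Finite K] {p : ℕ} [Fact p.Prime] [CharP F p] [CharP K p] (hι : Fintype.card ι ≤ 12)
    {m : ℕ} (hm : 5 ≤ m) (hm6 : m ≤ 6) (e : Soc P ≃* POmega K (quadFormPlus m K)) :
    Nonempty (K ≃+* F) ∧ CjOf (omegaGL (quadFormPlus m F)) P := by
  obtain ⟨n, rfl⟩ : ∃ n, m = n + 2 := ⟨m - 2, by omega⟩
  have hG : Good (plusForm (n + 2) K) := by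
    apply good_of_finite (nondeg_plusForm (n + 2) K)
    rw [Module.finrank_fintype_fun_eq_card, Fintype.card_sum, Fintype.card_fin]
    omega
  rw [← coe_plusForm] at e
  have hfin : Finite ((Fin (n + 2) ⊕ Fin (n + 2) → K) ≃ₗ[K] (Fin (n + 2) ⊕ Fin (n + 2) → K)) :=
    Finite.of_injective (fun g : (Fin (n + 2) ⊕ Fin (n + 2) → K) ≃ₗ[K] (Fin (n + 2) ⊕ Fin (n + 2) → K) =>
      (g : (Fin (n + 2) ⊕ Fin (n + 2) → K) → (Fin (n + 2) ⊕ Fin (n + 2) → K))) DFunLike.coe_injective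
  obtain ⟨τ, θ, h⟩ := identify_D hC (p := p) (wplus (n + 2) K) hG (toPOmega_surjective hG) (amb_plus _) (adm_plus _)
    (by omega) (span_E hG (by rw [Fintype.card_sum, Fintype.card_fin]; omega)) hι e
  refine ⟨⟨τ⟩, cjOf_of (mem_omega_iff'' hG) (map_omega_glm τ fun v => ?_) h⟩
  rw [coe_plusForm]
  exact quadFormPlus_map τ v

end

end Cfsg.Agent.H925.Nat
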