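import Cfsg.Agent.Nodes.FreeTorus
import Cfsg.Agent.Nodes.OppDec
import Cfsg.Agent.Nodes.RGDLib

/-!
# The torus of a root group datum generated by its root groups (helper925)

`R : RGD cs h p T n X`, `G1 = ⊤` (the root groups generate).

* `HH_inf_GG` : the common normaliser of the root groups in `GG` is `T`;
* **`T_le_iSup`** : `T` is generated by the rank one tori `⟨X_i, X_{-i}⟩ ∩ T`, `i` simple.
-/

set_option autoImplicit false
set_option linter.unusedSectionVars false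

namespace Cfsg.Agent.H925.Nat

open CoxeterSystem Cfsg.Agent.ChevalleyStructure.CoxeterGeom Cfsg.Agent.Tits.Roots Cfsg.Agent.Tits.Core
  Cfsg.Agent.Tits.Exchange Cfsg.Agent.Nodes.Reps Cfsg.Agent.Nodes.BNOf Cfsg.Agent.Nodes.StabComb
  Cfsg.Agent.Nodes.Bruhat Cfsg.Agent.Nodes.OppDec Cfsg.Agent.Nodes.RGDLib Cfsg.Agent.Nodes.FreeTorus

variable {I W Y : Type*} [Fintype I] [DecidableEq I] [Group W] [Group Y] {M : CoxeterMatrix I}
  {cs : CoxeterSystem M W} {A : I → I → ℤ} {h : IsCartan M A} {p : ℕ} {T : Subgroup Y} {n : I → Y}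
  {X : (I → ℤ) → Subgroup Y}

theorem exists_neg {w : W} (hw : w ≠ 1) : ∃ i, rep cs h w (sr i) ≤ 0 := by
  obtain ⟨i, hi⟩ := cs.exists_rightDescent_of_ne_one hw
  rw [cs.isRightDescent_iff] at hi
  exact ⟨i, nonpos_of_lt cs h w i (by omega)⟩

section

variable (R : RGD cs h p T n X) [Finite W]
include R

theorem T_le_HH : T ≤ HH cs h X := by
  intro t ht
  rw [mem_HH]
  intro x hx
  rw [R.tor x hx t ht, map_one, Module.End.one_apply]

/-- the common normaliser of the root groups is the torus -/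
theorem HH_inf_GG : HH cs h X ⊓ GG cs h T X = T := by
  apply le_antisymm _ (le_inf (T_le_HH R) T_le_GG)
  rintro g ⟨hg, hgG⟩
  have hcj : ∀ S : Set (I → ℤ), (∀ x ∈ S, IsRoot cs h x) → cj g (RGD.Sup X S) = RGD.Sup X S := by
    intro S hS
    rw [RGD.cj_Sup]
    unfold RGD.Sup
    refine iSup_congr fun z => ?_
    have := (mem_HH.1 hg) z.1 (hS z.1 z.2)
    rwa [map_one, Module.End.one_apply] at this
  obtain ⟨w, b₁, hb₁, k, hk, b₂, hb₂, e⟩ := (mem_GG R).1 hgG
  have hUB : ∀ b ∈ RGD.B cs h T X, cj b (RGD.Sup X (RGD.Pos cs h)) = RGD.Sup X (RGD.Pos cs h) := by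
    intro b hb
    obtain ⟨t, ht, u, hu, rfl⟩ := R.mem_B.1 hb
    rw [cj_mul, mem_normalizer_iff_cj.1 (Subgroup.le_normalizer hu),
      mem_normalizer_iff_cj.1 (R.T_le_normalizer_U ht)]
  have hw : w = 1 := by
    by_contra hw
    obtain ⟨i, hi⟩ := exists_neg (cs := cs) (h := h) hw
    have hkU : cj k (RGD.Sup X (RGD.Pos cs h)) = RGD.Sup X (RGD.Pos cs h) := by
      have h1 : k = b₁⁻¹ * (g * b₂⁻¹) := by rw [e]; group
      rw [h1, cj_mul, cj_mul, hUB _ (inv_mem hb₂), hcj _ (fun x hx => hx.1), hUB _ (inv_mem hb₁)]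
    obtain ⟨u, hu, hu1⟩ := (X (sr i)).bot_or_exists_ne_one.resolve_left (X_ne_bot R (isRoot_sr cs h i))
    have h2 := R.conj_mem hk (isRoot_sr cs h i) hu
    have h3 : k * u * k⁻¹ ∈ RGD.Sup X (RGD.Pos cs h) := by
      rw [← hkU]
      exact conj_mem_cj.2 (RGD.le_Sup (S := RGD.Pos cs h) ⟨isRoot_sr cs h i, sr_nonneg i⟩ hu)
    have h4 := eq_one_of_mem_U_of_mem_BN R h3 (X_le_BN ((isRoot_sr cs h i).act w) hi h2)
    apply hu1
    have h5 : u = k⁻¹ * (k * u * k⁻¹) * k := by group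
    rw [h5, h4]; group
  have hgB : g ∈ RGD.B cs h T X := by
    rw [e]
    refine mul_mem (mul_mem hb₁ ?_) hb₂
    rw [hw] at hk
    exact RGD.T_le_B hk.mem_of_one
  obtain ⟨t, ht, u, hu, rfl⟩ := R.mem_B.1 hgB
  have hu' : u ∈ HH cs h X := by
    have h1 : u = t⁻¹ * (t * u) := by group
    rw [h1]
    exact mul_mem (inv_mem (T_le_HH R ht)) hg
  -- `u` normalises the opposite unipotent group
  suffices h1 : u = 1 by rw [h1, mul_one]; exact ht
  obtain ⟨k₀, hk₀⟩ := exists_rp cs R.nsys (w0 cs)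
  have hcu : cj u (UN cs h X) = UN cs h X := by
    unfold UN
    rw [RGD.cj_Sup]
    unfold RGD.Sup
    refine iSup_congr fun z => ?_
    have := (mem_HH.1 hu') z.1 z.2.1
    rwa [map_one, Module.End.one_apply] at this
  have hkk : cj (k₀⁻¹ * u * k₀) (RGD.Sup X (RGD.Pos cs h)) = RGD.Sup X (RGD.Pos cs h) := by
    rw [cj_mul, cj_mul, cj_U R hk₀, hcu, ← cj_U R hk₀, cj_inv_cj]
  -- `k₀⁻¹ u k₀ ∈ U⁻` normalises `U`
  have hmem : k₀⁻¹ * u * k₀ ∈ UN cs h X := by
    have hk' : Rp cs R.nsys (w0 cs) k₀⁻¹ := by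
      have := hk₀.inv
      rwa [w0_inv] at this
    rw [← cj_U R hk']
    have h2 := (conj_mem_cj (g := k₀⁻¹)).2 hu
    rwa [inv_inv] at h2
  have hGG : k₀⁻¹ * u * k₀ ∈ GG cs h T X := BN_le_GG (UN_le_BN hmem)
  obtain ⟨v, c₁, hc₁, l, hl, c₂, hc₂, e'⟩ := (mem_GG R).1 hGG
  have hv : v = 1 := by
    by_contra hv
    obtain ⟨i, hi⟩ := exists_neg (cs := cs) (h := h) hv
    have hkU : cj l (RGD.Sup X (RGD.Pos cs h)) = RGD.Sup X (RGD.Pos cs h) := by
      have h1 : l = c₁⁻¹ * ((k₀⁻¹ * u * k₀) * c₂⁻¹) := by rw [e']; group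
      rw [h1, cj_mul, cj_mul, hUB _ (inv_mem hc₂), hkk, hUB _ (inv_mem hc₁)]
    obtain ⟨y, hy, hy1⟩ := (X (sr i)).bot_or_exists_ne_one.resolve_left (X_ne_bot R (isRoot_sr cs h i))
    have h2 := R.conj_mem hl (isRoot_sr cs h i) hy
    have h3 : l * y * l⁻¹ ∈ RGD.Sup X (RGD.Pos cs h) := by
      rw [← hkU]
      exact conj_mem_cj.2 (RGD.le_Sup (S := RGD.Pos cs h) ⟨isRoot_sr cs h i, sr_nonneg i⟩ hy)
    have h4 := eq_one_of_mem_U_of_mem_BN R h3 (X_le_BN ((isRoot_sr cs h i).act v) hi h2)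
    apply hy1
    have h5 : y = l⁻¹ * (l * y * l⁻¹) * l := by group
    rw [h5, h4]; group
  have hB : k₀⁻¹ * u * k₀ ∈ RGD.B cs h T X := by
    rw [e']
    refine mul_mem (mul_mem hc₁ ?_) hc₂
    rw [hv] at hl
    exact RGD.T_le_B hl.mem_of_one
  have h6 := eq_one_of_mem_UN_of_mem_B R hmem hB
  have h7 : u = k₀ * (k₀⁻¹ * u * k₀) * k₀⁻¹ := by group
  rw [h7, h6]; group

theorem acts_of_rp {w : W} {g : Y} (hg : Rp cs R.nsys w g) : Acts cs h X w g := fun _ hx => R.conj_rp hg hx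

end

/-- **The torus is generated by the rank one tori.** -/
theorem T_le_iSup (R : RGD cs h p T n X) [Finite Y] [Finite W] (hG : G1 cs h X = ⊤) :
    T ≤ ⨆ i, (X (sr i) ⊔ X (-sr i)) ⊓ T := by
  have hGG : GG cs h T X = ⊤ := by
    rw [eq_top_iff, ← hG]
    exact le_sup_right
  have hHT : HH cs h X = T := by
    have := HH_inf_GG R
    rwa [hGG, inf_top_eq] at this
  -- new representatives
  have hex : ∀ i, ∃ m ∈ LL X (sr i), Acts cs h X (cs.simple i) m := by
    intro i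
    obtain ⟨u, hu, hu1⟩ := (X (-sr i)).bot_or_exists_ne_one.resolve_left (X_ne_bot R (isRoot_sr cs h i).neg)
    obtain ⟨a, ha, t, ht, b, hb, e⟩ := R.rk1 i u hu hu1
    refine ⟨t * n i, ?_, ?_⟩
    · have h1 : t * n i = a⁻¹ * u * b⁻¹ := by rw [e]; group
      rw [h1]
      exact mul_mem (mul_mem ((le_sup_left : X (sr i) ≤ _) (inv_mem ha)) ((le_sup_right : X (-sr i) ≤ _) hu))
        ((le_sup_left : X (sr i) ≤ _) (inv_mem hb))
    · have h1 := (rp_of_mem (cs := cs) (hN := R.nsys) ht).mul (rp_simple cs R.nsys i)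
      rw [one_mul] at h1
      exact acts_of_rp R h1
  choose m hmL hmA using hex
  have hTT : ∀ x, TT cs h X x ≤ T := fun x => by
    unfold TT
    rw [hHT]
    exact inf_le_right
  have R' : RGD cs h p (TA cs h X) m X := by
    refine rgd_of_family hmL hmA R.comm ?_ R.pgrp R.notp ?_
    · intro i u hu hu1
      obtain ⟨a, ha, t, ht, b, hb, e⟩ := R.rk1 i u hu hu1
      refine ⟨a, ha, t * n i, ?_, b, hb, by rw [e]; group, ?_⟩
      · have h1 : t * n i = a⁻¹ * u * b⁻¹ := by rw [e]; group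
        rw [h1]
        exact mul_mem (mul_mem ((le_sup_left : X (sr i) ≤ _) (inv_mem ha)) ((le_sup_right : X (-sr i) ≤ _) hu))
          ((le_sup_left : X (sr i) ≤ _) (inv_mem hb))
      · have h1 := (rp_of_mem (cs := cs) (hN := R.nsys) ht).mul (rp_simple cs R.nsys i)
        rw [one_mul] at h1
        exact acts_of_rp R h1
    · intro i
      exact Nat.Coprime.coprime_dvd_left (Subgroup.card_dvd_of_le (hTT _)) R.tcop
  have hGG' : GG cs h (TA cs h X) X = ⊤ := by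
    rw [eq_top_iff, ← hG]
    exact le_sup_right
  have hTA : TA cs h X = T := by
    have h1 := HH_inf_GG R'
    rw [hGG', inf_top_eq, hHT] at h1
    exact h1.symm
  -- the rank one tori of the simple roots
  set S : Subgroup Y := ⨆ i, (X (sr i) ⊔ X (-sr i)) ⊓ T with hS
  have hleS : ∀ i, (X (sr i) ⊔ X (-sr i)) ⊓ T ≤ S := fun i => le_iSup (fun i => (X (sr i) ⊔ X (-sr i)) ⊓ T) i
  have hST : S ≤ T := iSup_le fun i => inf_le_right
  -- normalised by the `m j`
  have hmT : ∀ j, ∀ t ∈ T, m j * t * (m j)⁻¹ ∈ T := by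
    intro j t ht
    rw [← hHT] at ht ⊢
    have := (hmA j).cj_HH (h := h)
    rw [← this]
    exact conj_mem_cj.2 ht
  have hmS : ∀ j, cj (m j) S ≤ S := by
    intro j
    rw [hS, cj_iSup]
    refine iSup_le fun i => ?_
    rintro x hx
    rw [mem_cj] at hx
    set t := (m j)⁻¹ * x * m j with ht
    have htT : t ∈ T := hx.2
    have hx' : x = (m j * (t * (m j)⁻¹ * t⁻¹)) * t := by rw [ht]; group
    rw [hx']
    refine mul_mem (hleS j (Subgroup.mem_inf.2 ⟨?_, ?_⟩)) (hleS i hx)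
    · refine mul_mem (hmL j) ?_
      have h1 : cj t (LL X (sr j)) = LL X (sr j) := by
        unfold LL
        rw [cj_sup, R.tor _ (isRoot_sr cs h j) t htT, R.tor _ (isRoot_sr cs h j).neg t htT]
      change _ ∈ LL X (sr j)
      rw [← h1]
      exact conj_mem_cj.2 (inv_mem (hmL j))
    · have h1 : m j * (t * (m j)⁻¹ * t⁻¹) = (m j * t * (m j)⁻¹) * t⁻¹ := by group
      rw [h1]
      exact mul_mem (hmT j t htT) (inv_mem htT)
  have hcl : ∀ g ∈ Subgroup.closure (Set.range m), cj g S = S := by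
    intro g hg
    induction hg using Subgroup.closure_induction with
    | mem x hx =>
      obtain ⟨j, rfl⟩ := hx
      have h1 : (cj (m j) S : Subgroup Y) ≤ S := hmS j
      exact Subgroup.eq_of_le_of_card_ge h1 (card_cj (m j) S).ge
    | one => exact cj_one _
    | mul a b _ _ ha hb => rw [cj_mul, hb, ha]
    | inv a _ ha =>
      conv_lhs => rw [← ha]
      exact cj_inv_cj _ _
  rw [← hTA]
  refine iSup_le ?_
  rintro ⟨x, w, i, rfl⟩
  obtain ⟨g, hg, hact⟩ := exists_acts (h := h) hmA w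
  change TT cs h X (rep cs h w (sr i)) ≤ S
  rw [← hact.cj_TT (isRoot_sr cs h i), ← hcl g hg]
  refine cj_mono g ?_
  refine le_trans ?_ (hleS i)
  exact le_inf inf_le_left (hTT _)

end Cfsg.Agent.H925.Nat
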