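import Cfsg.Agent.H925.NatTwo
import Cfsg.Agent.H911.DualTw
import Cfsg.Agent.Nodes.WittAll

/-!
# Natural modules of Witt frames (helper925)

`Fr` a Witt frame of rank `n ≥ 2` in `ν → K`, `G0` a group of isometries containing the root elements.

* `mt G0 : G0 → Mat(ν, K)`;
* `rg_fix`, `rgD_fix` : the root groups with non-negative coefficient at the node `0` fix `b (0, true)`;
* **`natAt_C`**, `fixC`, `surjC` : type `B_n`; **`natAt_D`**, `fixD`, `surjD` : type `D_{n+2}`.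
-/

set_option autoImplicit false
set_option linter.unusedSectionVars false

namespace Cfsg.Agent.H925.Nat

open Cfsg.Agent.ChevalleyStructure.CoxeterGeom Cfsg.Agent.Tits.Roots
open Cfsg.Agent.Nodes.Comb Cfsg.Agent.Nodes.Reps Cfsg.Agent.Nodes.WittRoot Cfsg.Agent.Nodes.BNOf
open Cfsg.Agent.Nodes.RGDLib Cfsg.Agent.Nodes.WittAll Cfsg.Agent.Nodes
open Cfsg.Agent.TitsThree Cfsg.Agent.TitsThree.Siegel Cfsg.Agent.TitsThree.WittFrame Cfsg.Agent.TitsThree.WittWeyl
open Cfsg.Agent.Nodes.TypeC (wt wt_apply ng ng_ng ng_fst ng_snd wt_ng)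
open Cfsg.Agent.Nodes.WittRGD (Tor mem_Tor not_prop b_ne_zero eq_or_ng)
open Cfsg.Agent.H911 Cfsg.Agent.Omega.FOne.Lift.Sd Cfsg.Agent.Omega.CR Cfsg.Agent.H905.Md

/-! ### matrices -/

section mat

variable {K : Type*} [Field K] {ν : Type*} [Fintype ν] [DecidableEq ν]

/-- the matrices of a group of linear maps -/
noncomputable def mt (G0 : Subgroup ((ν → K) ≃ₗ[K] (ν → K))) : ↥G0 →* Matrix ν ν K where
  toFun g := LinearMap.toMatrix' (g.1 : (ν → K) →ₗ[K] (ν → K))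
  map_one' := LinearMap.toMatrix'_one
  map_mul' a b := by
    rw [← LinearMap.toMatrix'_mul]
    rfl

theorem mt_mulVec (G0 : Subgroup ((ν → K) ≃ₗ[K] (ν → K))) (g : G0) (v : ν → K) : (mt G0 g).mulVec v = g.1 v := by
  change (LinearMap.toMatrix' _).mulVec v = _
  rw [← Matrix.toLin'_apply, Matrix.toLin'_toMatrix']
  rfl

theorem lin_mt (G0 : Subgroup ((ν → K) ≃ₗ[K] (ν → K))) (g : G0) (v : ν → K) : lin (mt G0) g v = g.1 v := by
  rw [lin_apply, mt_mulVec]

end mat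

/-! ### type `B_n` -/

section C

open Cfsg.Agent.Nodes.TypeC
open Cfsg.Agent.Nodes.WittRGD (nn mono_nn rg_sr)

variable {F : Type*} [Field F] {V : Type*} [AddCommGroup V] [Module F V] {H : HForm F V} {n : ℕ}
  {Fr : Frame H (Fin n)}

theorem ee_zero (hn : 1 < n) {o : Fin n} (ho : (o : ℕ) = 0) (x : Fin n → ℤ) : ee x o = x o := by
  unfold ee
  rw [Finset.sum_apply, Finset.sum_eq_single o]
  · rw [Pi.smul_apply, bt_apply, if_pos (by omega), if_pos rfl, smul_eq_mul, mul_one]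
  · intro j _ hj
    have hj' : (j : ℕ) ≠ 0 := fun h => hj (Fin.ext (h.trans ho.symm))
    rw [Pi.smul_apply, bt_apply]
    have h1 : ¬ (o : ℕ) = j := fun h => hj' (by omega)
    have h2 : ¬ (o : ℕ) = (j : ℕ) + 1 := by omega
    simp [h1, h2]
  · intro h; exact absurd (Finset.mem_univ _) h

theorem neg_ne_of_wt {o : Fin n} {a b : Fin n × Bool} (h : Ok a b) (hw : 0 ≤ (wt a + wt b) o) :
    (o, true) ≠ neg a ∧ (o, true) ≠ neg b := by
  obtain ⟨a, s⟩ := a
  obtain ⟨b, t⟩ := b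
  rw [Pi.add_apply, wt_apply, wt_apply] at hw
  constructor
  · intro h1
    have h2 : o = a := congrArg Prod.fst h1
    have h3 : true = !s := congrArg Prod.snd h1
    subst h2
    have h4 : s = false := by cases s <;> simp_all
    subst h4
    rcases h with h | h
    · have h5 : o ≠ b := h
      simp [h5] at hw
    · have h5 : b = o := (congrArg Prod.fst h).symm
      have h6 : t = false := (congrArg Prod.snd h).symm
      subst h5 h6
      simp at hw
  · intro h1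
    have h2 : o = b := congrArg Prod.fst h1
    have h3 : true = !t := congrArg Prod.snd h1
    subst h2
    have h4 : t = false := by cases t <;> simp_all
    subst h4
    rcases h with h | h
    · have h5 : a ≠ o := h
      simp [h5.symm] at hw
    · have h5 : a = o := congrArg Prod.fst h
      have h6 : s = false := congrArg Prod.snd h
      subst h5 h6
      simp at hw

theorem PG_fix {a b z : Fin n × Bool} (h : Ok a b) (ha : z ≠ neg a) (hb : z ≠ neg b) {g : V ≃ₗ[F] V}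
    (hg : g ∈ PG Fr a b) : g (Fr.b z) = Fr.b z := by
  rcases h with h | rfl
  · rw [PG_ne Fr h] at hg
    obtain ⟨t, rfl⟩ := hg
    exact X_apply_of_ne Fr h ha hb t
  · rw [PG_self] at hg
    obtain ⟨q, rfl⟩ := hg
    exact Z_apply_of_ne Fr ha q

theorem rg_fix (hn : 1 < n) {o : Fin n} (ho : (o : ℕ) = 0) {W : Type*} [Group W]
    {cs : CoxeterSystem (CoxeterMatrix.B n) W} {x : Fin n → ℤ} (hx : IsRoot cs (isCartan n) x) (hxo : 0 ≤ x o)
    {g : V ≃ₗ[F] V} (hg : g ∈ WittRoot.rg Fr x) : g (Fr.b (o, true)) = Fr.b (o, true) := by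
  obtain ⟨a, b, hab, e⟩ := exists_of_isRoot cs hx
  rw [rg_eq Fr hab e] at hg
  rw [← ee_zero hn ho x, e] at hxo
  obtain ⟨h1, h2⟩ := neg_ne_of_wt hab hxo
  exact PG_fix hab h1 h2 hg

end C

section Cn

open Cfsg.Agent.Nodes.TypeC
open Cfsg.Agent.Nodes.WittRGD (nn mono_nn rg_sr)

variable {K : Type*} [Field K] {ν : Type*} [Fintype ν] [DecidableEq ν] {H : HForm K (ν → K)} {n : ℕ}
  {Fr : Frame H (Fin n)} {G0 : Subgroup ((ν → K) ≃ₗ[K] (ν → K))} {p : ℕ} (hA : AmbT Fr p G0)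
  {p0 : Fr.Adm} (hp0 : p0.c ≠ 0)
include hp0

theorem nn_apply (hn : 1 < n) {o : Fin n} (ho : (o : ℕ) = 0) :
    ∃ l : K, l ≠ 0 ∧ nn Fr p0 o (Fr.b (o, true)) = l • Fr.b (neg (nx o)) := by
  obtain ⟨l, hl, e⟩ := mono_nn hp0 o (o, true)
  refine ⟨l, hl, ?_⟩
  rw [e]
  congr 2
  have h1 : (o : ℕ) + 1 < n := by omega
  rw [sg_up h1]
  unfold nx neg
  simp [h1]

/-- **The natural module at the first node, type `B_n`.** -/
theorem natAt_C (hn : 1 < n) {o : Fin n} (ho : (o : ℕ) = 0) {W : Type*} [Group W]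
    (cs : CoxeterSystem (CoxeterMatrix.B n) W) :
    NatAt ((Tor Fr G0).subgroupOf G0) (fun i => (⟨nn Fr p0 i, WittAll.nn_mem hA p0 i⟩ : G0))
      (fun x => (WittRoot.rg Fr x).subgroupOf G0) (lin (mt G0)) o (Fr.b (o, true)) where
  c0 := b_ne_zero _
  fix i x hx := by
    rw [lin_mt]
    refine rg_fix hn ho (isRoot_sr cs (isCartan n) i) ?_ hx
    by_cases hi : i = o
    · subst hi; rw [sr, Pi.single_eq_same]; norm_num
    · rw [sr, Pi.single_eq_of_ne (Ne.symm hi)]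
  tor t ht := by
    obtain ⟨l, -, e⟩ := (show Mono Fr t.1 id from ht.2) (o, true)
    exact ⟨l, by rw [lin_mt]; exact e⟩
  neg i hi x hx := by
    rw [lin_mt]
    refine rg_fix hn ho (isRoot_sr cs (isCartan n) i).neg ?_ hx
    rw [Pi.neg_apply, sr, Pi.single_eq_of_ne (Ne.symm hi)]
    simp
  ind a ha := by
    rw [lin_mt] at ha
    obtain ⟨l, hl, e⟩ := nn_apply hp0 hn ho
    change nn Fr p0 o (Fr.b (o, true)) = _ at ha
    rw [e] at ha
    have h1 : (o : ℕ) + 1 < n := by omega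
    have hne : neg (nx o) ≠ (o, true) := by
      unfold nx neg
      simp only [h1, dif_pos]
      intro h2
      have h3 : (⟨(o : ℕ) + 1, h1⟩ : Fin n) = o := congrArg Prod.fst h2
      simp [Fin.ext_iff] at h3
    have h2 : Fr.b (neg (nx o)) = (l⁻¹ * a) • Fr.b (o, true) := by
      rw [mul_smul, ← ha, smul_smul, inv_mul_cancel₀ hl, one_smul]
    by_cases h3 : l⁻¹ * a = 0
    · rw [h3, zero_smul] at h2
      exact b_ne_zero _ h2
    · exact not_prop hne h3 h2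
  up x hx := by
    obtain ⟨l, hl, e⟩ := nn_apply hp0 hn ho
    have h1 : (o : ℕ) + 1 < n := by omega
    have hnx : ((o, true) : Fin n × Bool).1 ≠ (nx o).1 := by
      unfold nx
      simp [h1, Fin.ext_iff]
    have hx' : x.1 ∈ WittRoot.rg Fr (sr o) := hx
    rw [rg_sr, PG_ne Fr hnx] at hx'
    obtain ⟨t, ht⟩ := hx'
    refine ⟨l * t, ?_⟩
    rw [lin_mt, lin_mt]
    change x.1 (nn Fr p0 o (Fr.b (o, true))) = nn Fr p0 o (Fr.b (o, true)) + _
    rw [e, ht, map_smul, X_apply_neg Fr hnx, smul_add, smul_smul]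

theorem surjC (hn : 1 < n) {o : Fin n} (ho : (o : ℕ) = 0) (a : K) :
    ∃ x ∈ (WittRoot.rg Fr (sr o)).subgroupOf G0,
      lin (mt G0) x (lin (mt G0) (⟨nn Fr p0 o, WittAll.nn_mem hA p0 o⟩ : G0) (Fr.b (o, true))) =
        lin (mt G0) (⟨nn Fr p0 o, WittAll.nn_mem hA p0 o⟩ : G0) (Fr.b (o, true)) + a • Fr.b (o, true) := by
  obtain ⟨l, hl, e⟩ := nn_apply hp0 hn ho
  have h1 : (o : ℕ) + 1 < n := by omega
  have hnx : ((o, true) : Fin n × Bool).1 ≠ (nx o).1 := by
    unfold nx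
    simp [h1, Fin.ext_iff]
  refine ⟨⟨Fr.X (o, true) (nx o) (l⁻¹ * a), hA.X_mem _ _ _⟩, ?_, ?_⟩
  · rw [Subgroup.mem_subgroupOf, rg_sr, PG_ne Fr hnx]
    exact ⟨_, rfl⟩
  · rw [lin_mt, lin_mt]
    change Fr.X (o, true) (nx o) (l⁻¹ * a) (nn Fr p0 o (Fr.b (o, true))) = nn Fr p0 o (Fr.b (o, true)) + _
    rw [e, map_smul, X_apply_neg Fr hnx, smul_add, smul_smul, ← mul_assoc, mul_inv_cancel₀ hl, one_mul]

omit hp0 in
theorem fixC (hn : 1 < n) {o : Fin n} (ho : (o : ℕ) = 0) {W : Type*} [Group W]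
    (cs : CoxeterSystem (CoxeterMatrix.B n) W) :
    Fr.b (o, true) ∈ fx (lin (mt G0)) (RGD.Sup (fun x => (WittRoot.rg Fr x).subgroupOf G0)
      (RGD.Pos cs (isCartan n))) := by
  intro g hg
  have h3 : RGD.Sup (fun x => (WittRoot.rg Fr x).subgroupOf G0) (RGD.Pos cs (isCartan n)) ≤
      ({ carrier := {g | g.1 (Fr.b (o, true)) = Fr.b (o, true)}
         one_mem' := rfl
         mul_mem' := by
           intro a b (ha : a.1 _ = _) (hb : b.1 _ = _)
           change a.1 (b.1 _) = _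
           rw [hb, ha]
         inv_mem' := by
           intro a (ha : a.1 _ = _)
           change (a.1).symm _ = _
           rw [LinearEquiv.symm_apply_eq, ha] } : Subgroup G0) := by
    refine RGD.Sup_le fun x hx u hu => ?_
    exact rg_fix hn ho hx.1 (hx.2 o) hu
  rw [lin_mt]
  exact h3 hg

end Cn

/-! ### type `D_{n+2}` -/

section D

open Cfsg.Agent.Nodes.TypeD

variable {F : Type*} [Field F] {V : Type*} [AddCommGroup V] [Module F V] {H : HForm F V} {n : ℕ}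
  {Fr : Frame H (Fin (n + 2))}

theorem eeD_zero (hn : 0 < n) {o : Fin (n + 2)} (ho : (o : ℕ) = 0) (x : Fin (n + 2) → ℤ) : ee x o = x o := by
  unfold ee
  rw [Finset.sum_apply, Finset.sum_eq_single o]
  · rw [Pi.smul_apply, bt_apply, if_pos (by omega), if_pos rfl, smul_eq_mul, mul_one]
  · intro j _ hj
    have hj' : (j : ℕ) ≠ 0 := fun h => hj (Fin.ext (h.trans ho.symm))
    rw [Pi.smul_apply, bt_apply]
    have h1 : ¬ (o : ℕ) = j := fun h => hj' (by omega)
    have h2 : ¬ (o : ℕ) = (j : ℕ) + 1 := by omega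
    have h3 : ¬ (o : ℕ) = n := by omega
    simp [h1, h2, h3]
  · intro h; exact absurd (Finset.mem_univ _) h

theorem rgD_fix (hn : 0 < n) {o : Fin (n + 2)} (ho : (o : ℕ) = 0) {W : Type*} [Group W]
    {cs : CoxeterSystem (TypeD.M n) W} {x : Fin (n + 2) → ℤ} (hx : IsRoot cs (isCartan n) x) (hxo : 0 ≤ x o)
    {g : V ≃ₗ[F] V} (hg : g ∈ WittRGDD.rg Fr x) : g (Fr.b (o, true)) = Fr.b (o, true) := by
  obtain ⟨a, b, hab, e⟩ := exists_of_isRoot cs hx
  rw [WittRGDD.rg_eq Fr hab e] at hg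
  rw [← eeD_zero hn ho x, e] at hxo
  obtain ⟨h1, h2⟩ := neg_ne_of_wt (Or.inl hab) hxo
  obtain ⟨t, rfl⟩ := hg
  exact X_apply_of_ne Fr hab h1 h2 t

end D

section Dn

open Cfsg.Agent.Nodes.TypeD

variable {K : Type*} [Field K] {ν : Type*} [Fintype ν] [DecidableEq ν] {H : HForm K (ν → K)} {n : ℕ}
  {Fr : Frame H (Fin (n + 2))} {G0 : Subgroup ((ν → K) ≃ₗ[K] (ν → K))} (hA : WittRoot.Amb Fr G0)

theorem nnD_apply {o : Fin (n + 2)} (ho : (o : ℕ) = 0) :
    ∃ l : K, l ≠ 0 ∧ WittRGDD.nn Fr o (Fr.b (o, true)) = l • Fr.b (neg (nx o)) := by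
  obtain ⟨l, hl, e⟩ := WittRGDD.mono_nn (Fr := Fr) o (o, true)
  refine ⟨l, hl, ?_⟩
  rw [e]
  congr 2
  have h1 : (o : ℕ) + 1 < n + 2 := by omega
  unfold TypeD.sg TypeD.nx neg
  simp [h1]

/-- **The natural module at the first node, type `D_{n+2}`.** -/
theorem natAt_D (hn : 0 < n) {o : Fin (n + 2)} (ho : (o : ℕ) = 0) {W : Type*} [Group W]
    (cs : CoxeterSystem (TypeD.M n) W) :
    NatAt ((Tor Fr G0).subgroupOf G0) (fun i => (⟨WittRGDD.nn Fr i, WittRGDD.nn_mem hA i⟩ : G0))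
      (fun x => (WittRGDD.rg Fr x).subgroupOf G0) (lin (mt G0)) o (Fr.b (o, true)) where
  c0 := b_ne_zero _
  fix i x hx := by
    rw [lin_mt]
    refine rgD_fix hn ho (isRoot_sr cs (isCartan n) i) ?_ hx
    by_cases hi : i = o
    · subst hi; rw [sr, Pi.single_eq_same]; norm_num
    · rw [sr, Pi.single_eq_of_ne (Ne.symm hi)]
  tor t ht := by
    obtain ⟨l, -, e⟩ := (show Mono Fr t.1 id from ht.2) (o, true)
    exact ⟨l, by rw [lin_mt]; exact e⟩
  neg i hi x hx := by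
    rw [lin_mt]
    refine rgD_fix hn ho (isRoot_sr cs (isCartan n) i).neg ?_ hx
    rw [Pi.neg_apply, sr, Pi.single_eq_of_ne (Ne.symm hi)]
    simp
  ind a ha := by
    rw [lin_mt] at ha
    obtain ⟨l, hl, e⟩ := nnD_apply (Fr := Fr) ho
    change WittRGDD.nn Fr o (Fr.b (o, true)) = _ at ha
    rw [e] at ha
    have h1 : (o : ℕ) + 1 < n + 2 := by omega
    have hne : neg (nx o) ≠ (o, true) := by
      unfold nx neg
      simp only [h1, dif_pos]
      intro h2
      have h3 : (⟨(o : ℕ) + 1, h1⟩ : Fin (n + 2)) = o := congrArg Prod.fst h2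
      simp [Fin.ext_iff] at h3
    have h2 : Fr.b (neg (nx o)) = (l⁻¹ * a) • Fr.b (o, true) := by
      rw [mul_smul, ← ha, smul_smul, inv_mul_cancel₀ hl, one_smul]
    by_cases h3 : l⁻¹ * a = 0
    · rw [h3, zero_smul] at h2
      exact b_ne_zero _ h2
    · exact not_prop hne h3 h2
  up x hx := by
    obtain ⟨l, hl, e⟩ := nnD_apply (Fr := Fr) ho
    have hnx : ((o, true) : Fin (n + 2) × Bool).1 ≠ (nx o).1 := ok_nx o
    have hx' : x.1 ∈ WittRGDD.rg Fr (sr o) := hx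
    rw [WittRGDD.rg_sr] at hx'
    obtain ⟨t, ht⟩ := hx'
    refine ⟨l * t, ?_⟩
    rw [lin_mt, lin_mt]
    change x.1 (WittRGDD.nn Fr o (Fr.b (o, true))) = WittRGDD.nn Fr o (Fr.b (o, true)) + _
    rw [e, ht, map_smul, X_apply_neg Fr hnx, smul_add, smul_smul]

theorem surjD {o : Fin (n + 2)} (ho : (o : ℕ) = 0) (a : K) :
    ∃ x ∈ (WittRGDD.rg Fr (sr o)).subgroupOf G0,
      lin (mt G0) x (lin (mt G0) (⟨WittRGDD.nn Fr o, WittRGDD.nn_mem hA o⟩ : G0) (Fr.b (o, true))) =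
        lin (mt G0) (⟨WittRGDD.nn Fr o, WittRGDD.nn_mem hA o⟩ : G0) (Fr.b (o, true)) + a • Fr.b (o, true) := by
  obtain ⟨l, hl, e⟩ := nnD_apply (Fr := Fr) ho
  have hnx : ((o, true) : Fin (n + 2) × Bool).1 ≠ (nx o).1 := ok_nx o
  refine ⟨⟨Fr.X (o, true) (nx o) (l⁻¹ * a), hA.X_mem _ _ _⟩, ?_, ?_⟩
  · rw [Subgroup.mem_subgroupOf, WittRGDD.rg_sr]
    exact ⟨_, rfl⟩
  · rw [lin_mt, lin_mt]
    change Fr.X (o, true) (nx o) (l⁻¹ * a) (WittRGDD.nn Fr o (Fr.b (o, true))) = WittRGDD.nn Fr o (Fr.b (o, true)) + _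
    rw [e, map_smul, X_apply_neg Fr hnx, smul_add, smul_smul, ← mul_assoc, mul_inv_cancel₀ hl, one_mul]

theorem fixD (hn : 0 < n) {o : Fin (n + 2)} (ho : (o : ℕ) = 0) {W : Type*} [Group W]
    (cs : CoxeterSystem (TypeD.M n) W) :
    Fr.b (o, true) ∈ fx (lin (mt G0)) (RGD.Sup (fun x => (WittRGDD.rg Fr x).subgroupOf G0)
      (RGD.Pos cs (isCartan n))) := by
  intro g hg
  have h3 : RGD.Sup (fun x => (WittRGDD.rg Fr x).subgroupOf G0) (RGD.Pos cs (isCartan n)) ≤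
      ({ carrier := {g | g.1 (Fr.b (o, true)) = Fr.b (o, true)}
         one_mem' := rfl
         mul_mem' := by
           intro a b (ha : a.1 _ = _) (hb : b.1 _ = _)
           change a.1 (b.1 _) = _
           rw [hb, ha]
         inv_mem' := by
           intro a (ha : a.1 _ = _)
           change (a.1).symm _ = _
           rw [LinearEquiv.symm_apply_eq, ha] } : Subgroup G0) := by
    refine RGD.Sup_le fun x hx u hu => ?_
    exact rgD_fix hn ho hx.1 (hx.2 o) hu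
  rw [lin_mt]
  exact h3 hg

end Dn

end Cfsg.Agent.H925.Nat
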