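import Cfsg.Agent.H925.NatThree

/-!
# Covers of linear groups of classical type; rank three and `PΩ⁺_8` (helper925)

`P ≤ GL(ι, F)` a core (`H915.LD.Core`) with `P / scalars ≃ G(K)`, `char F = char K = p`.

* `CvC`, `CvD` : covers with a root group datum of type `B_n`, `D_{n+2}` of a group of isometries of a Witt frame;
  `exists_cvC`, `exists_cvD`;
* `CvSp`, `CvOdd`, `CvMinus`, `CvPlus` : the classical groups; `exists_cvSp`, `exists_cvOdd`, `exists_cvMinus`,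
  `exists_cvPlus`;
* **`psp_three`**, **`po_odd_three`**, **`po_minus_three`**, **`po_plus_four`** : `|ι| ≤ 12` and `J = {0}ᶜ` : `P` is
  conjugate to the natural group.
-/

set_option autoImplicit false
set_option linter.unusedSectionVars false

namespace Cfsg.Agent.H925.Nat

open QuadraticMap
open CoxeterSystem Cfsg.Agent.ChevalleyStructure.CoxeterGeom Cfsg.Agent.Tits.Roots
open Cfsg.Agent.LieClassical Cfsg.Agent.LieClassical.OrthCore Cfsg.Agent.LieClassical.OrthTrans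
open Cfsg.Agent.LieClassical.OrthSimple Cfsg.Agent.LieClassical.OrthFinite Cfsg.Agent.LieClassical.OrthForms
open Cfsg.Agent.TitsThree Cfsg.Agent.TitsThree.KSideO Cfsg.Agent.TitsThree.StdData
open Cfsg.Agent.Nodes Cfsg.Agent.Nodes.WittAll Cfsg.Agent.Nodes.WittInst Cfsg.Agent.Nodes.WittU
  Cfsg.Agent.TitsThree.Siegel Cfsg.Agent.TitsThree.SiegelGen
  Cfsg.Agent.TitsThree.WittFrame Cfsg.Agent.TitsThree.WBridge Cfsg.Agent.TitsThree.WittWeyl
  Cfsg.Agent.TitsThree.FrameCN Cfsg.Agent.Nodes.BNOf Cfsg.Agent.Nodes.RGDLib Cfsg.Agent.Nodes.WittRGD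
open Cfsg.Agent.H915.LD Cfsg.Agent.H905.Md
open Cfsg Cfsg.Geo
open scoped MatrixGroups Matrix

universe u

section

variable {F : Type u} [Field F] [Finite F] {ι : Type} [Fintype ι] [DecidableEq ι] {P : Subgroup (GL ι F)}
  {K : Type} [Field K] {ν : Type} [Fintype ν] [DecidableEq ν]

/-- covers, type `B_n` -/
abbrev CvC (P : Subgroup (GL ι F)) {H : HForm K (ν → K)} {n : ℕ} {Fr : Frame H (Fin n)}
    {G0 : Subgroup ((ν → K) ≃ₗ[K] (ν → K))} {p : ℕ} (hA : AmbT Fr p G0) (p0 : Fr.Adm) (Y : Type*) [Group Y] :=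
  Cv P (CoxeterMatrix.B n).toCoxeterSystem (TypeC.isCartan n) p ((Tor Fr G0).subgroupOf G0)
    (fun i => (⟨WittRGD.nn Fr p0 i, WittAll.nn_mem hA p0 i⟩ : G0)) (fun x => (WittRoot.rg Fr x).subgroupOf G0) Y

/-- covers, type `D_{n+2}` -/
abbrev CvD (P : Subgroup (GL ι F)) {H : HForm K (ν → K)} {n : ℕ} {Fr : Frame H (Fin (n + 2))}
    {G0 : Subgroup ((ν → K) ≃ₗ[K] (ν → K))} (p : ℕ) (hA : WittRoot.Amb Fr G0) (Y : Type*) [Group Y] :=
  Cv P (TypeD.M n).toCoxeterSystem (TypeD.isCartan n) p ((Tor Fr G0).subgroupOf G0)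
    (fun i => (⟨WittRGDD.nn Fr i, WittRGDD.nn_mem hA i⟩ : G0)) (fun x => (WittRGDD.rg Fr x).subgroupOf G0) Y

theorem exists_cvC (hC : Core P) [Finite K] {H : HForm K (ν → K)} {n : ℕ} {Fr : Frame H (Fin n)} {T₀ : Type*} [Group T₀]
    (M : Model Fr T₀) {p : ℕ} [Fact p.Prime] [CharP F p] [CharP K p] (hA : AmbT Fr p M.I) {p0 : Fr.Adm}
    (hp0 : p0.c ≠ 0) (hn : 0 < n) (hperf : commutator ↥M.I = ⊤) (e : Soc P ≃* T₀) :
    ∃ (Y : Type u) (_ : Group Y) (_ : Finite Y) (C : CvC P hA p0 Y), ∀ y, prj e (C.g y) = M.φ (C.f y) := by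
  have hfin : Finite ((ν → K) ≃ₗ[K] (ν → K)) :=
    Finite.of_injective (fun g : (ν → K) ≃ₗ[K] (ν → K) => (g : (ν → K) → (ν → K))) DFunLike.coe_injective
  have hWf : Finite (CoxeterMatrix.B n).Group := TypeC.finite_W (CoxeterMatrix.B n).toCoxeterSystem
  exact exists_cv hC (rgdM hA hp0) (G1M M hn hperf) hperf (model_surjective M hn) e

theorem exists_cvD (hC : Core P) [Finite K] {Q : QuadraticForm K (ν → K)} {n : ℕ} {T₀ : Type*} [Group T₀]
    (W : WFrame (PO Q) (n + 2)) (hG : Good Q) {φ : E Q →* T₀} (hφ : Function.Surjective φ) {p : ℕ}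
    [Fact p.Prime] [CharP F p] [CharP K p] (hA : WittRoot.Amb (toFrame W) (E Q)) (h0 : ∀ q : (toFrame W).Adm, q = 1)
    (e : Soc P ≃* T₀) :
    ∃ (Y : Type u) (_ : Group Y) (_ : Finite Y) (C : CvD P p hA Y), ∀ y, prj e (C.g y) = φ (C.f y) := by
  have hfin : Finite ((ν → K) ≃ₗ[K] (ν → K)) :=
    Finite.of_injective (fun g : (ν → K) ≃ₗ[K] (ν → K) => (g : (ν → K) → (ν → K))) DFunLike.coe_injective
  have hWf : Finite (TypeD.M n).Group := TypeD.finite_W (TypeD.M n).toCoxeterSystem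
  have hR := rgd_restrict (rgdD hA h0 (TypeD.M n).toCoxeterSystem (p := p))
    (E Q) (fun x _ => rgD_le _ hA x) (fun i => WittRGDD.nn_mem hA i)
  have hperf : commutator ↥(E Q) = ⊤ := H911.Five.commutator_top hG.E_perfect
  have hG1 : G1 (TypeD.M n).toCoxeterSystem (TypeD.isCartan n)
      (fun x => (WittRGDD.rg (toFrame W) x).subgroupOf (E Q)) = ⊤ := by
    have h1 := G1D_eq_top W (MonoidHom.id (E Q)) Function.surjective_id h0 (TypeD.M n).toCoxeterSystem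
    rw [← h1]
    congr 1
    funext x
    exact (Subgroup.map_id _).symm
  exact exists_cv hC hR hG1 hperf hφ e

/-! ### symplectic groups -/

/-- covers of `PSp_2m(K)` -/
abbrev CvSp (P : Subgroup (GL ι F)) (m : ℕ) (K : Type) [Field K] (p : ℕ) [Fact p.Prime] [CharP K p] (Y : Type*) [Group Y] :=
  CvC P (AmbT.of_amb (amb_Sp (m := m) (F := K)) p) (SpIdent.adm 1) Y

theorem exists_cvSp (hC : Core P) [Finite K] {p : ℕ} [Fact p.Prime] [CharP F p] [CharP K p] {m : ℕ} (hm : 3 ≤ m)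
    (e : Soc P ≃* PSp m K) :
    ∃ (Y : Type u) (_ : Group Y) (_ : Finite Y) (C : CvSp P m K p Y),
      ∀ y, prj e (C.g y) = (KInstSp.model m K).φ (C.f y) :=
  exists_cvC hC (KInstSp.model m K) (AmbT.of_amb amb_Sp p) (p0 := SpIdent.adm 1) one_ne_zero (by omega)
    (commutator_isos hm) e

/-- **`PSp_6`, the natural node.** -/
theorem psp_three (hC : Core P) [Finite K] {p : ℕ} [Fact p.Prime] [CharP F p] [CharP K p] (hι : Fintype.card ι ≤ 12)
    {Y : Type*} [Group Y] [Finite Y] (C : CvSp P 3 K p Y) (hJ : ∀ i, i ∈ C.J ↔ i ≠ 0) :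
    Nonempty (K ≃+* F) ∧ CjOf (spGL 3 F) P := by
  obtain ⟨τ, θ, h⟩ := nat_C3 hC (AmbT.of_amb amb_Sp p) (p0 := SpIdent.adm 1) one_ne_zero
    (span_of_matrixSet mem_spGL_iff' (H931.spGL_absIrreducible (by omega))) hι C.surj_f C.surj_g C.ker C.cop C.n_eq
    C.rgd C.gen hJ
  exact ⟨⟨τ⟩, cjOf_of mem_spGL_iff' (map_spGL_glm τ 3) h⟩

/-! ### orthogonal groups -/

/-- covers of `PΩ_{2m+1}(K)` -/
abbrev CvOdd (P : Subgroup (GL ι F)) (m : ℕ) (K : Type) [Field K] [Finite K] (h2 : (2 : K) ≠ 0) (p : ℕ) [Fact p.Prime]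
    [CharP K p] (Y : Type*) [Group Y] :=
  CvC P (AmbT.of_amb (amb_O_of_two (wodd m K) h2) p) ((embOdd m K).ngt ⟨1, -1 ^ 2, rfl⟩) Y

theorem good_odd [Finite K] {m : ℕ} (hm : 3 ≤ m) (h2 : (2 : K) ≠ 0) : Good (oddForm m K) := by
  apply good_of_finite (nondeg_oddForm m K h2)
  rw [Module.finrank_fintype_fun_eq_card, Fintype.card_sum, Fintype.card_sum, Fintype.card_fin,
    Fintype.card_unit]
  omega

theorem odd_c_ne (m : ℕ) (K : Type) [Field K] : ((embOdd m K).ngt ⟨1, -1 ^ 2, rfl⟩).c ≠ 0 := by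
  change (1 : K)⁻¹ * (-1 ^ 2) ≠ 0
  simp

theorem exists_cvOdd (hC : Core P) [Finite K] {p : ℕ} [Fact p.Prime] [CharP F p] [CharP K p] {m : ℕ} (hm : 3 ≤ m)
    (h2 : (2 : K) ≠ 0) (e : Soc P ≃* POmega K (⇑(oddForm m K))) :
    ∃ (Y : Type u) (_ : Group Y) (_ : Finite Y) (C : CvOdd P m K h2 p Y),
      ∀ y, prj e (C.g y) = (model (wodd m K) (good_odd hm h2) ⟨_, odd_c_ne m K⟩).φ (C.f y) := exists_cvC hC (model (wodd m K) (good_odd hm h2) ⟨_, odd_c_ne m K⟩) (AmbT.of_amb (amb_O_of_two _ h2) p)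
    (odd_c_ne m K) (by omega) (H911.Five.commutator_top (good_odd hm h2).E_perfect) e

/-- **`PΩ_7`, the natural node.** -/
theorem po_odd_three (hC : Core P) [Finite K] {p : ℕ} [Fact p.Prime] [CharP F p] [CharP K p] (hι : Fintype.card ι ≤ 12)
    (h2 : (2 : K) ≠ 0) {Y : Type*} [Group Y] [Finite Y] (C : CvOdd P 3 K h2 p Y) (hJ : ∀ i, i ∈ C.J ↔ i ≠ 0) :
    Nonempty (K ≃+* F) ∧ CjOf (omegaGL (quadFormOdd 3 F)) P := by
  have hG := good_odd (K := K) (m := 3) le_rfl h2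
  obtain ⟨τ, θ, h⟩ := nat_C3 hC (AmbT.of_amb (amb_O_of_two (wodd 3 K) h2) p) (odd_c_ne 3 K)
    (span_E hG (by rw [Fintype.card_sum, Fintype.card_sum, Fintype.card_fin, Fintype.card_unit]; omega)) hι C.surj_f
    C.surj_g C.ker C.cop C.n_eq C.rgd C.gen hJ
  refine ⟨⟨τ⟩, cjOf_of (mem_omega_iff'' hG) (map_omega_glm τ fun v => ?_) h⟩
  rw [coe_oddForm]
  exact quadFormOdd_map τ v

theorem good_minus [Finite K] {m : ℕ} (hm : 3 ≤ m) {a b : K}
    (hab : ∀ z₁ z₂ : K, z₁ ^ 2 + a * z₁ * z₂ + b * z₂ ^ 2 = 0 → z₁ = 0 ∧ z₂ = 0) : Good (minusForm m K a b) := by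
  apply good_of_finite (nondeg_minusForm m K a b hab)
  rw [Module.finrank_fintype_fun_eq_card, Fintype.card_sum, Fintype.card_sum, Fintype.card_fin, Fintype.card_fin]
  omega

theorem minus_c_ne (m : ℕ) {a b : K}
    (hab : ∀ z₁ z₂ : K, z₁ ^ 2 + a * z₁ * z₂ + b * z₂ ^ 2 = 0 → z₁ = 0 ∧ z₂ = 0) :
    ((embMinus m K a b hab).ngt ⟨(1, 0), -nf a b (1, 0), rfl⟩).c ≠ 0 := by
  change (1 : K)⁻¹ * (-nf a b (1, 0)) ≠ 0
  simp [nf]

theorem ambT_minus [Finite K] {m : ℕ} (hm : 3 ≤ m) {p : ℕ} [Fact p.Prime] [CharP K p] {a b : K}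
    (hab : ∀ z₁ z₂ : K, z₁ ^ 2 + a * z₁ * z₂ + b * z₂ ^ 2 = 0 → z₁ = 0 ∧ z₂ = 0) :
    AmbT (toFrame (wminus m K a b hab)) p (E (minusForm m K a b)) := by
  by_cases h2 : (2 : K) = 0
  · have hp2 : p = 2 := by
      have h3 : CharP K 2 := CharTwo.of_one_ne_zero_of_two_eq_zero one_ne_zero h2
      exact CharP.eq K ‹CharP K p› h3
    subst hp2
    exact ambT_O _ fun g hg hg2 hb => fixp_minus a b hab h2 (by omega) (good_minus hm hab) hg hg2 hb
  · exact AmbT.of_amb (amb_O_of_two _ h2) p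

/-- covers of `PΩ⁻_{2m+2}(K)` -/
abbrev CvMinus (P : Subgroup (GL ι F)) {m : ℕ} (hm : 3 ≤ m) {K : Type} [Field K] [Finite K] {a b : K}
    (hab : ∀ z₁ z₂ : K, z₁ ^ 2 + a * z₁ * z₂ + b * z₂ ^ 2 = 0 → z₁ = 0 ∧ z₂ = 0) (p : ℕ) [Fact p.Prime] [CharP K p]
    (Y : Type*) [Group Y] :=
  CvC P (ambT_minus (p := p) hm hab) ((embMinus m K a b hab).ngt ⟨(1, 0), -nf a b (1, 0), rfl⟩) Y

theorem exists_cvMinus (hC : Core P) [Finite K] {p : ℕ} [Fact p.Prime] [CharP F p] [CharP K p] {m : ℕ} (hm : 3 ≤ m)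
    {a b : K} (hab : ∀ z₁ z₂ : K, z₁ ^ 2 + a * z₁ * z₂ + b * z₂ ^ 2 = 0 → z₁ = 0 ∧ z₂ = 0)
    (e : Soc P ≃* POmega K (⇑(minusForm m K a b))) :
    ∃ (Y : Type u) (_ : Group Y) (_ : Finite Y) (C : CvMinus P hm hab p Y),
      ∀ y, prj e (C.g y) = (model (wminus m K a b hab) (good_minus hm hab) ⟨_, minus_c_ne m hab⟩).φ (C.f y) :=
  exists_cvC hC (model (wminus m K a b hab) (good_minus hm hab) ⟨_, minus_c_ne m hab⟩) (ambT_minus hm hab)
    (minus_c_ne m hab) (by omega) (H911.Five.commutator_top (good_minus hm hab).E_perfect) e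

/-- **`PΩ⁻_8`, the natural node.** -/
theorem po_minus_three (hC : Core P) [Finite K] {p : ℕ} [Fact p.Prime] [CharP F p] [CharP K p]
    (hι : Fintype.card ι ≤ 12) {a b : K}
    (hab : ∀ z₁ z₂ : K, z₁ ^ 2 + a * z₁ * z₂ + b * z₂ ^ 2 = 0 → z₁ = 0 ∧ z₂ = 0) {Y : Type*} [Group Y] [Finite Y]
    (C : CvMinus P (le_refl 3) hab p Y) (hJ : ∀ i, i ∈ C.J ↔ i ≠ 0) :
    ∃ τ : K ≃+* F, CjOf (omegaGL (quadFormMinus 3 F (τ a) (τ b))) P := by
  have hG := good_minus (K := K) (m := 3) le_rfl hab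
  obtain ⟨τ, θ, h⟩ := nat_C3 hC (ambT_minus (m := 3) le_rfl hab) (minus_c_ne 3 hab)
    (span_E hG (by rw [Fintype.card_sum, Fintype.card_sum, Fintype.card_fin, Fintype.card_fin]; omega)) hι C.surj_f
    C.surj_g C.ker C.cop C.n_eq C.rgd C.gen hJ
  refine ⟨τ, cjOf_of (mem_omega_iff'' hG) (map_omega_glm τ fun v => ?_) h⟩
  rw [coe_minusForm]
  exact quadFormMinus_map τ a b v

theorem good_plus [Finite K] {m : ℕ} (hm : 3 ≤ m) : Good (plusForm m K) := by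
  apply good_of_finite (nondeg_plusForm m K)
  rw [Module.finrank_fintype_fun_eq_card, Fintype.card_sum, Fintype.card_fin]
  omega

/-- covers of `PΩ⁺_{2m}(K)`, `m = n + 2` -/
abbrev CvPlus (P : Subgroup (GL ι F)) (n : ℕ) (K : Type) [Field K] (p : ℕ) (Y : Type*) [Group Y] :=
  CvD P p (amb_plus (m := n + 2) (F := K)) Y

theorem exists_cvPlus (hC : Core P) [Finite K] {p : ℕ} [Fact p.Prime] [CharP F p] [CharP K p] {n : ℕ} (hn : 1 ≤ n)
    (e : Soc P ≃* POmega K (⇑(plusForm (n + 2) K))) :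
    ∃ (Y : Type u) (_ : Group Y) (_ : Finite Y) (C : CvPlus P n K p Y),
      ∀ y, prj e (C.g y) = toPOmega (good_plus (K := K) (m := n + 2) (by omega)) (C.f y) :=
  exists_cvD hC (wplus (n + 2) K) (good_plus (by omega)) (toPOmega_surjective (good_plus (by omega))) (amb_plus _)
    (adm_plus _) e

/-- **`PΩ⁺_8`, the natural node.** -/
theorem po_plus_four (hC : Core P) [Finite K] {p : ℕ} [Fact p.Prime] [CharP F p] [CharP K p]
    (hι : Fintype.card ι ≤ 12) {Y : Type*} [Group Y] [Finite Y] (C : CvPlus P 2 K p Y) (hJ : ∀ i, i ∈ C.J ↔ i ≠ 0) :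
    Nonempty (K ≃+* F) ∧ CjOf (omegaGL (quadFormPlus 4 F)) P := by
  have hG := good_plus (K := K) (m := 4) (by omega)
  obtain ⟨τ, θ, h⟩ := nat_D4 hC (p := p) (amb_plus _) (adm_plus _) (rgD_le _ (amb_plus _))
    (span_E hG (by rw [Fintype.card_sum, Fintype.card_fin]; omega)) hι C.surj_f
    C.surj_g C.ker C.cop C.n_eq C.rgd C.gen hJ
  refine ⟨⟨τ⟩, cjOf_of (mem_omega_iff'' hG) (map_omega_glm τ fun v => ?_) h⟩
  rw [coe_plusForm]
  exact quadFormPlus_map τ v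

end

end Cfsg.Agent.H925.Nat
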