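import Cfsg.Agent.H925.OrthBasic

/-!
# `omegaGL Q` is contained in no member of the geometric classes
-/

set_option autoImplicit false
set_option linter.unusedSectionVars false

namespace Cfsg.Agent.H925

open QuadraticMap Matrix
open Cfsg.Agent.LieClassical.OrthCore Cfsg.Agent.LieClassical.OrthTrans Cfsg.Agent.LieClassical.OrthFinite

/-- a maximal subgroup `H` of `K` contained in `M` with `K ≰ M` is `M ⊓ K` -/
theorem eq_inf_of_isMaximalIn {G : Type*} [Group G] {K H M : Subgroup G} (hH : Geo.IsMaximalIn K H) (h : H ≤ M)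
    (hK : ¬ K ≤ M) : H = M ⊓ K := by
  rcases hH.2 (M ⊓ K) (le_inf h hH.1.le) inf_le_right with h1 | h1
  · exact h1.symm
  · exact absurd (inf_eq_right.1 h1) hK

variable {ι : Type} [Fintype ι] [DecidableEq ι] {F : Type*} [Field F]

theorem mem_subspaceStabilizer_iff {W : Submodule F (ι → F)} {g : GL ι F} :
    g ∈ Geo.subspaceStabilizer W ↔ ∀ v, v ∈ W ↔ (g : Matrix ι ι F) *ᵥ v ∈ W := Iff.rfl

section Finite

variable [Finite F] {Q : (ι → F) → F} (hQ : Geo.IsNondegenerateQuadraticForm Q)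

include hQ

/-- class 1 -/
theorem omegaGL_not_le_subspaceStabilizer (hn : 5 ≤ Fintype.card ι) {W : Submodule F (ι → F)} (h0 : W ≠ ⊥)
    (h1 : W ≠ ⊤) : ¬ Geo.omegaGL Q ≤ Geo.subspaceStabilizer W := by
  intro h
  rcases omegaGL_irreducible hQ hn W (fun g hg w hw => ((h hg) w).1 hw) with h2 | h2
  · exact h0 h2
  · exact h1 h2

/-- singular vectors outside a hyperplane-like condition: a singular vector orthogonal to `u, v`, not a multiple of `u` -/
theorem exists_sing_perp2 (hn : 6 ≤ Fintype.card ι) {w u : ι → F} (hu0 : u ≠ 0) :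
    ∃ u' : ι → F, u' ≠ 0 ∧ Q u' = 0 ∧ polar Q w u' = 0 ∧ polar Q u u' = 0 ∧ ∀ c : F, u' ≠ c • u := by
  obtain ⟨y, hy⟩ := (nondeg_qf hQ).exists_polar_ne hu0
  obtain ⟨u', h0, hs, hp⟩ := exists_sing_perp (Q := qf hQ) ![w, u, y] (by
    rw [Module.finrank_fintype_fun_eq_card]; omega)
  refine ⟨u', h0, hs, hp 0, hp 1, ?_⟩
  rintro c rfl
  have h2 : polar (qf hQ) y (c • u) = 0 := hp 2
  rw [polar_smul_right, smul_eq_mul, polar_comm] at h2
  rcases mul_eq_zero.1 h2 with h3 | h3
  · exact h0 (by rw [h3, zero_smul])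
  · exact hy h3

/-- class 2 -/
theorem omegaGL_not_le_decompositionStabilizer (hn : 6 ≤ Fintype.card ι) {t : ℕ} (ht : 2 ≤ t)
    {D : Fin t → Submodule F (ι → F)} (hD0 : ∀ i, D i ≠ ⊥) (hind : iSupIndep D) :
    ¬ Geo.omegaGL Q ≤ Geo.decompositionStabilizer D := by
  intro h
  have hn5 : 5 ≤ Fintype.card ι := by omega
  have hperm : ∀ g ∈ Geo.omegaGL Q, ∀ i, ∃ j, ∀ v ∈ D i, (g : Matrix ι ι F) *ᵥ v ∈ D j := by
    intro g hg i
    obtain ⟨σ, hσ⟩ := h hg
    refine ⟨σ i, fun v hv => ?_⟩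
    rw [← hσ i]
    exact ⟨v, hv, rfl⟩
  -- vectors in a member are mapped to vectors in a member
  have huniq : ∀ i j, i ≠ j → ∀ v, v ∈ D i → v ∈ D j → v = 0 := by
    intro i j hij v h1 h2
    exact (Submodule.disjoint_def.1 (hind.pairwiseDisjoint hij)) v h1 h2
  -- three members: `a + b = c + d` with `a ∈ D i` etc.
  have hproj : ∀ (i j k l : Fin t) (a b c d : ι → F), a ∈ D i → b ∈ D j → c ∈ D k → d ∈ D l → a + b = c + d →
      k ≠ i → k ≠ j → k ≠ l → c = 0 := by
    intro i j k l a b c d ha hb hc hd he h1 h2 h3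
    have hc' : c ∈ ⨆ m, ⨆ (_ : m ≠ k), D m := by
      have e : c = a + b - d := by rw [he]; abel
      rw [e]
      refine Submodule.sub_mem _ (Submodule.add_mem _ ?_ ?_) ?_
      · exact (le_iSup₂ (f := fun m (_ : m ≠ k) => D m) i h1.symm) ha
      · exact (le_iSup₂ (f := fun m (_ : m ≠ k) => D m) j h2.symm) hb
      · exact (le_iSup₂ (f := fun m (_ : m ≠ k) => D m) l h3.symm) hd
    exact (Submodule.disjoint_def.1 (hind k)) c hc hc'
  by_cases hs : ∃ i, ∃ u ∈ D i, u ≠ 0 ∧ Q u = 0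
  · obtain ⟨i, u, huD, hu0, hu⟩ := hs
    -- all singular vectors lie in some member
    have hall : ∀ v, Q v = 0 → v ≠ 0 → ∃ j, v ∈ D j := by
      intro v hv hv0
      obtain ⟨g, hg, hgu⟩ := exists_trans hQ hn5 hu0 hv0 (by rw [hu, hv])
      obtain ⟨j, hj⟩ := hperm g hg i
      exact ⟨j, by rw [← hgu]; exact hj u huD⟩
    have hperp : ∀ u ∈ D i, u ≠ 0 → Q u = 0 → ∀ v, Q v = 0 → polar Q u v = 0 → v ∈ D i := by
      intro u huD hu0 hu v hv huv
      by_cases hv0 : v = 0
      · rw [hv0]; exact (D i).zero_mem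
      obtain ⟨j, hj⟩ := hall v hv hv0
      by_cases hij : i = j
      · rw [hij]; exact hj
      exfalso
      have hs : Q (u + v) = 0 := by
        have := Q_add (Q := qf hQ) u v
        rw [qf_apply, qf_apply, qf_apply] at this
        rw [this, hu, hv]
        show 0 + 0 + polar Q u v = 0
        rw [huv]; ring
      have hne : u + v ≠ 0 := by
        intro h0
        have : v = -u := by
          rw [eq_neg_iff_add_eq_zero, add_comm]; exact h0
        apply hv0
        exact huniq i j hij v (by rw [this]; exact (D i).neg_mem huD) hj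
      obtain ⟨k, hk⟩ := hall _ hs hne
      by_cases hki : k = i
      · apply hv0
        apply huniq i j hij v _ hj
        have := (D i).sub_mem (hki ▸ hk) huD
        rwa [add_sub_cancel_left] at this
      · apply hu0
        have := hproj k k i j (u + v) 0 u v hk (D k).zero_mem huD hj (by rw [add_zero]) (Ne.symm hki) (Ne.symm hki) hij
        exact this
    -- all singular vectors are in `D i`
    have hin : ∀ v, Q v = 0 → v ∈ D i := by
      intro v hv
      by_cases hv0 : v = 0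
      · rw [hv0]; exact (D i).zero_mem
      obtain ⟨w, hw0, hws, hw1, hw2, _⟩ := exists_sing_perp2 hQ hn (w := v) (u := u) hu0
      have hwD : w ∈ D i := hperp u huD hu0 hu w hws hw2
      refine hperp w hwD hw0 hws v hv ?_
      rw [polar_comm]; exact hw1
    have htop : D i = ⊤ := by
      rw [eq_top_iff]
      intro v _
      obtain ⟨x, y, hxy⟩ := (good_qf hQ hn5).exists_hyp
      exact sing_induction hxy (P := fun v => v ∈ D i) (fun a c ha hc => (D i).add_mem ha hc) (fun a ha => hin a ha) v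
    obtain ⟨j, hj⟩ : ∃ j : Fin t, j ≠ i := by
      have : Nontrivial (Fin t) := Fin.nontrivial_iff_two_le.2 ht
      exact exists_ne i
    obtain ⟨v, hv, hv0⟩ := (Submodule.ne_bot_iff _).1 (hD0 j)
    exact hv0 (huniq j i hj v hv (by rw [htop]; trivial))
  · push Not at hs
    have hpos : 0 < t := by omega
    obtain ⟨w, hwD, hw0⟩ := (Submodule.ne_bot_iff _).1 (hD0 ⟨0, hpos⟩)
    set i : Fin t := ⟨0, hpos⟩ with hi
    have hall : ∀ v, Q v = Q w → v ≠ 0 → ∃ j, v ∈ D j := by
      intro v hv hv0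
      obtain ⟨g, hg, hgu⟩ := exists_trans hQ hn5 hw0 hv0 hv.symm
      obtain ⟨j, hj⟩ := hperm g hg i
      exact ⟨j, by rw [← hgu]; exact hj w hwD⟩
    have hQw : Q w ≠ 0 := hs i w hwD hw0
    have hadd : ∀ u, Q u = 0 → polar Q w u = 0 → Q (w + u) = Q w := by
      intro u hu hwu
      have := Q_add (Q := qf hQ) w u
      rw [qf_apply, qf_apply, qf_apply] at this
      rw [this, hu]
      show Q w + 0 + polar Q w u = Q w
      rw [hwu]; ring
    have hstep : ∀ u, u ≠ 0 → Q u = 0 → polar Q w u = 0 → ∃ j, j ≠ i ∧ w + u ∈ D j := by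
      intro u hu0 hu hwu
      have h1 := hadd u hu hwu
      have hne : w + u ≠ 0 := by
        intro h0
        rw [h0] at h1
        have h00 : Q 0 = 0 := QuadraticMap.map_zero (qf hQ)
        rw [h00] at h1
        exact hQw h1.symm
      obtain ⟨j, hj⟩ := hall (w + u) h1 hne
      refine ⟨j, ?_, hj⟩
      rintro rfl
      have := (D i).sub_mem hj hwD
      rw [add_sub_cancel_left] at this
      exact hs i u this hu0 hu
    obtain ⟨u, hu0, hus, hu1, _, _⟩ := exists_sing_perp2 hQ hn (w := w) (u := w) hw0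
    obtain ⟨u', hu'0, hu's, hu'1, hu'2, hu'3⟩ := exists_sing_perp2 hQ hn (w := w) (u := u) hu0
    obtain ⟨j, hj, hju⟩ := hstep u hu0 hus hu1
    obtain ⟨k, hk, hku⟩ := hstep u' hu'0 hu's hu'1
    have huu : Q (u + u') = 0 := by
      have := Q_add (Q := qf hQ) u u'
      rw [qf_apply, qf_apply, qf_apply] at this
      rw [this, hus, hu's]
      show 0 + 0 + polar Q u u' = 0
      rw [hu'2]; ring
    have huu0 : u + u' ≠ 0 := by
      intro h0
      apply hu'3 (-1)
      rw [neg_one_smul, eq_neg_iff_add_eq_zero, add_comm]; exact h0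
    obtain ⟨l, hl, hlu⟩ := hstep (u + u') huu0 huu (by
      have : polar (qf hQ) w (u + u') = polar (qf hQ) w u + polar (qf hQ) w u' := polar_add_right _ _ _ _
      have h3 : polar Q w (u + u') = polar Q w u + polar Q w u' := this
      rw [h3, hu1, hu'1, add_zero])
    apply hw0
    exact hproj j k i l (w + u) (w + u') w (w + (u + u')) hju hku hwD hlu (by abel) hj.symm hk.symm hl.symm

/-- a matrix commuting with `omegaGL` is a scalar -/
theorem eq_smul_of_commute_omegaGL (hn : 5 ≤ Fintype.card ι) {M : Matrix ι ι F}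
    (hM : ∀ g ∈ Geo.omegaGL Q, M * (g : Matrix ι ι F) = (g : Matrix ι ι F) * M) :
    ∃ c : F, M = c • (1 : Matrix ι ι F) := by
  have hG := good_qf hQ hn
  obtain ⟨u, v, huv⟩ := hG.exists_hyp
  obtain ⟨z, w, hzw, huz, huw, hvz, hvw⟩ := hG.exists_hyp2 huv
  have hz0 : z ≠ 0 := hzw.left_ne
  -- `M u` is in the span of `u` and `x` for `x = z`, `x = w`
  have key : ∀ x y : ι → F, polar Q u x = 0 → polar Q u y = 0 → polar Q x y = 1 →
      ∃ a b : F, M *ᵥ u = a • x + b • u := by
    intro x y hx hy hxy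
    obtain ⟨g, hg, hgv⟩ := exists_siegel hQ hn (u := u) (w := x) huv.left hx
    have h1 : (g : Matrix ι ι F) *ᵥ y = y - u := by
      rw [hgv, hy, hxy]; module
    have h2 : M *ᵥ ((g : Matrix ι ι F) *ᵥ y) = (g : Matrix ι ι F) *ᵥ (M *ᵥ y) := by
      rw [Matrix.mulVec_mulVec, Matrix.mulVec_mulVec, hM g hg]
    rw [h1, hgv, Matrix.mulVec_sub] at h2
    refine ⟨-polar Q u (M *ᵥ y), polar Q x (M *ᵥ y) + Q x * polar Q u (M *ᵥ y), ?_⟩
    have h3 : M *ᵥ u = M *ᵥ y - (M *ᵥ y - M *ᵥ u) := by abel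
    rw [h3, h2]
    module
  obtain ⟨a, b, h1⟩ := key z w huz huw hzw.pair
  obtain ⟨a', b', h2⟩ := key w z huw huz (by
    have : polar (qf hQ) w z = 1 := hzw.pair'
    exact this)
  -- compare: `a z + b u = a' w + b' u`
  have ha : a = 0 := by
    have h3 : a • z + b • u = a' • w + b' • u := by rw [← h1, ← h2]
    have h4 := congrArg (fun t => polar (qf hQ) w t) h3
    simp only [polar_add_right, polar_smul_right, smul_eq_mul] at h4
    have e1 : polar (qf hQ) w z = 1 := hzw.pair'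
    have e2 : polar (qf hQ) w u = 0 := by rw [polar_comm]; exact huw
    have e3 : polar (qf hQ) w w = 0 := polar_self_of_sing hzw.right
    rw [e1, e2, e3] at h4
    simpa using h4
  rw [ha, zero_smul, zero_add] at h1
  refine ⟨b, ?_⟩
  -- the eigenspace
  let W : Submodule F (ι → F) := LinearMap.ker (Matrix.toLin' (M - b • (1 : Matrix ι ι F)))
  have hWmem : ∀ t, t ∈ W ↔ M *ᵥ t = b • t := by
    intro t
    rw [LinearMap.mem_ker, Matrix.toLin'_apply, Matrix.sub_mulVec, Matrix.smul_mulVec, Matrix.one_mulVec, sub_eq_zero]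
  have hW : W = ⊥ ∨ W = ⊤ := by
    apply omegaGL_irreducible hQ hn
    intro g hg t ht
    rw [hWmem] at ht ⊢
    rw [Matrix.mulVec_mulVec, hM g hg, ← Matrix.mulVec_mulVec, ht, Matrix.mulVec_smul]
  rcases hW with hW | hW
  · exfalso
    have : u ∈ W := (hWmem u).2 h1
    rw [hW, Submodule.mem_bot] at this
    exact huv.left_ne this
  · have : Matrix.toLin' (M - b • (1 : Matrix ι ι F)) = 0 := LinearMap.ker_eq_top.1 hW
    have h5 : M - b • (1 : Matrix ι ι F) = 0 := by
      apply Matrix.toLin'.injective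
      rw [this, map_zero]
    exact sub_eq_zero.1 h5

/-- class 3: `omegaGL` normalises no field subalgebra of degree at least two -/
theorem omegaGL_not_le_subalgebraNormalizer (hn : 5 ≤ Fintype.card ι) {r : ℕ} (hr : 2 ≤ r)
    {K : Subalgebra F (Matrix ι ι F)} (hK : Geo.IsFieldSubalgebra r K) :
    ¬ Geo.omegaGL Q ≤ Geo.subalgebraNormalizer K := by
  intro h
  have : Nonempty ι := Fintype.card_pos_iff.1 (by omega)
  let _ : CommRing K := { (inferInstance : Ring K) with mul_comm := fun x y => Subtype.ext (hK.comm x x.2 y y.2) }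
  have hdom : IsDomain K := by
    have : Nontrivial K := by
      refine ⟨⟨0, 1, fun h01 => ?_⟩⟩
      have e : (0 : Matrix ι ι F) = 1 := congrArg Subtype.val h01
      exact zero_ne_one e
    have : NoZeroDivisors K := ⟨fun {x y} hxy => by
      by_contra hne
      push Not at hne
      obtain ⟨hx, hy⟩ := hne
      obtain ⟨x', hx', hxx'⟩ := hK.inv x x.2 (fun h0 => hx (Subtype.ext h0))
      apply hy
      apply Subtype.ext
      have e : (x : Matrix ι ι F) * y = 0 := congrArg Subtype.val hxy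
      have e2 : x' * ((x : Matrix ι ι F) * y) = y := by
        rw [← mul_assoc, hK.comm x' hx' x x.2, hxx', one_mul]
      rw [← e2, e, mul_zero]
      rfl⟩
    exact NoZeroDivisors.to_isDomain K
  have hfin : Finite K := inferInstance
  obtain ⟨θ, hθ⟩ := IsCyclic.exists_monoid_generator (α := Kˣ)
  -- the generator as a matrix
  let θm : Matrix ι ι F := ((θ : K) : Matrix ι ι F)
  have hpow : ∀ k ∈ K, k ≠ 0 → ∃ m : ℕ, k = θm ^ m := by
    intro k hk hk0
    obtain ⟨k', hk', hkk'⟩ := hK.inv k hk hk0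
    let uk : Kˣ := ⟨⟨k, hk⟩, ⟨k', hk'⟩, Subtype.ext hkk', Subtype.ext (by
      show k' * k = 1
      rw [hK.comm k' hk' k hk, hkk'])⟩
    obtain ⟨m, hm⟩ := hθ uk
    refine ⟨m, ?_⟩
    have : (((θ ^ m : Kˣ) : K) : Matrix ι ι F) = k := by
      have e : θ ^ m = uk := hm
      rw [e]
    rw [← this]
    push_cast
    rfl
  have hθ0 : θm ≠ 0 := by
    intro h0
    exact θ.ne_zero (Subtype.ext h0)
  have hconj : ∀ g ∈ Geo.subalgebraNormalizer K, ∃ m : ℕ,
      (g : Matrix ι ι F) * θm * ((g⁻¹ : GL ι F) : Matrix ι ι F) = θm ^ m := by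
    intro g hg
    apply hpow
    · exact (hg θm).1 (θ : K).2
    · intro h0
      apply hθ0
      have e : θm = ((g⁻¹ : GL ι F) : Matrix ι ι F) * ((g : Matrix ι ι F) * θm * ((g⁻¹ : GL ι F) : Matrix ι ι F)) *
          (g : Matrix ι ι F) := by
        simp [mul_assoc]
      rw [e, h0]; simp
  have hconjpow : ∀ (g : GL ι F) (m : ℕ) (x : Matrix ι ι F),
      (g : Matrix ι ι F) * x ^ m * ((g⁻¹ : GL ι F) : Matrix ι ι F) =
        ((g : Matrix ι ι F) * x * ((g⁻¹ : GL ι F) : Matrix ι ι F)) ^ m := by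
    intro g m x
    exact (Units.conj_pow g x m).symm
  -- commutators centralise `θ`
  have hcomm : ∀ g ∈ Geo.omegaGL Q, θm * (g : Matrix ι ι F) = (g : Matrix ι ι F) * θm := by
    let C : Subgroup (GL ι F) :=
      { carrier := {g | θm * (g : Matrix ι ι F) = (g : Matrix ι ι F) * θm}
        mul_mem' := by
          intro a b ha hb
          show θm * ((a * b : GL ι F) : Matrix ι ι F) = ((a * b : GL ι F) : Matrix ι ι F) * θm
          have ha' : θm * (a : Matrix ι ι F) = (a : Matrix ι ι F) * θm := ha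
          have hb' : θm * (b : Matrix ι ι F) = (b : Matrix ι ι F) * θm := hb
          rw [Units.val_mul, ← mul_assoc, ha', mul_assoc, hb', mul_assoc]
        one_mem' := by simp
        inv_mem' := by
          intro a ha
          show θm * ((a⁻¹ : GL ι F) : Matrix ι ι F) = ((a⁻¹ : GL ι F) : Matrix ι ι F) * θm
          have ha' : θm * (a : Matrix ι ι F) = (a : Matrix ι ι F) * θm := ha
          calc θm * ((a⁻¹ : GL ι F) : Matrix ι ι F)
              = ((a⁻¹ : GL ι F) : Matrix ι ι F) * ((a : Matrix ι ι F) * θm) * ((a⁻¹ : GL ι F) : Matrix ι ι F) := by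
                rw [← mul_assoc, ← Units.val_mul, inv_mul_cancel, Units.val_one, one_mul]
            _ = ((a⁻¹ : GL ι F) : Matrix ι ι F) * θm := by
                rw [← ha', mul_assoc, mul_assoc, ← Units.val_mul, mul_inv_cancel, Units.val_one, mul_one] }
    have hle : Geo.omegaGL Q ≤ C := by
      rw [← omegaGL_perfect hQ hn, Subgroup.commutator_le]
      intro g hg k hk
      show θm * ((g * k * g⁻¹ * k⁻¹ : GL ι F) : Matrix ι ι F) = ((g * k * g⁻¹ * k⁻¹ : GL ι F) : Matrix ι ι F) * θm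
      obtain ⟨a, ha⟩ := hconj g⁻¹ (inv_mem (h hg))
      obtain ⟨b, hb⟩ := hconj k⁻¹ (inv_mem (h hk))
      have e1 : ((g⁻¹ * k⁻¹ : GL ι F) : Matrix ι ι F) * θm * (((g⁻¹ * k⁻¹)⁻¹ : GL ι F) : Matrix ι ι F) = θm ^ (a * b) := by
        rw [_root_.mul_inv_rev, Units.val_mul, Units.val_mul]
        calc ((g⁻¹ : GL ι F) : Matrix ι ι F) * ((k⁻¹ : GL ι F) : Matrix ι ι F) * θm *
              ((((k⁻¹)⁻¹ : GL ι F) : Matrix ι ι F) * (((g⁻¹)⁻¹ : GL ι F) : Matrix ι ι F))
            = ((g⁻¹ : GL ι F) : Matrix ι ι F) * (((k⁻¹ : GL ι F) : Matrix ι ι F) * θm *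
              (((k⁻¹)⁻¹ : GL ι F) : Matrix ι ι F)) * (((g⁻¹)⁻¹ : GL ι F) : Matrix ι ι F) := by
              simp only [mul_assoc]
          _ = θm ^ (a * b) := by rw [hb, hconjpow, ha, pow_mul]
      have e2 : ((k⁻¹ * g⁻¹ : GL ι F) : Matrix ι ι F) * θm * (((k⁻¹ * g⁻¹)⁻¹ : GL ι F) : Matrix ι ι F) = θm ^ (a * b) := by
        rw [_root_.mul_inv_rev, Units.val_mul, Units.val_mul]
        calc ((k⁻¹ : GL ι F) : Matrix ι ι F) * ((g⁻¹ : GL ι F) : Matrix ι ι F) * θm *
              ((((g⁻¹)⁻¹ : GL ι F) : Matrix ι ι F) * (((k⁻¹)⁻¹ : GL ι F) : Matrix ι ι F))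
            = ((k⁻¹ : GL ι F) : Matrix ι ι F) * (((g⁻¹ : GL ι F) : Matrix ι ι F) * θm *
              (((g⁻¹)⁻¹ : GL ι F) : Matrix ι ι F)) * (((k⁻¹)⁻¹ : GL ι F) : Matrix ι ι F) := by
              simp only [mul_assoc]
          _ = θm ^ (a * b) := by rw [ha, hconjpow, hb, mul_comm a b, pow_mul]
      -- `⁅g, k⁆ = g k g⁻¹ k⁻¹`
      have e3 : ((g⁻¹ * k⁻¹ : GL ι F) : Matrix ι ι F) * θm =
          θm ^ (a * b) * ((g⁻¹ * k⁻¹ : GL ι F) : Matrix ι ι F) := by
        rw [← e1, mul_assoc, ← Units.val_mul, inv_mul_cancel, Units.val_one, mul_one]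
      have e4 : ((k⁻¹ * g⁻¹ : GL ι F) : Matrix ι ι F) * θm =
          θm ^ (a * b) * ((k⁻¹ * g⁻¹ : GL ι F) : Matrix ι ι F) := by
        rw [← e2, mul_assoc, ← Units.val_mul, inv_mul_cancel, Units.val_one, mul_one]
      have e5 : (g * k * g⁻¹ * k⁻¹ : GL ι F) = (k⁻¹ * g⁻¹)⁻¹ * (g⁻¹ * k⁻¹) := by
        group
      have e6 : (((k⁻¹ * g⁻¹)⁻¹ : GL ι F) : Matrix ι ι F) * θm ^ (a * b) =
          θm * (((k⁻¹ * g⁻¹)⁻¹ : GL ι F) : Matrix ι ι F) := by
        have h7 : θm ^ (a * b) = ((k⁻¹ * g⁻¹ : GL ι F) : Matrix ι ι F) * θm *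
            (((k⁻¹ * g⁻¹)⁻¹ : GL ι F) : Matrix ι ι F) := e2.symm
        rw [h7, mul_assoc ((k⁻¹ * g⁻¹ : GL ι F) : Matrix ι ι F), ← mul_assoc, ← Units.val_mul, inv_mul_cancel,
          Units.val_one, one_mul]
      rw [e5, Units.val_mul, mul_assoc, e3, ← mul_assoc, ← mul_assoc, e6]
    exact fun g hg => hle hg
  obtain ⟨c, hc⟩ := eq_smul_of_commute_omegaGL hQ hn hcomm
  -- so every element of `K` is a scalar
  have hbot : K = ⊥ := by
    rw [eq_bot_iff]
    intro k hk
    by_cases hk0 : k = 0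
    · rw [hk0]; exact Subalgebra.zero_mem _
    obtain ⟨m, hm⟩ := hpow k hk hk0
    rw [hm, hc]
    exact Subalgebra.pow_mem _ (Subalgebra.smul_mem _ (Subalgebra.one_mem _) c) m
  have hfr := hK.finrank_eq
  rw [hbot] at hfr
  have : Module.finrank F (⊥ : Subalgebra F (Matrix ι ι F)) = 1 := Subalgebra.finrank_bot
  omega

omit [Finite F] hQ in
theorem mem_subfieldSubgroup_iff {F₀ : Subfield F} {P g : GL ι F} :
    g ∈ Geo.subfieldSubgroup F₀ P ↔ ∃ (g₀ : GL ι F₀) (c : Fˣ), ∀ i j,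
      (((P⁻¹ * g * P : GL ι F) : Matrix ι ι F)) i j = (c : F) * ((g₀ : Matrix ι ι F₀) i j : F) := by
  constructor
  · rintro ⟨x, hx, rfl⟩
    rw [Subgroup.mul_normal] at hx
    obtain ⟨a, ha, b, hb, rfl⟩ := Set.mem_mul.1 hx
    obtain ⟨g₀, rfl⟩ := ha
    obtain ⟨c, hc⟩ := (Geo.mem_scalars_iff b).1 hb
    refine ⟨g₀, c, fun i j => ?_⟩
    have e : P⁻¹ * ((MulAut.conj P).toMonoidHom ((Matrix.GeneralLinearGroup.map (F₀.subtype : F₀ →+* F)) g₀ * b)) * P =
        (Matrix.GeneralLinearGroup.map (F₀.subtype : F₀ →+* F)) g₀ * b := by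
      show P⁻¹ * (P * _ * P⁻¹) * P = _
      group
    rw [e, Units.val_mul, hc, Matrix.mul_smul, Matrix.mul_one, Matrix.smul_apply, smul_eq_mul]
    rfl
  · rintro ⟨g₀, c, h⟩
    refine ⟨P⁻¹ * g * P, ?_, ?_⟩
    · let b : GL ι F := (Units.map (Matrix.scalar ι : F →+* Matrix ι ι F).toMonoidHom) c
      have hb : (b : Matrix ι ι F) = (c : F) • (1 : Matrix ι ι F) := by
        simp [b, Matrix.smul_one_eq_diagonal]
      have e : P⁻¹ * g * P = (Matrix.GeneralLinearGroup.map (F₀.subtype : F₀ →+* F)) g₀ * b := by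
        apply Units.ext
        ext i j
        rw [h i j, Units.val_mul, hb, Matrix.mul_smul, Matrix.mul_one, Matrix.smul_apply, smul_eq_mul]
        rfl
      rw [e]
      exact Subgroup.mul_mem_sup ⟨g₀, rfl⟩ ⟨c, rfl⟩
    · show P * (P⁻¹ * g * P) * P⁻¹ = g
      group

/-- class 5: `omegaGL` is in no subfield subgroup -/
theorem omegaGL_not_le_subfieldSubgroup (hn : 5 ≤ Fintype.card ι) {F₀ : Subfield F} (hF₀ : F₀ ≠ ⊤) (P : GL ι F) :
    ¬ Geo.omegaGL Q ≤ Geo.subfieldSubgroup F₀ P := by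
  intro h
  have hG := good_qf hQ hn
  obtain ⟨u, v, huv⟩ := hG.exists_hyp
  obtain ⟨z, w, hzw, huz, huw, hvz, hvw⟩ := hG.exists_hyp2 huv
  obtain ⟨p, hp⟩ := CharP.exists F
  have hpp : p.Prime := (CharP.char_is_prime_or_zero F p).resolve_right (CharP.char_ne_zero_of_finite F p)
  have : Fact p.Prime := ⟨hpp⟩
  -- the nilpotent matrix
  obtain ⟨g₁, hg₁, hg₁v⟩ := exists_siegel hQ hn (u := u) (w := z) huv.left huz
  set N : Matrix ι ι F := (g₁ : Matrix ι ι F) - 1 with hN
  have hNv : ∀ x, N *ᵥ x = polar Q u x • z - polar Q z x • u := by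
    intro x
    rw [hN, Matrix.sub_mulVec, Matrix.one_mulVec, hg₁v]
    have : Q z = 0 := hzw.left
    rw [this]; module
  have hN0 : N ≠ 0 := by
    intro h0
    have h1 := hNv v
    rw [h0, Matrix.zero_mulVec] at h1
    have h2 : polar Q u v = 1 := huv.pair
    have h3 : polar Q z v = 0 := by
      have : polar (qf hQ) z v = 0 := by rw [polar_comm]; exact hvz
      exact this
    rw [h2, h3, zero_smul, sub_zero, one_smul] at h1
    exact hzw.left_ne h1.symm
  have hNN : N * N = 0 := by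
    apply Matrix.toLin'.injective
    rw [map_zero]
    apply LinearMap.ext
    intro x
    rw [Matrix.toLin'_apply, ← Matrix.mulVec_mulVec, hNv, hNv x, LinearMap.zero_apply]
    have e1 : polar (qf hQ) u (polar Q u x • z - polar Q z x • u) = 0 := by
      rw [polar_sub_right, polar_smul_right, polar_smul_right, huz, polar_self_of_sing huv.left]; simp
    have e2 : polar (qf hQ) z (polar Q u x • z - polar Q z x • u) = 0 := by
      have : polar (qf hQ) z u = 0 := by rw [polar_comm]; exact huz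
      rw [polar_sub_right, polar_smul_right, polar_smul_right, this, polar_self_of_sing hzw.left]; simp
    have e1' : polar Q u (polar Q u x • z - polar Q z x • u) = 0 := e1
    have e2' : polar Q z (polar Q u x • z - polar Q z x • u) = 0 := e2
    rw [e1', e2']; simp
  -- the Siegel element attached to `c`
  have hsieg : ∀ c : F, ∃ g ∈ Geo.omegaGL Q, (g : Matrix ι ι F) = 1 + c • N := by
    intro c
    obtain ⟨g, hg, hgv⟩ := exists_siegel hQ hn (u := u) (w := c • z) huv.left (by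
      have : polar (qf hQ) u (c • z) = 0 := by rw [polar_smul_right, huz, smul_zero]
      exact this)
    refine ⟨g, hg, ?_⟩
    apply Matrix.toLin'.injective
    apply LinearMap.ext
    intro x
    rw [Matrix.toLin'_apply, Matrix.toLin'_apply, hgv, Matrix.add_mulVec, Matrix.one_mulVec, Matrix.smul_mulVec, hNv]
    have e1 : polar Q (c • z) x = c * polar Q z x := by
      have : polar (qf hQ) (c • z) x = c * polar (qf hQ) z x := by rw [polar_smul_left, smul_eq_mul]
      exact this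
    have e2 : Q (c • z) = 0 := by
      have h1 : Q z = 0 := hzw.left
      rw [hQ.smul, h1, mul_zero]
    rw [e1, e2]; module
  -- all entries of `P⁻¹ (1 + c N) P` are in `F₀`
  have hpowN : ∀ (c : F) (k : ℕ), (1 + c • N) ^ k = 1 + (k : F) • (c • N) := by
    intro c k
    induction k with
    | zero => simp
    | succ k ih =>
      rw [pow_succ, ih, mul_add, mul_one, add_mul, one_mul, smul_mul_assoc, smul_mul_assoc, mul_smul_comm, hNN,
        smul_zero, smul_zero, smul_zero, add_zero]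
      push_cast
      module
  have hentry : ∀ c : F, ∀ i j, (((P⁻¹ : GL ι F) : Matrix ι ι F) * (1 + c • N) * (P : Matrix ι ι F)) i j ∈ F₀ := by
    intro c i j
    obtain ⟨g, hg, hgc⟩ := hsieg c
    obtain ⟨g₀, l, hl⟩ := mem_subfieldSubgroup_iff.1 (h hg)
    have hl' : ((P⁻¹ * g * P : GL ι F) : Matrix ι ι F) =
        (l : F) • ((g₀ : Matrix ι ι F₀).map (F₀.subtype : F₀ →+* F)) := by
      ext i j
      rw [hl i j]
      rfl
    -- the `p`-th power is one
    have hgp : (g : Matrix ι ι F) ^ p = 1 := by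
      rw [hgc, hpowN, CharP.cast_eq_zero, zero_smul, add_zero]
    have h1 : ((P⁻¹ * g * P : GL ι F) : Matrix ι ι F) ^ p = 1 := by
      have e : (P⁻¹ * g * P) ^ p = P⁻¹ * g ^ p * P := by
        have := conj_pow (a := P⁻¹) (b := g) (i := p)
        rwa [inv_inv] at this
      rw [← Units.val_pow_eq_pow_val, e, Units.val_mul, Units.val_mul, Units.val_pow_eq_pow_val, hgp, mul_one,
        ← Units.val_mul, inv_mul_cancel, Units.val_one]
    rw [hl', smul_pow, ← Matrix.map_pow] at h1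
    -- so `l ^ p ∈ F₀`
    have hne : Nonempty ι := Fintype.card_pos_iff.1 (by omega)
    obtain ⟨i₀⟩ := hne
    have h2 := congrFun (congrFun h1 i₀) i₀
    rw [Matrix.smul_apply, Matrix.map_apply, Matrix.one_apply_eq, smul_eq_mul] at h2
    have hlp : (l : F) ^ p ∈ F₀ := by
      have h3 : ((l : F) ^ p) = (((((g₀ : Matrix ι ι F₀) ^ p) i₀ i₀ : F₀) : F))⁻¹ := by
        apply eq_inv_of_mul_eq_one_left
        exact h2
      rw [h3]
      exact F₀.inv_mem (SetLike.coe_mem _)
    have hl0 : (l : F) ∈ F₀ := by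
      have : CharP F₀ p := inferInstance
      obtain ⟨m, hm⟩ := (bijective_frobenius F₀ p).2 ⟨_, hlp⟩
      have h4 : (m : F) ^ p = (l : F) ^ p := by
        have := congrArg Subtype.val hm
        rw [frobenius_def] at this
        exact this
      have h5 : (m : F) = l := frobenius_inj F p h4
      rw [← h5]
      exact m.2
    have h6 : (((P⁻¹ : GL ι F) : Matrix ι ι F) * (1 + c • N) * (P : Matrix ι ι F)) i j =
        (l : F) * ((g₀ : Matrix ι ι F₀) i j : F) := by
      rw [← hl i j, Units.val_mul, Units.val_mul, hgc]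
    rw [h6]
    exact F₀.mul_mem hl0 (SetLike.coe_mem _)
  have hentry' : ∀ c : F, ∀ i j, c * (((P⁻¹ : GL ι F) : Matrix ι ι F) * N * (P : Matrix ι ι F)) i j ∈ F₀ := by
    intro c i j
    have h1 := F₀.sub_mem (hentry c i j) (hentry 0 i j)
    have e : (((P⁻¹ : GL ι F) : Matrix ι ι F) * (1 + c • N) * (P : Matrix ι ι F)) i j -
        (((P⁻¹ : GL ι F) : Matrix ι ι F) * (1 + (0 : F) • N) * (P : Matrix ι ι F)) i j =
        c * (((P⁻¹ : GL ι F) : Matrix ι ι F) * N * (P : Matrix ι ι F)) i j := by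
      rw [← Matrix.sub_apply, ← sub_mul, ← mul_sub, zero_smul, add_zero, add_sub_cancel_left, mul_smul_comm,
        smul_mul_assoc, Matrix.smul_apply, smul_eq_mul]
    rwa [e] at h1
  have hne : ((P⁻¹ : GL ι F) : Matrix ι ι F) * N * (P : Matrix ι ι F) ≠ 0 := by
    intro h0
    apply hN0
    have e : N = (P : Matrix ι ι F) * (((P⁻¹ : GL ι F) : Matrix ι ι F) * N * (P : Matrix ι ι F)) *
        ((P⁻¹ : GL ι F) : Matrix ι ι F) := by
      simp [mul_assoc]
    rw [e, h0]; simp
  obtain ⟨i, j, hij⟩ : ∃ i j, (((P⁻¹ : GL ι F) : Matrix ι ι F) * N * (P : Matrix ι ι F)) i j ≠ 0 := by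
    by_contra hcon
    push Not at hcon
    apply hne
    ext i j
    exact hcon i j
  apply hF₀
  rw [eq_top_iff]
  intro c _
  have h1 := hentry' (c * ((((P⁻¹ : GL ι F) : Matrix ι ι F) * N * (P : Matrix ι ι F)) i j)⁻¹) i j
  rwa [mul_assoc, inv_mul_cancel₀ hij, mul_one] at h1

end Finite

end Cfsg.Agent.H925
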