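import Cfsg.Agent.H925.OrthRed
import Cfsg.Agent.S0760
import Cfsg.Agent.H912.Core4

/-!
# Witt type of quadratic forms given as functions: totally singular subspaces invariant under fields of similarities
-/

set_option autoImplicit false
set_option linter.unusedSectionVars false

namespace Cfsg.Agent.H925

open QuadraticMap Matrix
open Cfsg.Agent.LieClassical.OrthCore Cfsg.Agent.LieClassical.OrthTrans Cfsg.Agent.LieClassical.OrthFinite

variable {ι : Type} [Fintype ι] [DecidableEq ι] {F : Type*} [Field F]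

/-- In plus type every totally singular subspace that contains all singular vectors orthogonal to it has half
dimension. -/
theorem finrank_of_maximal_ts {Q : (ι → F) → F} (hQ : Geo.IsNondegenerateQuadraticForm Q)
    (hplus : Geo.IsPlusTypeOn Q ⊤) {W : Submodule F (ι → F)} (hW : Geo.IsTotallySingularQuad Q W)
    (hmax : ∀ v, Q v = 0 → (∀ w ∈ W, polar Q w v = 0) → v ∈ W) : 2 * Module.finrank F W = Fintype.card ι := by
  obtain ⟨U, hU, hUd⟩ := exists_half hplus
  have h1 := Cfsg.Agent.S0760.finrank_le_of_maximal (qf hQ) (Cfsg.Agent.H884.SingMax.nondegenerate_of_nondeg (nondeg_qf hQ)) W U hW hU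
    (fun W' hWW' hW' => le_antisymm (fun v hv => hmax v (hW' v hv) (fun w hw =>
      Cfsg.Agent.S0760.polar_eq_zero (qf hQ) W' hW' (hWW' hw) hv)) hWW')
  have h2 := two_mul_finrank_le hQ hW
  omega

/-- a subspace invariant under a field subalgebra of degree `r` has dimension divisible by `r` -/
theorem finrank_dvd_of_invariant [Nonempty ι] {r : ℕ} {K : Subalgebra F (Matrix ι ι F)}
    (hK : Geo.IsFieldSubalgebra r K) {W : Submodule F (ι → F)} (hW : ∀ k ∈ K, ∀ w ∈ W, k *ᵥ w ∈ W) :
    r ∣ Module.finrank F W := by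
  let _ : Field K := (Cfsg.Agent.H912.isField_of_fieldSub hK).toField
  let WK : Submodule K (ι → F) :=
    { carrier := W
      add_mem' := fun ha hb => W.add_mem ha hb
      zero_mem' := W.zero_mem
      smul_mem' := fun k w hw => hW k k.2 w hw }
  have h1 := Module.finrank_mul_finrank F K WK
  rw [hK.finrank_eq] at h1
  have h2 : Module.finrank F WK = Module.finrank F W := rfl
  rw [← h2, ← h1]
  exact dvd_mul_right _ _

/-- If the elements of a field subalgebra `K` of even degree are similarities of the nondegenerate quadratic form `Q`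
and half of the dimension is odd, then `Q` is not of plus type. -/
theorem not_plus_of_sim {Q : (ι → F) → F} (hQ : Geo.IsNondegenerateQuadraticForm Q)
    {K : Subalgebra F (Matrix ι ι F)} {r : ℕ} (hr : Even r) (hK : Geo.IsFieldSubalgebra r K)
    (hsim : ∀ k ∈ K, ∃ c : F, ∀ v, Q (k *ᵥ v) = c * Q v) {m : ℕ} (hm : Odd m) (hn : Fintype.card ι = 2 * m) :
    ¬ Geo.IsPlusTypeOn Q ⊤ := by
  intro hplus
  have : Nonempty ι := by
    apply Fintype.card_pos_iff.1
    rcases hm with ⟨k, rfl⟩
    omega
  -- invariant totally singular subspaces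
  let S : Set (Submodule F (ι → F)) := {W | Geo.IsTotallySingularQuad Q W ∧ ∀ k ∈ K, ∀ w ∈ W, k *ᵥ w ∈ W}
  have hS : S.Nonempty := ⟨⊥, fun w hw => by rw [(Submodule.mem_bot F).1 hw]; exact Q_zero hQ,
    fun k _ w hw => by rw [(Submodule.mem_bot F).1 hw, Matrix.mulVec_zero]; exact Submodule.zero_mem _⟩
  obtain ⟨W, ⟨hW, hWK⟩, hWmax⟩ := WellFounded.has_min (wellFounded_gt (α := Submodule F (ι → F))) S hS
  have hpol : ∀ k ∈ K, ∃ c : F, ∀ u v, polar Q (k *ᵥ u) (k *ᵥ v) = c * polar Q u v := by
    intro k hk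
    obtain ⟨c, hc⟩ := hsim k hk
    refine ⟨c, fun u v => ?_⟩
    rw [polar, ← Matrix.mulVec_add, hc, hc, hc, polar]; ring
  have hmax : ∀ v, Q v = 0 → (∀ w ∈ W, polar Q w v = 0) → v ∈ W := by
    intro v hv hvW
    by_contra hvn
    let Kv : Submodule F (ι → F) := (Subalgebra.toSubmodule K).map
      ({ toFun := fun M => M *ᵥ v
         map_add' := fun a b => Matrix.add_mulVec a b v
         map_smul' := fun c a => Matrix.smul_mulVec c a v } : Matrix ι ι F →ₗ[F] (ι → F))
    have hKv : ∀ u, u ∈ Kv ↔ ∃ k ∈ K, k *ᵥ v = u := by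
      intro u
      rw [Submodule.mem_map]
      rfl
    have hmem : W ⊔ Kv ∈ S := by
      constructor
      · intro u hu
        obtain ⟨w, hw, x, hx, rfl⟩ := Submodule.mem_sup.1 hu
        obtain ⟨k, hk, rfl⟩ := (hKv x).1 hx
        obtain ⟨c, hc⟩ := hsim k hk
        rw [Q_add' hQ, hW w hw, hc, hv, mul_zero, add_zero, zero_add]
        by_cases hk0 : k = 0
        · rw [hk0, Matrix.zero_mulVec]
          exact polar_zero_right (qf hQ) w
        · obtain ⟨y, hy, hky⟩ := hK.inv k hk hk0
          have e : k *ᵥ (y *ᵥ w) = w := by rw [Matrix.mulVec_mulVec, hky, Matrix.one_mulVec]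
          obtain ⟨c', hc'⟩ := hpol k hk
          rw [← e, hc', hvW _ (hWK y hy w hw), mul_zero]
      · intro k hk u hu
        obtain ⟨w, hw, x, hx, rfl⟩ := Submodule.mem_sup.1 hu
        obtain ⟨k', hk', rfl⟩ := (hKv x).1 hx
        rw [Matrix.mulVec_add]
        apply Submodule.add_mem_sup (hWK k hk w hw)
        rw [hKv]
        exact ⟨k * k', K.mul_mem hk hk', by rw [Matrix.mulVec_mulVec]⟩
    apply hWmax _ hmem
    refine lt_of_le_of_ne le_sup_left (fun he => hvn ?_)
    rw [he]
    apply Submodule.mem_sup_right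
    rw [hKv]
    exact ⟨1, K.one_mem, Matrix.one_mulVec v⟩
  have h1 := finrank_of_maximal_ts hQ hplus hW hmax
  have h2 : 2 ∣ Module.finrank F W := (even_iff_two_dvd.1 hr).trans (finrank_dvd_of_invariant hK hWK)
  obtain ⟨a, ha⟩ := h2
  obtain ⟨b, hb⟩ := hm
  omega

end Cfsg.Agent.H925
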