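import Cfsg.Agent.H925.OrthRed
import Cfsg.Agent.H924.FormFine
import Cfsg.Agent.H922.OddDecomp

/-!
# Irreducible groups of isometries of a quadratic form: the orthogonal form of `irreducible_fine`
(every nondegenerate `Q`, every characteristic, every dimension at least three)
-/

set_option autoImplicit false
set_option linter.unusedSectionVars false

namespace Cfsg.Agent.H925

open QuadraticMap Matrix
open Cfsg.Agent.LieClassical.OrthCore
open Cfsg.Agent.H919 (HermForm WreathData)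

variable {ι : Type} [Fintype ι] [DecidableEq ι] {F : Type*} [Field F]

/-- a complementary pair of totally isotropic subspaces permuted by an irreducible group of isometries is totally
singular -/
theorem quad_pair {Q : (ι → F) → F} (hQ : Geo.IsNondegenerateQuadraticForm Q) [Finite F]
    {H : Subgroup (GL ι F)} (hH : H ≤ Cfsg.isometryGroup F Q) (hirr : Geo.ActsIrreducibly (Geo.matrixSet H))
    (hcard : 3 ≤ Fintype.card ι) {m : ℕ} {D : Fin 2 → Submodule F (ι → F)} (hD : Geo.IsMDecomposition m D)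
    (hs : ∀ i, Geo.IsTotallySingularFor (polar Q) (D i)) (hHD : H ≤ Geo.decompositionStabilizer D) :
    ∀ i, Geo.IsTotallySingularQuad Q (D i) := by
  have hm : 2 * m = Fintype.card ι := Cfsg.Agent.H922.mul_eq_card hD
  -- the singular part of `D i`
  let E : Fin 2 → Submodule F (ι → F) := fun i =>
    { carrier := {w | w ∈ D i ∧ Q w = 0}
      add_mem' := by
        rintro a b ⟨ha, ha'⟩ ⟨hb, hb'⟩
        refine ⟨(D i).add_mem ha hb, ?_⟩
        rw [Q_add' hQ, ha', hb', hs i a ha b hb]; ring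
      zero_mem' := ⟨(D i).zero_mem, Q_zero hQ⟩
      smul_mem' := by
        rintro c a ⟨ha, ha'⟩
        refine ⟨(D i).smul_mem c ha, ?_⟩
        rw [hQ.smul, ha', mul_zero] }
  have hE : ∀ i w, w ∈ E i ↔ w ∈ D i ∧ Q w = 0 := fun i w => Iff.rfl
  have hED : ∀ i, E i ≤ D i := fun i w hw => hw.1
  -- codimension at most one
  have hcodim : ∀ i, m ≤ Module.finrank F (E i) + 1 := by
    intro i
    by_cases h2 : (2 : F) = 0
    · by_cases hall : ∀ w ∈ D i, Q w = 0
      · have : E i = D i := le_antisymm (hED i) (fun w hw => ⟨hw, hall w hw⟩)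
        rw [this, hD.finrank_eq]; omega
      · push Not at hall
        obtain ⟨v, hv, hvQ⟩ := hall
        have hchar : CharP F 2 := CharTwo.of_one_ne_zero_of_two_eq_zero one_ne_zero h2
        have hle : D i ≤ E i ⊔ Submodule.span F {v} := by
          intro w hw
          obtain ⟨c, hc⟩ : ∃ c : F, c ^ 2 = Q w / Q v := by
            obtain ⟨c, hc⟩ := (bijective_frobenius F 2).2 (Q w / Q v)
            exact ⟨c, by rw [← hc, frobenius_def]⟩
          have h1 : c • v + w ∈ E i := by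
            refine ⟨(D i).add_mem ((D i).smul_mem c hv) hw, ?_⟩
            rw [Q_add' hQ, hQ.smul, hs i _ ((D i).smul_mem c hv) w hw, hc, div_mul_cancel₀ _ hvQ]
            linear_combination Q w * h2
          rw [Submodule.mem_sup]
          refine ⟨c • v + w, h1, (-c) • v, Submodule.smul_mem _ _ (Submodule.mem_span_singleton_self v), ?_⟩
          rw [neg_smul]; abel
        have h3 := Submodule.finrank_mono hle
        have h4 := Submodule.finrank_add_le_finrank_add_finrank (E i) (Submodule.span F {v})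
        have h5 : Module.finrank F (Submodule.span F {v}) ≤ 1 := by
          have := finrank_span_le_card (R := F) ({v} : Set (ι → F))
          simpa using this
        rw [hD.finrank_eq] at h3
        omega
    · have : E i = D i := by
        refine le_antisymm (hED i) (fun w hw => ⟨hw, ?_⟩)
        have h1 := hs i w hw w hw
        rw [polar_self hQ] at h1
        exact (mul_eq_zero.1 h1).resolve_left h2
      rw [this, hD.finrank_eq]; omega
  -- `E 0 ⊔ E 1` is invariant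
  have hinv : ∀ s ∈ Geo.matrixSet H, (E 0 ⊔ E 1).map (Matrix.toLin' s) ≤ E 0 ⊔ E 1 := by
    rintro _ ⟨g, hg, rfl⟩
    obtain ⟨σ, hσ⟩ := hHD hg
    have hmap : ∀ i, (E i).map (Matrix.toLin' (g : Matrix ι ι F)) ≤ E (σ i) := by
      rintro i _ ⟨w, hw, rfl⟩
      refine ⟨?_, ?_⟩
      · rw [← hσ i]
        exact ⟨w, hw.1, rfl⟩
      · rw [Matrix.toLin'_apply, mem_iso_iff.1 (hH hg)]
        exact hw.2
    have hle : ∀ i, E i ≤ E 0 ⊔ E 1 := by
      intro i
      fin_cases i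
      · exact le_sup_left
      · exact le_sup_right
    rw [Submodule.map_sup]
    exact sup_le ((hmap 0).trans (hle _)) ((hmap 1).trans (hle _))
  have hdisj : E 0 ⊓ E 1 = ⊥ := by
    have h1 := disjoint_iff.1 (hD.indep.pairwiseDisjoint (show (0 : Fin 2) ≠ 1 by decide))
    rw [eq_bot_iff]
    have h2 : D 0 ⊓ D 1 = ⊥ := h1
    rw [← h2]
    exact inf_le_inf (hED 0) (hED 1)
  have hfin := Submodule.finrank_sup_add_finrank_inf_eq (E 0) (E 1)
  rw [hdisj, finrank_bot, add_zero] at hfin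
  have h0 := hcodim 0
  have h1 := hcodim 1
  have hEle : ∀ i, Module.finrank F (E i) ≤ m := fun i => by
    rw [← hD.finrank_eq i]
    exact Submodule.finrank_mono (hED i)
  rcases hirr (E 0 ⊔ E 1) hinv with h | h
  · exfalso
    rw [h, finrank_bot] at hfin
    omega
  · rw [h, finrank_top, Module.finrank_fintype_fun_eq_card] at hfin
    have h00 := hEle 0
    have h11 := hEle 1
    intro i w hw
    have heq : E i = D i := by
      apply Submodule.eq_of_le_of_finrank_eq (hED i)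
      rw [hD.finrank_eq]
      fin_cases i
      · show Module.finrank F (E 0) = m
        omega
      · show Module.finrank F (E 1) = m
        omega
    rw [← heq] at hw
    exact hw.2

/-- **Irreducible groups of isometries of a quadratic form.** -/
theorem orth_irreducible_fine [Finite F] (hcard : 3 ≤ Fintype.card ι) {Q : (ι → F) → F}
    (hQ : Geo.IsNondegenerateQuadraticForm Q) {H : Subgroup (GL ι F)}
    (hH : H ≤ Cfsg.isometryGroup F Q) (hirr : Geo.ActsIrreducibly (Geo.matrixSet H)) :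
    -- (C2a)
    (∃ (t m : ℕ) (D : Fin t → Submodule F (ι → F)), t * m = Fintype.card ι ∧
      Geo.IsOrthogonalMDecomposition Q m D ∧ H ≤ Geo.decompositionStabilizer D ∧
      (∀ i j, ∃ h ∈ H, (D i).map (Matrix.toLin' (h : Matrix ι ι F)) = D j)) ∨
    -- (C2b)
    (∃ (m : ℕ) (D : Fin 2 → Submodule F (ι → F)), 2 * m = Fintype.card ι ∧ Geo.IsMDecomposition m D ∧
      (∀ i, Geo.IsTotallySingularQuad Q (D i)) ∧ H ≤ Geo.decompositionStabilizer D) ∨
    -- (C3)
    (∃ (r : ℕ) (K : Subalgebra F (Matrix ι ι F)), r.Prime ∧ r ∣ Fintype.card ι ∧ Geo.IsFieldSubalgebra r K ∧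
      Geo.IsAdjointClosedFor (polar Q) K ∧ H ≤ Geo.subalgebraNormalizer K) ∨
    -- (C4)
    (∃ (n₁ n₂ : ℕ) (e : ι ≃ Fin n₁ × Fin n₂) (P : GL ι F) (ε : F) (f₁ : (Fin n₁ → F) → (Fin n₁ → F) → F)
      (f₂ : (Fin n₂ → F) → (Fin n₂ → F) → F), 2 ≤ n₁ ∧ 2 ≤ n₂ ∧ n₁ * n₂ = Fintype.card ι ∧ (ε = 1 ∨ ε = -1) ∧
      HermForm (RingEquiv.refl F) ε f₁ ∧ HermForm (RingEquiv.refl F) ε f₂ ∧
      Geo.IsTensorFormStructure id (polar Q) f₁ f₂ e P ∧
      H ≤ Geo.tensorProductSubgroup n₁ n₂ e P) ∨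
    -- (C5)
    (∃ (F₁ : Subfield F) (r : ℕ) (B : GL ι F) (ζ : F), F₁ ≠ ⊤ ∧ r.Prime ∧ Nat.card F = Nat.card F₁ ^ r ∧
      ζ ≠ 0 ∧ Geo.IsFormRationalStructure (polar Q) F₁ ζ B ∧ H ≤ Geo.subfieldSubgroup F₁ B) ∨
    -- (C6)
    (∃ (r m : ℕ) (R : Subgroup (GL ι F)), R ≤ H ∧ (∀ h ∈ H, ∀ x ∈ R, h * x * h⁻¹ ∈ R) ∧
      H ≤ Geo.subgroupNormalizer R ∧ Geo.ActsAbsolutelyIrreducibly (Geo.matrixSet R) ∧
      Geo.IsSymplecticTypeGroup r R ∧
      ringChar F ≠ r ∧ 1 ≤ m ∧ Fintype.card ι = r ^ m ∧ Subgroup.center R = (Geo.scalars ι F).subgroupOf R ∧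
      ((Odd r ∧ Nat.card (Subgroup.center R) = r ∧ Nat.card R = r ^ (1 + 2 * m)) ∨
       (r = 2 ∧ Nat.card (Subgroup.center R) = 4 ∧ Nat.card R = 2 ^ (2 + 2 * m)) ∨
       (r = 2 ∧ Nat.card (Subgroup.center R) = 2 ∧ Nat.card R = 2 ^ (1 + 2 * m))) ∧
      (∀ F₀ : Subfield F, F₀ ≠ ⊤ → ¬ Geo.RealisableOver F₀ (Geo.matrixSet R))) ∨
    -- (C7)
    (∃ (m t : ℕ) (e : ι ≃ (Fin t → Fin m)) (P : GL ι F) (E : Fin t → Subgroup (GL ι F)),
      m ^ t = Fintype.card ι ∧ WreathData H m t e P E) ∨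
    -- (S)
    Geo.InOrthogonalResidualClass H := by
  have hf := hermForm_polar hQ
  have : Nonempty ι := Fintype.card_pos_iff.1 (by omega)
  rcases Cfsg.Agent.H924.irreducible_fine (by omega) hf hirr (fun g hg => polar_iso (hH hg)) with
    ⟨t, m, D, hD, hHD, htr⟩ | ⟨m, D, hD, hs, hHD⟩ | ⟨r, K, hr, hK, hadj, hHK⟩ |
    ⟨n₁, n₂, e, P, ε₁, ε₂, f₁, f₂, h1, h2, h12, hf1, hf2, hε, hT, hHT⟩ | h | h | ⟨m, t, e, P, E, hw⟩ | ⟨P, hP⟩
  · exact Or.inl ⟨t, m, D, Cfsg.Agent.H922.mul_eq_card hD.decomp,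
      Cfsg.Agent.H922.isOrthogonalMDecomposition_of_irreducible hirr hH hD hHD, hHD, htr⟩
  · exact Or.inr (Or.inl ⟨m, D, Cfsg.Agent.H922.mul_eq_card hD, hD, quad_pair hQ hH hirr hcard hD hs hHD, hHD⟩)
  · exact Or.inr (Or.inr (Or.inl ⟨r, K, hr, Cfsg.Agent.H912.finrank_dvd_of_fieldSub hK, hK, hadj, hHK⟩))
  · refine Or.inr (Or.inr (Or.inr (Or.inl ?_)))
    have hε1 : ε₁ * ε₁ = 1 := hf1.eps
    have hε2 : ε₂ = ε₁ := by
      have : ε₁ * ε₂ = ε₁ * ε₁ := by rw [hε, hε1]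
      exact mul_left_cancel₀ hf1.eps_ne_zero this
    subst hε2
    exact ⟨n₁, n₂, e, P, ε₂, f₁, f₂, h1, h2, h12, mul_self_eq_one_iff.1 hε1, hf1, hf2, hT, hHT⟩
  · exact Or.inr (Or.inr (Or.inr (Or.inr (Or.inl h))))
  · exact Or.inr (Or.inr (Or.inr (Or.inr (Or.inr (Or.inl h)))))
  · refine Or.inr (Or.inr (Or.inr (Or.inr (Or.inr (Or.inr (Or.inl ⟨m, t, e, P, E, ?_, hw⟩))))))
    rw [Fintype.card_congr e, Fintype.card_fun, Fintype.card_fin, Fintype.card_fin]
  · refine Or.inr (Or.inr (Or.inr (Or.inr (Or.inr (Or.inr (Or.inr ⟨P, hP, ?_⟩))))))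
    apply Cfsg.Agent.H914.not_fixes_unitary_of_bilinear hP.absIrred hP.no_subfield
      (Cfsg.Agent.H914.IsSesq.of_herm hf) hQ.nondegenerate
    rintro _ ⟨g, hg, rfl⟩
    exact polar_iso (hH (hP.le hg))

end Cfsg.Agent.H925
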