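import Cfsg.Agent.H925.OrthType
import Cfsg.Agent.H922.OddThree
import Cfsg.Agent.ClassicalGeometry.Discriminant

/-!
# Discriminants of orthogonal decompositions (odd characteristic)
-/

set_option autoImplicit false
set_option linter.unusedSectionVars false

namespace Cfsg.Agent.H925

open QuadraticMap Matrix
open Cfsg.Agent.H922 (resBilin resBilin_apply resBilin_nondegenerate resBilin_isSymm polar_of_isometry toBilin_isSymm)

variable {ι : Type} [Fintype ι] [DecidableEq ι] {F : Type*} [Field F]

/-- the Gram determinant of an orthogonal decomposition is the product of the Gram determinants -/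
theorem det_decomp {Q : (ι → F) → F} (hQ : Geo.IsNondegenerateQuadraticForm Q) {t m : ℕ}
    {D : Fin t → Submodule F (ι → F)} (hD : Geo.IsNondegenerateMDecomposition (polar Q) m D)
    (b : ∀ i, Module.Basis (Fin m) F (D i)) :
    ∃ B : Module.Basis (Fin m × Fin t) F (ι → F), (LinearMap.BilinForm.toMatrix B (Cfsg.Agent.H922.toBilin hQ.polar_bilinear)).det =
      ∏ i, (LinearMap.BilinForm.toMatrix (b i) (resBilin hQ.polar_bilinear (D i))).det := by
  classical
  have hint : DirectSum.IsInternal D :=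
    (DirectSum.isInternal_submodule_iff_iSupIndep_and_iSup_eq_top D).2
      ⟨hD.decomp.indep, hD.decomp.iSup_eq_top⟩
  let e : (Σ _ : Fin t, Fin m) ≃ Fin m × Fin t :=
    (Equiv.sigmaEquivProd (Fin t) (Fin m)).trans (Equiv.prodComm _ _)
  let B := (hint.collectedBasis b).reindex e
  have hB : ∀ a i, B (a, i) = (b i a : ι → F) := by
    intro a i
    show (hint.collectedBasis b).reindex e (a, i) = _
    rw [Module.Basis.reindex_apply]
    have : e.symm (a, i) = ⟨i, a⟩ := rfl
    rw [this, DirectSum.IsInternal.collectedBasis_coe]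
  refine ⟨B, ?_⟩
  have h1 : LinearMap.BilinForm.toMatrix B (Cfsg.Agent.H922.toBilin hQ.polar_bilinear) =
      Matrix.blockDiagonal (fun i => LinearMap.BilinForm.toMatrix (b i) (resBilin hQ.polar_bilinear (D i))) := by
    ext ⟨a, i⟩ ⟨c, j⟩
    rw [LinearMap.BilinForm.toMatrix_apply, hB, hB, Matrix.blockDiagonal_apply]
    split_ifs with h
    · have h' : i = j := h
      subst h'
      rw [LinearMap.BilinForm.toMatrix_apply]
      rfl
    · exact hD.orthogonal i j h _ (b i a).2 _ (b j c).2
  rw [h1, Matrix.det_blockDiagonal]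

/-- isometric subspaces have bases with the same Gram matrices -/
theorem exists_bases {Q : (ι → F) → F} (hQ : Geo.IsNondegenerateQuadraticForm Q) {W W' : Submodule F (ι → F)}
    (h : Geo.AreIsometricFor Q W W') {κ : Type} [Fintype κ] [DecidableEq κ] (b : Module.Basis κ F W) :
    ∃ b' : Module.Basis κ F W', LinearMap.BilinForm.toMatrix b' (resBilin hQ.polar_bilinear W') =
      LinearMap.BilinForm.toMatrix b (resBilin hQ.polar_bilinear W) := by
  obtain ⟨e, he⟩ := h
  refine ⟨b.map e, ?_⟩
  ext i j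
  rw [LinearMap.BilinForm.toMatrix_apply, LinearMap.BilinForm.toMatrix_apply, resBilin_apply, resBilin_apply,
    Module.Basis.map_apply, Module.Basis.map_apply]
  exact polar_of_isometry e he _ _

/-- the Gram determinant of a form of plus type -/
theorem det_plus {Q : (ι → F) → F} (hQ : Geo.IsNondegenerateQuadraticForm Q) (hplus : Geo.IsPlusTypeOn Q ⊤)
    {m : ℕ} (hm : Fintype.card ι = 2 * m) {κ : Type} [Fintype κ] [DecidableEq κ] (B : Module.Basis κ F (ι → F)) :
    ∃ s : F, (LinearMap.BilinForm.toMatrix B (Cfsg.Agent.H922.toBilin hQ.polar_bilinear)).det = (-1) ^ m * s ^ 2 := by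
  obtain ⟨U, hU, hUd⟩ := exists_half hplus
  refine Cfsg.Agent.ClassicalGeometry.Discriminant.det_of_isotropic_half _
    (toBilin_isSymm Q hQ.polar_bilinear) m (by rw [Module.finrank_fintype_fun_eq_card, hm]) B U (by omega) ?_
  intro x hx y hy
  exact Cfsg.Agent.S0760.polar_eq_zero (qf hQ) U hU hx hy

theorem det_ne_zero_on {Q : (ι → F) → F} (hQ : Geo.IsNondegenerateQuadraticForm Q) {W : Submodule F (ι → F)}
    (hW : Geo.IsNondegenerateOn (polar Q) W) {κ : Type} [Fintype κ] [DecidableEq κ] (b : Module.Basis κ F W) :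
    (LinearMap.BilinForm.toMatrix b (resBilin hQ.polar_bilinear W)).det ≠ 0 :=
  (LinearMap.BilinForm.nondegenerate_iff_det_ne_zero b).1 (resBilin_nondegenerate hQ.polar_bilinear hW)

/-- an orthogonal decomposition into `t` isometric subspaces: `det = d ^ t` -/
theorem det_isometric {Q : (ι → F) → F} (hQ : Geo.IsNondegenerateQuadraticForm Q) {t m : ℕ}
    {D : Fin t → Submodule F (ι → F)} (hD : Geo.IsOrthogonalMDecomposition Q m D) (i₀ : Fin t)
    (b : Module.Basis (Fin m) F (D i₀)) :
    ∃ B : Module.Basis (Fin m × Fin t) F (ι → F), (LinearMap.BilinForm.toMatrix B (Cfsg.Agent.H922.toBilin hQ.polar_bilinear)).det =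
      (LinearMap.BilinForm.toMatrix b (resBilin hQ.polar_bilinear (D i₀))).det ^ t := by
  choose b' hb' using fun i => exists_bases hQ (hD.isometric i₀ i) b
  obtain ⟨B, hB⟩ := det_decomp hQ hD.decomp b'
  refine ⟨B, ?_⟩
  rw [hB, Finset.prod_congr rfl (fun i _ => by rw [hb' i]), Finset.prod_const, Finset.card_univ, Fintype.card_fin]

/-- Plus type with an odd number of isometric members of even dimension `2 * k`, `k` odd, `n = 2 m`, `m` odd: the members are
of plus type. -/
theorem plus_of_decomp [Finite F] {Q : (ι → F) → F} (hQ : Geo.IsNondegenerateQuadraticForm Q) (h2 : (2 : F) ≠ 0)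
    (hplus : Geo.IsPlusTypeOn Q ⊤) {t k : ℕ} (ht : Odd t) {D : Fin t → Submodule F (ι → F)}
    (hD : Geo.IsOrthogonalMDecomposition Q (2 * k) D) (i : Fin t) : Geo.IsPlusTypeOn Q (D i) := by
  have hcard : t * (2 * k) = Fintype.card ι := Cfsg.Agent.H922.mul_eq_card hD.decomp.decomp
  let b : Module.Basis (Fin (2 * k)) F (D i) := Module.finBasisOfFinrankEq F (D i) (hD.decomp.decomp.finrank_eq i)
  obtain ⟨B, hB⟩ := det_isometric hQ hD i b
  obtain ⟨s, hs⟩ := det_plus hQ hplus (m := t * k) (by rw [← hcard]; ring) B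
  set d := (LinearMap.BilinForm.toMatrix b (resBilin hQ.polar_bilinear (D i))).det with hd
  have hd0 : d ≠ 0 := det_ne_zero_on hQ (hD.decomp.nondegenerate i) b
  obtain ⟨u, hu⟩ := ht
  have hkey : d = (-1) ^ k * (s / d ^ u) ^ 2 := by
    have h1 : d ^ t = (-1) ^ (t * k) * s ^ 2 := by rw [← hB, hs]
    have h3 : ((-1 : F)) ^ (t * k) = (-1) ^ k := by
      rw [hu, add_mul, one_mul, pow_add, mul_assoc, pow_mul, neg_one_sq, one_pow, one_mul]
    rw [h3, hu, pow_succ, pow_mul] at h1
    have h4 : (d ^ 2) ^ u = (d ^ u) ^ 2 := by rw [← pow_mul, ← pow_mul, mul_comm]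
    rw [h4] at h1
    have h5 : (d ^ u) ≠ 0 := pow_ne_zero _ hd0
    rw [div_pow]
    field_simp
    linear_combination h1
  obtain ⟨X, hX1, hX2⟩ := Cfsg.Agent.ClassicalGeometry.Discriminant.exists_isotropic_half_of_det h2
    (resBilin hQ.polar_bilinear (D i))
    (resBilin_isSymm hQ.polar_bilinear (Cfsg.Agent.H922.polar_symm Q) (D i))
    (resBilin_nondegenerate hQ.polar_bilinear (hD.decomp.nondegenerate i)) k
    (hD.decomp.decomp.finrank_eq i) b _ hkey
  refine ⟨X.map (D i).subtype, ?_, ?_, ?_⟩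
  · rintro _ ⟨x, _, rfl⟩
    exact x.2
  · rintro _ ⟨x, hx, rfl⟩
    have h1 := hX2 x hx x hx
    rw [resBilin_apply, polar_self hQ] at h1
    exact (mul_eq_zero.1 h1).resolve_left h2
  · have h9 : Module.finrank F (X.map (D i).subtype) = Module.finrank F X :=
      (Submodule.equivMapOfInjective (D i).subtype (Submodule.injective_subtype _) X).finrank_eq.symm
    rw [h9, hX1, hD.decomp.decomp.finrank_eq]

/-- Plus type, `n = 2 m` with `m` odd, and an even number of isometric members: `-1` is a square. -/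
theorem isSquare_neg_one_of_decomp {Q : (ι → F) → F} (hQ : Geo.IsNondegenerateQuadraticForm Q)
    (hplus : Geo.IsPlusTypeOn Q ⊤) {t k m : ℕ} (ht : Even t) (hm : Odd m) (hn : Fintype.card ι = 2 * m)
    {D : Fin t → Submodule F (ι → F)}
    (hD : Geo.IsOrthogonalMDecomposition Q k D) : IsSquare (-1 : F) := by
  have ht0 : 0 < t := lt_of_lt_of_le two_pos hD.decomp.decomp.two_le
  let i : Fin t := ⟨0, ht0⟩
  let b : Module.Basis (Fin k) F (D i) := Module.finBasisOfFinrankEq F (D i) (hD.decomp.decomp.finrank_eq i)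
  obtain ⟨B, hB⟩ := det_isometric hQ hD i b
  obtain ⟨s, hs⟩ := det_plus hQ hplus hn B
  set d := (LinearMap.BilinForm.toMatrix b (resBilin hQ.polar_bilinear (D i))).det with hd
  have hd0 : d ≠ 0 := det_ne_zero_on hQ (hD.decomp.nondegenerate i) b
  obtain ⟨u, hu⟩ := ht
  have h1 : d ^ t = (-1) ^ m * s ^ 2 := by rw [← hB, hs]
  rw [hm.neg_one_pow, hu, pow_add] at h1
  have hs0 : s ≠ 0 := by
    rintro rfl
    have h5 : (d ^ u) ≠ 0 := pow_ne_zero _ hd0
    apply mul_ne_zero h5 h5
    rw [h1]; ring
  refine ⟨d ^ u / s, ?_⟩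
  field_simp
  linear_combination -h1

/-- two orthogonal nondegenerate subspaces of odd dimension whose discriminants agree up to squares are isometric -/
theorem isometric_of_det [Finite F] {Q : (ι → F) → F} (hQ : Geo.IsNondegenerateQuadraticForm Q) (h2 : (2 : F) ≠ 0)
    {W W' : Submodule F (ι → F)} (hW : Geo.IsNondegenerateOn (polar Q) W)
    (hW' : Geo.IsNondegenerateOn (polar Q) W') {k : ℕ} (b : Module.Basis (Fin k) F W) (b' : Module.Basis (Fin k) F W')
    {s : F} (hs : (LinearMap.BilinForm.toMatrix b' (resBilin hQ.polar_bilinear W')).det =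
      s ^ 2 * (LinearMap.BilinForm.toMatrix b (resBilin hQ.polar_bilinear W)).det) : Geo.AreIsometricFor Q W W' := by
  set d := (LinearMap.BilinForm.toMatrix b (resBilin hQ.polar_bilinear W)).det with hd
  have hd0 : d ≠ 0 := det_ne_zero_on hQ hW b
  rcases Nat.eq_zero_or_pos k with hk | hk
  · subst hk
    refine ⟨b.equiv b' (Equiv.refl _), fun w => ?_⟩
    have h0 : w = 0 := by
      have := b.repr.injective (a₁ := w) (a₂ := 0) (by ext i; exact i.elim0)
      exact this
    rw [h0, map_zero]
    rfl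
  let c : Fin k → F := Function.update (fun _ => 1) ⟨0, hk⟩ d
  have hc0 : ∀ i, c i ≠ 0 := by
    intro i
    by_cases h : i = ⟨0, hk⟩
    · rw [h]; simp only [c, Function.update_self]; exact hd0
    · simp only [c, Function.update_of_ne h]; exact one_ne_zero
  have hprod : ∏ i, c i = d := by
    rw [Finset.prod_update_of_mem (Finset.mem_univ _)]
    simp
  have hr := Module.finrank_eq_card_basis b
  have hr' := Module.finrank_eq_card_basis b'
  obtain ⟨v, hv⟩ := Cfsg.Agent.ClassicalGeometry.Discriminant.exists_basis_diag h2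
    (resBilin hQ.polar_bilinear W) (resBilin_isSymm hQ.polar_bilinear (Cfsg.Agent.H922.polar_symm Q) W)
    (resBilin_nondegenerate hQ.polar_bilinear hW) b c (by rw [hr]) hc0 1 (by rw [hprod]; ring)
  obtain ⟨v', hv'⟩ := Cfsg.Agent.ClassicalGeometry.Discriminant.exists_basis_diag h2
    (resBilin hQ.polar_bilinear W') (resBilin_isSymm hQ.polar_bilinear (Cfsg.Agent.H922.polar_symm Q) W')
    (resBilin_nondegenerate hQ.polar_bilinear hW') b' c (by rw [hr']) hc0 s (by rw [hprod, hs])
  let e := v.equiv v' (Equiv.refl _)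
  have he : ∀ x y : W, resBilin hQ.polar_bilinear W' (e x) (e y) = resBilin hQ.polar_bilinear W x y := by
    have h3 : (resBilin hQ.polar_bilinear W').comp e.toLinearMap e.toLinearMap = resBilin hQ.polar_bilinear W := by
      apply LinearMap.BilinForm.ext_basis v
      intro i j
      rw [LinearMap.BilinForm.comp_apply]
      have e1 : ∀ i, e.toLinearMap (v i) = v' i := fun i => by
        show e (v i) = v' i
        rw [Module.Basis.equiv_apply]; rfl
      rw [e1, e1, hv, hv']
    intro x y
    rw [← h3, LinearMap.BilinForm.comp_apply]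
    rfl
  refine ⟨e, fun w => ?_⟩
  have h4 := he w w
  rw [resBilin_apply, resBilin_apply, polar_self hQ, polar_self hQ] at h4
  exact mul_left_cancel₀ h2 h4

/-- Plus type, `n = 2 m` with `m` odd, `-1` a square: the two members of an orthogonal decomposition into subspaces of
dimension `m` are isometric. -/
theorem isometric_of_square [Finite F] {Q : (ι → F) → F} (hQ : Geo.IsNondegenerateQuadraticForm Q) (h2 : (2 : F) ≠ 0)
    (hplus : Geo.IsPlusTypeOn Q ⊤) {m : ℕ} (hn : Fintype.card ι = 2 * m)
    {D : Fin 2 → Submodule F (ι → F)} (hD : Geo.IsNondegenerateMDecomposition (polar Q) m D)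
    (hsq : IsSquare (-1 : F)) : Geo.AreIsometricFor Q (D 0) (D 1) := by
  let b : ∀ i, Module.Basis (Fin m) F (D i) := fun i =>
    Module.finBasisOfFinrankEq F (D i) (hD.decomp.finrank_eq i)
  obtain ⟨B, hB⟩ := det_decomp hQ hD b
  obtain ⟨s, hs⟩ := det_plus hQ hplus hn B
  rw [hB, Fin.prod_univ_two] at hs
  obtain ⟨i, hi⟩ := hsq
  have h0 := det_ne_zero_on hQ (hD.nondegenerate 0) (b 0)
  refine isometric_of_det hQ h2 (hD.nondegenerate 0) (hD.nondegenerate 1) (b 0) (b 1)
    (s := i ^ m * s / (LinearMap.BilinForm.toMatrix (b 0) (resBilin hQ.polar_bilinear (D 0))).det) ?_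
  set d0 := (LinearMap.BilinForm.toMatrix (b 0) (resBilin hQ.polar_bilinear (D 0))).det
  set d1 := (LinearMap.BilinForm.toMatrix (b 1) (resBilin hQ.polar_bilinear (D 1))).det
  have h3 : (i ^ m) ^ 2 = (-1) ^ m := by rw [hi, ← pow_mul, mul_comm m 2, pow_mul, pow_two]
  rw [div_pow, mul_pow, h3]
  field_simp
  linear_combination hs

end Cfsg.Agent.H925
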