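import Cfsg.Agent.H36.U52.Main
import Cfsg.Agent.H920.FormUniq
import Cfsg.Agent.H929.UThreeSD

/-!
# The invariant form of `U_5(2)` in degree 10 is alternating (helper925)

`P` a core of degree at most 12 in odd characteristic with `P / scalars ≃ U_5(2)`: `P` fixes no nondegenerate quadratic
form; in degree 10 it fixes a nondegenerate alternating form.

Proof: `2^{1+6}_- = D_8 ∘ D_8 ∘ Q_8`, `V_2` the joint eigenspace `z = a_1 = a_2 = -1`, of dimension 2, `Q_8 = ⟨a_3, b_3⟩` acts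
on it; a symmetric form invariant under `Q_8` is zero on it.
-/

set_option autoImplicit false
set_option linter.unusedSectionVars false

namespace Cfsg.Agent.H925.U52

open Module Matrix Cfsg Cfsg.Geo Cfsg.Agent.H915.LD Cfsg.Agent.H36.U52

universe u v w

section abs

variable {K : Type u} {V : Type v} [Field K] [AddCommGroup V] [Module K V] [FiniteDimensional K V]
variable {E : El (Module.End K V)} {i : K}

/-- an invariant symmetric form vanishes on `X` -/
theorem form_zero (H : Good E i) (B : V →ₗ[K] V →ₗ[K] K) (hs : ∀ u v, B u v = B v u)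
    (hz1 : ∀ u v, B (E.z1 u) (E.z1 v) = B u v) (ha1 : ∀ u v, B (E.a1 u) (E.a1 v) = B u v)
    (ha2 : ∀ u v, B (E.a2 u) (E.a2 v) = B u v) (ha3 : ∀ u v, B (E.a3 u) (E.a3 v) = B u v)
    (hb3 : ∀ u v, B (E.b3 u) (E.b3 v) = B u v) {x : V} (hx : x ∈ X E i) (v : V) : B x v = 0 := by
  have h2 := H.two
  have D := H.rel
  have kill : ∀ a : K, a = -a → a = 0 := by
    intro a ha
    have h3 : (2 : K) * a = 0 := by linear_combination ha
    exact (mul_eq_zero.1 h3).resolve_left h2
  obtain ⟨⟨⟨xz, xa1⟩, xa2⟩, xa3⟩ := mem_X.1 hx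
  -- the space `X`
  have hxx : ∀ y ∈ X E i, ∀ y' ∈ X E i, B y y' = 0 := by
    intro y hy y' hy'
    have e1 := ha3 y y'
    rw [(mem_X.1 hy).2, (mem_X.1 hy').2, map_smul, map_smul, LinearMap.smul_apply, smul_eq_mul, smul_eq_mul,
      ← mul_assoc, H.hi] at e1
    apply kill
    linear_combination -e1
  by_cases hx0 : x = 0
  · rw [hx0, map_zero, LinearMap.zero_apply]
  have hX : ∀ y ∈ X E i, ∃ c : K, y = c • x := by
    intro y hy
    obtain ⟨c, hc⟩ := (finrank_eq_one_iff_of_nonzero' (⟨x, hx⟩ : X E i) (fun h => hx0 (congrArg Subtype.val h))).1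
      H.dimX ⟨y, hy⟩
    exact ⟨c, (congrArg Subtype.val hc).symm⟩
  -- on `V2`
  have hV2 : ∀ w ∈ V2 E, B x w = 0 := by
    intro w hw
    obtain ⟨⟨wz, wa1⟩, wa2⟩ := mem_V2.1 hw
    have a3z : ∀ y, E.a3 (E.a3 y) = E.z1 y := fun y => ap D.a3a3 y
    have b3z : ∀ y, E.b3 (E.b3 y) = E.z1 y := fun y => ap D.b3b3 y
    -- the two parts
    have hp : w - i • E.a3 w ∈ X E i := by
      rw [mem_X]
      refine ⟨⟨⟨?_, ?_⟩, ?_⟩, ?_⟩
      · rw [map_sub, map_smul, show E.z1 (E.a3 w) = E.a3 (E.z1 w) from ap D.z1a3 w, wz, map_neg]; module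
      · rw [map_sub, map_smul, show E.a1 (E.a3 w) = E.a3 (E.a1 w) from ap D.a1a3 w, wa1, map_neg]; module
      · rw [map_sub, map_smul, show E.a2 (E.a3 w) = E.a3 (E.a2 w) from ap D.a2a3 w, wa2, map_neg]; module
      · rw [map_sub, map_smul, a3z, wz, smul_sub, smul_smul, H.hi]; module
    have hm : E.b3 (w + i • E.a3 w) ∈ X E i := by
      have ab : ∀ y, E.a3 (E.b3 y) = E.z1 (E.b3 (E.a3 y)) := fun y => ap D.a3b3 y
      have zb : ∀ y, E.z1 (E.b3 y) = E.b3 (E.z1 y) := by
        intro y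
        rw [← b3z y, ← b3z (E.b3 y)]
      have za : ∀ y, E.z1 (E.a3 y) = E.a3 (E.z1 y) := fun y => ap D.z1a3 y
      set s := w + i • E.a3 w with hs'
      have sz : E.z1 s = -s := by rw [hs', map_add, map_smul, za, wz, map_neg]; module
      have sa1 : E.a1 s = -s := by
        rw [hs', map_add, map_smul, show E.a1 (E.a3 w) = E.a3 (E.a1 w) from ap D.a1a3 w, wa1, map_neg]; module
      have sa2 : E.a2 s = -s := by
        rw [hs', map_add, map_smul, show E.a2 (E.a3 w) = E.a3 (E.a2 w) from ap D.a2a3 w, wa2, map_neg]; module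
      have sa3 : E.a3 s = -(i • s) := by
        rw [hs', map_add, map_smul, a3z, wz, smul_add, smul_smul, H.hi]; module
      rw [mem_X]
      refine ⟨⟨⟨?_, ?_⟩, ?_⟩, ?_⟩
      · rw [zb, sz, map_neg]
      · rw [show E.a1 (E.b3 s) = E.b3 (E.a1 s) from ap D.a1b3 s, sa1, map_neg]
      · rw [show E.a2 (E.b3 s) = E.b3 (E.a2 s) from ap D.a2b3 s, sa2, map_neg]
      · rw [ab, sa3, map_neg, map_neg, map_smul, map_smul, zb, sz, map_neg, smul_neg, neg_neg]
    have e1 : B x (w - i • E.a3 w) = 0 := hxx _ hx _ hp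
    have e2 : B x (w + i • E.a3 w) = 0 := by
      obtain ⟨c, hc⟩ := hX _ hm
      rw [← hb3, hc, map_smul, smul_eq_mul]
      have h3 : B (E.b3 x) x = 0 := by
        apply kill
        have h4 := hb3 (E.b3 x) x
        rw [b3z, xz, map_neg, LinearMap.neg_apply, hs x] at h4
        exact h4.symm
      rw [h3, mul_zero]
    have h3 : (2 : K) * B x w = 0 := by
      have : (2 : K) • w = (w - i • E.a3 w) + (w + i • E.a3 w) := by module
      rw [← smul_eq_mul, ← map_smul, this, map_add, e1, e2, add_zero]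
    exact (mul_eq_zero.1 h3).resolve_left h2
  -- reduction to `V2`
  have r1 : ∀ v, E.z1 v = v → B x v = 0 := by
    intro v hv
    apply kill
    have := hz1 x v
    rw [xz, hv, map_neg, LinearMap.neg_apply] at this
    exact this.symm
  have r2 : ∀ v, E.a1 v = v → B x v = 0 := by
    intro v hv
    apply kill
    have := ha1 x v
    rw [xa1, hv, map_neg, LinearMap.neg_apply] at this
    exact this.symm
  have r3 : ∀ v, E.a2 v = v → B x v = 0 := by
    intro v hv
    apply kill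
    have := ha2 x v
    rw [xa2, hv, map_neg, LinearMap.neg_apply] at this
    exact this.symm
  have split : ∀ (T : Module.End K V), T * T = 1 → (∀ v, T v = v → B x v = 0) → ∀ v, B x (v - T v) = 0 → B x v = 0 := by
    intro T hT hr v hv
    have e1 : B x (v + T v) = 0 := by
      apply hr
      rw [map_add, show T (T v) = v from ap hT v, add_comm]
    have h3 : (2 : K) * B x v = 0 := by
      have : (2 : K) • v = (v + T v) + (v - T v) := by module
      rw [← smul_eq_mul, ← map_smul, this, map_add, e1, hv, add_zero]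
    exact (mul_eq_zero.1 h3).resolve_left h2
  refine split E.z1 D.z1z1 r1 v (split E.a1 D.a1a1 r2 _ (split E.a2 D.a2a2 r3 _ (hV2 _ ?_)))
  have z1a1 : ∀ y, E.z1 (E.a1 y) = E.a1 (E.z1 y) := fun y => ap D.z1a1 y
  have z1a2 : ∀ y, E.z1 (E.a2 y) = E.a2 (E.z1 y) := fun y => ap D.z1a2 y
  have a1a2 : ∀ y, E.a1 (E.a2 y) = E.a2 (E.a1 y) := fun y => ap D.a1a2 y
  have z1z1 : ∀ y, E.z1 (E.z1 y) = y := fun y => ap D.z1z1 y
  have a1a1 : ∀ y, E.a1 (E.a1 y) = y := fun y => ap D.a1a1 y
  have a2a2 : ∀ y, E.a2 (E.a2 y) = y := fun y => ap D.a2a2 y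
  rw [mem_V2]
  refine ⟨⟨?_, ?_⟩, ?_⟩
  · simp only [map_sub, z1a1, z1a2, z1z1]
    abel
  · simp only [map_sub, a1a1, a1a2]
    abel
  · simp only [map_sub, a2a2]
    abel

end abs

variable {F : Type u} [Field F] {n : ℕ}

theorem not_fixQ_aux [Finite F] {P : Subgroup (GL (Fin n) F)} (hC : Core P) (p : ℕ) [hp : Fact p.Prime] [CharP F p]
    (hp2 : p ≠ 2) (hn : n ≤ 12) {E : El P} (D : Rel E) (hg : Subgroup.closure (gens E) = ⊤) (hz : E.z1 ≠ 1) :
    ¬ FixQ P := by
  rintro ⟨Q, hQ, hfix⟩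
  let K := AlgebraicClosure F
  let ι : F →+* K := algebraMap F K
  have : CharP K p := charP_of_injective_algebraMap (algebraMap F K).injective p
  have hι : Function.Injective ι := ι.injective
  have h2 : (2 : K) ≠ 0 := by
    intro h
    have h1 : ((2 : ℕ) : K) = 0 := by exact_mod_cast h
    rw [CharP.cast_eq_zero_iff K p] at h1
    exact hp2 ((Nat.prime_dvd_prime_iff_eq hp.out Nat.prime_two).1 h1)
  have hfin : Finite P := inferInstance
  obtain ⟨i, hi⟩ := exists_i (K := K)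
  obtain ⟨H, -, -, -, -⟩ := rp_good h2 D hg (rp_ext hC hz ι) hn hi
  -- the Gram matrix
  set M := H920.gram (QuadraticMap.polar Q) with hM
  have hdet : M.det ≠ 0 := H920.gram_det_ne hQ.polar_bilinear hQ.nondegenerate
  have hpol : ∀ g : P, ∀ u v, QuadraticMap.polar Q (((g : GL (Fin n) F) : Matrix (Fin n) (Fin n) F) *ᵥ u)
      (((g : GL (Fin n) F) : Matrix (Fin n) (Fin n) F) *ᵥ v) = QuadraticMap.polar Q u v := by
    intro g u v
    have h3 := fun w => hfix _ ⟨(g : GL (Fin n) F), g.2, rfl⟩ w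
    change ∀ w, Q (((g : GL (Fin n) F) : Matrix (Fin n) (Fin n) F) *ᵥ w) = Q w at h3
    rw [QuadraticMap.polar, ← mulVec_add, h3, h3, h3]
    rfl
  have hinv : ∀ g : P, (((g : GL (Fin n) F) : Matrix (Fin n) (Fin n) F))ᵀ * M *
      ((g : GL (Fin n) F) : Matrix (Fin n) (Fin n) F) = M := fun g =>
    H920.gram_invariant hQ.polar_bilinear (hpol g)
  have hsymm : Mᵀ = M := by
    ext a b
    exact QuadraticMap.polar_comm _ _ _
  let M' : Matrix (Fin n) (Fin n) K := M.map ι
  have hdet' : M'.det ≠ 0 := by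
    have h3 : M'.det = ι M.det := (RingHom.map_det ι M).symm
    rw [h3]
    exact (map_ne_zero ι).2 hdet
  have hinv' : ∀ g : P, (ext P ι g)ᵀ * M' * ext P ι g = M' := by
    intro g
    rw [ext_apply]
    change (Matrix.map _ ι)ᵀ * (M.map ι) * _ = M.map ι
    rw [← Matrix.transpose_map, ← Matrix.map_mul, ← Matrix.map_mul, hinv]
  let B : (Fin n → K) →ₗ[K] (Fin n → K) →ₗ[K] K :=
    LinearMap.mk₂ K (fun u v => u ⬝ᵥ (M' *ᵥ v)) (fun u u' v => add_dotProduct _ _ _)
      (fun c u v => smul_dotProduct _ _ _) (fun u v v' => by rw [mulVec_add, dotProduct_add])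
      (fun c u v => by rw [mulVec_smul, dotProduct_smul])
  have hB : ∀ u v, B u v = u ⬝ᵥ (M' *ᵥ v) := fun _ _ => rfl
  have hBs : ∀ u v, B u v = B v u := by
    intro u v
    have h3 : M'ᵀ = M' := by
      change (M.map ι)ᵀ = M.map ι
      rw [← Matrix.transpose_map, hsymm]
    rw [hB, hB, dotProduct_mulVec, dotProduct_comm, ← mulVec_transpose, h3]
  have hBi : ∀ (g : P) (u v), B (en (ext P ι) g u) (en (ext P ι) g v) = B u v := by
    intro g u v
    rw [hB, hB, en_vec, en_vec]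
    conv_rhs => rw [← hinv' g]
    rw [← mulVec_mulVec, ← mulVec_mulVec, dotProduct_mulVec u, vecMul_transpose]
  have hX : (X (E.map (en (ext P ι))) i) ≠ ⊥ := by
    intro h3
    have h4 := H.dimX
    rw [h3, finrank_bot] at h4
    exact zero_ne_one h4
  obtain ⟨x, hx, hx0⟩ := Submodule.exists_mem_ne_zero_of_ne_bot hX
  have key := fun v => form_zero H B hBs (hBi E.z1) (hBi E.a1) (hBi E.a2) (hBi E.a3) (hBi E.b3) hx v
  apply hdet'
  rw [← Matrix.exists_vecMul_eq_zero_iff]
  refine ⟨x, hx0, ?_⟩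
  funext j
  have h3 := key (Pi.single j 1)
  rw [hB, dotProduct_mulVec, dotProduct_single_one] at h3
  exact h3

/-- **`U_5(2)` fixes no quadratic form in odd characteristic.** -/
theorem not_fixQ [Finite F] {P : Subgroup (GL (Fin n) F)} (hC : Core P) (p : ℕ) [hp : Fact p.Prime] [CharP F p]
    (hp2 : p ≠ 2) (hn : n ≤ 12) {F₄ : Type} [Field F₄] [Fintype F₄] (hF₄ : Fintype.card F₄ = 4)
    (e : Soc P ≃* PSU 5 F₄ 2) : ¬ FixQ P := by
  have hm := Cfsg.Agent.S2089.result 5 2 (F := F₄) (by rw [hF₄]; norm_num) (by norm_num) (by norm_num) (by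
    simp)
  have hm1 : HasSchurMultiplier (PSU 5 F₄ 2) (Multiplicative (ZMod 1)) := by
    have h5 : Nat.gcd 5 (2 + 1) = 1 := by norm_num
    rw [h5] at hm
    exact hm
  obtain ⟨e', -⟩ := hC.equiv_of_coprime e hm1 (by simp)
  obtain ⟨E, D, hg, hz⟩ := exists_data hF₄ e'
  exact not_fixQ_aux hC p hp2 hn D hg hz

/-- **`U_5(2)` of degree 10 is symplectic in odd characteristic.** -/
theorem fixA [Finite F] {P : Subgroup (GL (Fin n) F)} (hC : Core P) (p : ℕ) [hp : Fact p.Prime] [CharP F p]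
    (hp2 : p ≠ 2) (hn : n = 10) {F₄ : Type} [Field F₄] [Fintype F₄] (hF₄ : Fintype.card F₄ = 4)
    (e : Soc P ≃* PSU 5 F₄ 2) : FixA P := by
  have h1 := t6 hC p hp2 (by omega) hF₄ e
  have hsd : SD P := by
    rcases h1 with h | h
    · exact h.2.1
    · omega
  exact (hC.forms_of_sd hsd).resolve_left (not_fixQ hC p hp2 (by omega) hF₄ e)

end Cfsg.Agent.H925.U52
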