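import Cfsg.Agent.Nodes.LeviDec
import Cfsg.Agent.Nodes.RGDLib
import Cfsg.Agent.Mrg.Omega.Lie.End.KSideMain
import Cfsg.Agent.ChevalleyStructure.SL2Hom
import Cfsg.Agent.H421.Uni.RkOne

/-!
# Curtis–Richen for a finite group with a parametrised root group datum (helper925, for Theorem (U), team U-EXC)

`R : RGD cs h p T n X` a root group datum of a finite group `Y`, `T` commutative; `x i, y i : F → Y` parametrise the
simple root groups `X (sr i)`, `X (-sr i)`, `d i : Fˣ → Y` the coroot (`Par F T X x y d`; `F` any finite field, `p = 2`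
included; `Par.of_SL2`: from homomorphisms `SL(2,F) →* Y`). Then

* `Par.exists_wt` : every finite dimensional module over an algebraically closed `F`-algebra has a weight vector `v`:
  fixed by `U`, `d i b • v = b ^ a i • v`, `a i < card F`, and
  `x i (-1) y i 1 v = - ∑ t, t ^ (card F - 1 - a i) • y i t v`;
* `Par.neg` : a vector `w`, fixed by the `x i s`, an eigenvector of the `d i b`, with `x i (-1) y i 1 w` in the span
  of the `y i t w`, generates under `U⁻ = UN cs h X` (all negative root groups) all that it generates under `Y`;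
* `isPGroup_UN` : `U⁻` is a `p`-group.
-/

set_option autoImplicit false
set_option linter.unusedSectionVars false
set_option linter.unusedSimpArgs false

namespace Cfsg.Agent.H925.CR

open CoxeterSystem Cfsg.Agent.ChevalleyStructure.CoxeterGeom Cfsg.Agent.Tits.Roots Cfsg.Agent.Tits.Core
  Cfsg.Agent.Tits.Exchange Cfsg.Agent.Nodes.Reps Cfsg.Agent.Nodes.BNOf Cfsg.Agent.Nodes.StabComb
  Cfsg.Agent.Nodes.Bruhat Cfsg.Agent.Nodes.OppDec Cfsg.Agent.Nodes.LeviDec
open Cfsg.Agent.ChevalleyStructure.SL2Hom (up lo)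
open Cfsg.Agent.H421.Uni (exists_pow sum_units)

/-! ### rank one, with the braid relation as a hypothesis (so `p = 2` is allowed) -/

section rk

variable {F k W Y : Type*} [Field F] [Fintype F] [Field k] [Algebra F k] [AddCommGroup W] [Module k W] [Group Y]

theorem rank_one (ρ : Y →* Module.End k W) (x y : F → Y) (h : Fˣ → Y)
    (hx : ∀ s t, x (s + t) = x s * x t) (hy : ∀ s t, y (s + t) = y s * y t) (hh : ∀ b c, h (b * c) = h b * h c)
    (hrk : ∀ (a s : F) (c : Fˣ), (c : F) = 1 + a * s → x a * y s = y (s / c) * h c * x (a / c))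
    (hbr : y 1 * x (-1) * y 1 = x (-1) * y 1 * x (-1))
    {v : W} (hv : v ≠ 0) (hfix : ∀ s, ρ (x s) v = v) (hT : ∀ b, ∃ c : k, ρ (h b) v = c • v)
    (hθ : ∃ θ : k, ∑ s, ρ (x s) (ρ (y 1) v) = θ • v) :
    ∃ a < Fintype.card F, (∀ b : Fˣ, ρ (h b) v = algebraMap F k b ^ a • v) ∧
      ρ (x (-1) * y 1) v = - ∑ t : F, algebraMap F k t ^ (Fintype.card F - 1 - a) • ρ (y t) v := by
  classical
  have hmul : ∀ (g g' : Y) (w : W), ρ (g * g') w = ρ g (ρ g' w) := fun g g' w => by rw [map_mul]; rfl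
  have hone : ∀ w : W, ρ 1 w = w := fun w => by rw [map_one]; rfl
  have hy0 : y 0 = 1 := by
    have := hy 0 0
    rw [add_zero] at this
    exact (mul_eq_left.1 this.symm)
  have hh1 : h 1 = 1 := by
    have := hh 1 1
    rw [mul_one] at this
    exact (mul_eq_left.1 this.symm)
  have hq0 : ((Fintype.card F : ℕ) : k) = 0 := by
    have h1 : ((Fintype.card F : ℕ) : F) = 0 := Nat.cast_card_eq_zero F
    have h2 := congrArg (algebraMap F k) h1
    rwa [map_natCast, map_zero] at h2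
  choose χ0 hχ0 using hT
  have hinj : ∀ c d : k, c • v = d • v → c = d := fun c d e => smul_left_injective k hv e
  -- the character
  let χ1 : Fˣ →* k :=
    { toFun := χ0
      map_one' := by
        apply hinj
        rw [← hχ0, hh1, hone, one_smul]
      map_mul' := by
        intro b c
        apply hinj
        rw [← hχ0, hh, hmul, hχ0, map_smul, hχ0, smul_smul, mul_comm] }
  set χ := χ1.toHomUnits with hχdef
  have hχ : ∀ b, ρ (h b) v = (χ b : k) • v := fun b => hχ0 b
  obtain ⟨θ, hθ⟩ := hθ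
  set D : W → W := fun w => ∑ s, ρ (x s) w with hD
  have hDx : ∀ a w, D (ρ (x a) w) = D w := by
    intro a w
    simp only [hD]
    refine Fintype.sum_equiv (Equiv.addRight a) _ _ fun s => ?_
    rw [← hmul, ← hx]; rfl
  have hDs : ∀ (c : k) w, D (c • w) = c • D w := by
    intro c w
    simp only [hD, map_smul, Finset.smul_sum]
  have hDv : D v = 0 := by
    simp only [hD, hfix]
    rw [Finset.sum_const, Finset.card_univ, ← Nat.cast_smul_eq_nsmul k, hq0, zero_smul]
  have hθ' : D (ρ (y 1) v) = θ • v := hθ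
  -- `y c v`
  have hyc : ∀ c : Fˣ, ρ (y c) v = (χ c : k) • ρ (x ((c⁻¹ : Fˣ) - 1)) (ρ (y 1) v) := by
    intro c
    have h1 := hrk ((c⁻¹ : Fˣ) - 1) 1 c⁻¹ (by ring)
    have h3 : (1 : F) / ((c⁻¹ : Fˣ) : F) = c := by rw [Units.val_inv_eq_inv_val]; simp
    rw [h3] at h1
    rw [← hmul, h1, hmul, hfix, hmul, hχ, map_smul, smul_smul, map_inv, Units.val_inv_eq_inv_val,
      mul_inv_cancel₀ (χ c).ne_zero, one_smul]
  have hDyc : ∀ c : Fˣ, D (ρ (y c) v) = (χ c : k) • θ • v := by
    intro c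
    rw [hyc, hDs, hDx, hθ']
  -- the square
  set f : F → k := fun d => if hd : d = 0 then 0 else (χ (Units.mk0 d hd) : k) with hf
  have hf0 : f 0 = 0 := dif_pos rfl
  have hfu : ∀ c : Fˣ, f c = χ c := by
    intro c
    simp only [hf]
    rw [dif_neg c.ne_zero]
    congr 2
    exact Units.ext rfl
  have hE : ∀ s : F, D (ρ (y 1) (ρ (x s) (ρ (y 1) v))) = f (s + 2) • θ • v := by
    intro s
    by_cases hs : 1 + s = 0
    · have hs' : s = -1 := by linear_combination hs
      subst hs'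
      have e1 : (-1 : F) + 2 = ((1 : Fˣ) : F) := by rw [Units.val_one]; norm_num
      rw [← hmul, ← hmul, hbr, hmul, hfix, hmul, hDx, hθ', e1, hfu, map_one, Units.val_one, one_smul]
    · set c : Fˣ := Units.mk0 (1 + s) hs with hc
      have hcv : (c : F) = 1 + s := rfl
      have h1 := hrk s 1 c (by rw [hcv]; ring)
      have h3 : ρ (x s) (ρ (y 1) v) = (χ c : k) • ρ (y (1 / c)) v := by
        rw [← hmul, h1, hmul, hfix, hmul, hχ, map_smul]
      rw [h3, map_smul, ← hmul, ← hy, hDs]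
      by_cases hs2 : s + 2 = 0
      · have h4 : (1 : F) + 1 / (c : F) = 0 := by
          rw [hcv]
          have : (1 : F) + s = -1 := by linear_combination hs2
          rw [this]; norm_num
        rw [h4, hy0, hone, hDv, smul_zero, hs2, hf0, zero_smul]
      · set d : Fˣ := Units.mk0 (s + 2) hs2 with hd
        have hdv : (d : F) = s + 2 := rfl
        have h4 : (1 : F) + 1 / (c : F) = ((c⁻¹ * d : Fˣ) : F) := by
          rw [Units.val_mul, Units.val_inv_eq_inv_val, hdv, hcv]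
          field_simp
          ring
        rw [h4, hDyc, ← hdv, hfu, map_mul, map_inv, Units.val_mul, Units.val_inv_eq_inv_val, smul_smul,
          ← mul_assoc, mul_inv_cancel₀ (χ c).ne_zero, one_mul]
  have hsq : θ * θ = (∑ c : Fˣ, (χ c : k)) * θ := by
    apply hinj
    have h1 : D (ρ (y 1) (D (ρ (y 1) v))) = (θ * θ) • v := by
      rw [hθ', map_smul, hDs, hθ', smul_smul]
    rw [← h1]
    have h3 : D (ρ (y 1) (D (ρ (y 1) v))) = ∑ s, D (ρ (y 1) (ρ (x s) (ρ (y 1) v))) := by
      simp only [hD, map_sum]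
      rw [Finset.sum_comm]
    rw [h3]
    simp only [hE]
    rw [← Finset.sum_smul, smul_smul]
    congr 2
    rw [Fintype.sum_equiv (Equiv.addRight (2 : F)) (fun s => f (s + 2)) f fun s => rfl, sum_units, hf0, zero_add]
    exact Finset.sum_congr rfl fun c _ => hfu c
  -- the expansion
  have hexp : ρ (x (-1) * y 1) v = θ • v - ∑ c : Fˣ, ((χ c : k))⁻¹ • ρ (y c) v := by
    have h1 : ∑ s, ρ (x s) (ρ (y 1) v) = ∑ s, ρ (x (s - 1)) (ρ (y 1) v) :=
      (Fintype.sum_equiv (Equiv.subRight (1 : F)) (fun s => ρ (x (s - 1)) (ρ (y 1) v)) _ fun s => rfl).symm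
    have h3 : ∑ c : Fˣ, ((χ c : k))⁻¹ • ρ (y c) v = ∑ c : Fˣ, ρ (x ((c : F) - 1)) (ρ (y 1) v) := by
      refine Fintype.sum_equiv (Equiv.inv Fˣ) _ _ fun c => ?_
      rw [hyc, smul_smul, inv_mul_cancel₀ (χ c).ne_zero, one_smul]
      rfl
    rw [h3, ← hθ, h1, sum_units, zero_sub, hmul]
    abel
  obtain ⟨j, hj, hχj⟩ := exists_pow χ
  have h1q : 1 < Fintype.card F := Fintype.one_lt_card
  by_cases hth : θ = 0
  · refine ⟨j, by omega, fun b => by rw [hχ, hχj], ?_⟩
    rw [hexp, hth, zero_smul, zero_sub, sum_units (fun t : F => algebraMap F k t ^ (Fintype.card F - 1 - j) • ρ (y t) v),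
      map_zero, zero_pow (by omega), zero_smul, zero_add]
    congr 1
    refine Finset.sum_congr rfl fun c _ => ?_
    congr 1
    refine inv_eq_of_mul_eq_one_right ?_
    rw [hχj, ← pow_add, show j + (Fintype.card F - 1 - j) = Fintype.card F - 1 by omega, ← map_pow,
      FiniteField.pow_card_sub_one_eq_one _ c.ne_zero, map_one]
  · have hth' : θ = ∑ c : Fˣ, (χ c : k) := mul_right_cancel₀ hth hsq
    have hχ1 : χ1 = 1 := by
      by_contra hne
      apply hth
      rw [hth']
      exact sum_hom_units_eq_zero χ1 hne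
    have hχ2 : ∀ c, (χ c : k) = 1 := fun c => DFunLike.congr_fun hχ1 c
    have hθ1 : θ = -1 := by
      rw [hth', Finset.sum_congr rfl fun c _ => hχ2 c, Finset.sum_const, Finset.card_univ, Fintype.card_units,
        nsmul_eq_mul, mul_one, Nat.cast_sub h1q.le, hq0, Nat.cast_one, zero_sub]
    refine ⟨Fintype.card F - 1, by omega, fun b => ?_, ?_⟩
    · rw [hχ, hχ2, ← map_pow, FiniteField.pow_card_sub_one_eq_one _ b.ne_zero, map_one]
    · rw [hexp, hθ1, sum_units (fun t : F => algebraMap F k t ^ (Fintype.card F - 1 - (Fintype.card F - 1)) • ρ (y t) v)]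
      simp only [Nat.sub_self, pow_zero, one_smul, hχ2, inv_one, hy0, hone, neg_smul]
      abel

end rk

/-! ### the parametrisation -/

section par

variable {I Y : Type*} [DecidableEq I] [Group Y]

/-- a parametrisation of the simple root groups -/
structure Par (F : Type*) [Field F] (T : Subgroup Y) (X : (I → ℤ) → Subgroup Y) (x y : I → F → Y)
    (d : I → Fˣ → Y) : Prop where
  x_add : ∀ i s t, x i (s + t) = x i s * x i t
  y_add : ∀ i s t, y i (s + t) = y i s * y i t
  d_mul : ∀ i b c, d i (b * c) = d i b * d i c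
  rk : ∀ i (a s : F) (c : Fˣ), (c : F) = 1 + a * s → x i a * y i s = y i (s / c) * d i c * x i (a / c)
  braid : ∀ i, y i 1 * x i (-1) * y i 1 = x i (-1) * y i 1 * x i (-1)
  x_inj : ∀ i, Function.Injective (x i)
  y_ne : ∀ i, y i 1 ≠ 1
  mem_pos : ∀ i g, g ∈ X (sr i) ↔ ∃ s, g = x i s
  mem_neg : ∀ i g, g ∈ X (-sr i) ↔ ∃ s, g = y i s
  d_mem : ∀ i b, d i b ∈ T

/-- the diagonal element -/
def dg {F : Type*} [Field F] (b : Fˣ) : Matrix.SpecialLinearGroup (Fin 2) F :=
  ⟨!![(b : F), 0; 0, ((b⁻¹ : Fˣ) : F)], by simp⟩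

theorem up_add {F : Type*} [Field F] (s t : F) : up (s + t) = up s * up t := by
  apply Subtype.ext
  show (up (s + t)).1 = (up s).1 * (up t).1
  ext i j
  fin_cases i <;> fin_cases j <;> simp [up, Matrix.mul_apply, Fin.sum_univ_two, add_comm]

theorem lo_add {F : Type*} [Field F] (s t : F) : lo (s + t) = lo s * lo t := by
  apply Subtype.ext
  show (lo (s + t)).1 = (lo s).1 * (lo t).1
  ext i j
  fin_cases i <;> fin_cases j <;> simp [lo, Matrix.mul_apply, Fin.sum_univ_two]

theorem dg_mul {F : Type*} [Field F] (b c : Fˣ) : dg (b * c) = dg b * dg c := by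
  apply Subtype.ext
  show (dg (b * c)).1 = (dg b).1 * (dg c).1
  ext i j
  fin_cases i <;> fin_cases j <;> simp [dg, Matrix.mul_apply, Fin.sum_univ_two, mul_comm]

theorem up_lo {F : Type*} [Field F] (a s : F) (c : Fˣ) (hc : (c : F) = 1 + a * s) :
    up a * lo s = lo (s / c) * dg c * up (a / c) := by
  have hc0 : (c : F) ≠ 0 := c.ne_zero
  apply Subtype.ext
  show (up a).1 * (lo s).1 = (lo (s / c)).1 * (dg c).1 * (up (a / c)).1
  have e : ∀ i j : Fin 2, ((up a).1 * (lo s).1) i j = ((lo (s / c)).1 * (dg c).1 * (up (a / c)).1) i j := by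
    intro i j
    fin_cases i <;> fin_cases j
    · simp [up, lo, dg, Matrix.mul_apply, Fin.sum_univ_two, hc]
    · simp [up, lo, dg, Matrix.mul_apply, Fin.sum_univ_two]
      field_simp
    · simp [up, lo, dg, Matrix.mul_apply, Fin.sum_univ_two]
    · simp [up, lo, dg, Matrix.mul_apply, Fin.sum_univ_two]
      field_simp
      rw [hc]
      ring
  ext i j
  exact e i j

theorem braid_SL2 {F : Type*} [Field F] : lo (1 : F) * up (-1) * lo 1 = up (-1) * lo 1 * up (-1) := by
  apply Subtype.ext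
  show (lo (1 : F)).1 * (up (-1)).1 * (lo 1).1 = (up (-1)).1 * (lo 1).1 * (up (-1)).1
  ext i j
  fin_cases i <;> fin_cases j <;> simp [up, lo, Matrix.mul_apply, Fin.sum_univ_two]

/-- the parametrisation from homomorphisms `SL(2,F) →* Y` -/
theorem Par.of_SL2 {F : Type*} [Field F] {T : Subgroup Y} {X : (I → ℤ) → Subgroup Y}
    (φ : I → Matrix.SpecialLinearGroup (Fin 2) F →* Y) (hinj : ∀ i, Function.Injective fun s => φ i (up s))
    (hne : ∀ i, φ i (lo 1) ≠ 1) (hpos : ∀ i g, g ∈ X (sr i) ↔ ∃ s, g = φ i (up s))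
    (hneg : ∀ i g, g ∈ X (-sr i) ↔ ∃ s, g = φ i (lo s)) (hT : ∀ i b, φ i (dg b) ∈ T) :
    Par F T X (fun i s => φ i (up s)) (fun i s => φ i (lo s)) (fun i b => φ i (dg b)) where
  x_add i s t := by rw [up_add, map_mul]
  y_add i s t := by rw [lo_add, map_mul]
  d_mul i b c := by rw [dg_mul, map_mul]
  rk i a s c hc := by rw [← map_mul, up_lo a s c hc, map_mul, map_mul]
  braid i := by rw [← map_mul, ← map_mul, braid_SL2, map_mul, map_mul]
  x_inj := hinj
  y_ne := hne
  mem_pos := hpos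
  mem_neg := hneg
  d_mem := hT

end par

variable {I W Y : Type*} [Fintype I] [DecidableEq I] [Group W] [Group Y] {M : CoxeterMatrix I}
  {cs : CoxeterSystem M W} {A : I → I → ℤ} {h : IsCartan M A} {p : ℕ} {T : Subgroup Y} {n : I → Y}
  {X : (I → ℤ) → Subgroup Y}

/-! ### weight vectors -/

section wt

/-- a common eigenvector (helper421's `exists_vec`) -/
theorem exists_vec [Finite W] [Finite Y] [Fact p.Prime] (R : RGD cs h p T n X) {k V : Type*} [Field k] [CharP k p]
    [IsAlgClosed k] [AddCommGroup V] [Module k V] [FiniteDimensional k V] [Nontrivial V]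
    (ρ : Y →* Module.End k V) (hT : ∀ s ∈ T, ∀ t ∈ T, s * t = t * s) :
    ∃ v : V, v ≠ 0 ∧ (∀ u ∈ RGD.Sup X (RGD.Pos cs h), ρ u v = v) ∧ (∀ t ∈ T, ∃ c : k, ρ t v = c • v) ∧
      ∀ i, ∃ c : k, Omega.CR.Ti n X ρ i v = c • v := by
  have hP := R.isPGroup_Upos
  obtain ⟨v1, -, hv1, hv1'⟩ := Omega.CR.exists_fixed ρ hP ⊤ (fun _ _ _ _ => Submodule.mem_top) top_ne_bot
  have hfix0 : Omega.CR.fx ρ (RGD.Sup X (RGD.Pos cs h)) ≠ ⊥ := by
    intro h0
    apply hv1
    rw [← Submodule.mem_bot k, ← h0]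
    exact hv1'
  have hTfx : ∀ t ∈ T, ∀ v ∈ Omega.CR.fx ρ (RGD.Sup X (RGD.Pos cs h)), ρ t v ∈
      Omega.CR.fx ρ (RGD.Sup X (RGD.Pos cs h)) := by
    intro t ht v hv b hb
    have h1 := (Subgroup.mem_normalizer_iff.1 (inv_mem (R.T_le_normalizer_U ht)) b).1 hb
    have h2 : b * t = t * (t⁻¹ * b * t⁻¹⁻¹) := by group
    rw [← Module.End.mul_apply, ← map_mul, h2, map_mul, Module.End.mul_apply, hv _ h1]
  obtain ⟨v0, hv0, hv00, χ, hχ⟩ := Omega.CR.exists_eigen ρ (T := T)
    (fun s hs t ht v => by rw [← Module.End.mul_apply, ← Module.End.mul_apply, ← map_mul, ← map_mul, hT s hs t ht])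
    _ hTfx hfix0
  set N : Submodule k V := Submodule.span k {v0} with hN
  have hNs : Omega.CR.Simp ρ T N := by
    refine ⟨?_, ?_, ?_⟩
    · rw [hN, Ne, Submodule.span_singleton_eq_bot]
      exact hv00
    · intro t ht v hv
      obtain ⟨c, rfl⟩ := Submodule.mem_span_singleton.1 hv
      rw [map_smul, hχ t ht]
      exact N.smul_mem _ (N.smul_mem _ (Submodule.mem_span_singleton_self v0))
    · intro L hL _
      by_cases hL0 : L = ⊥
      · exact Or.inl hL0
      · right
        refine le_antisymm hL ?_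
        obtain ⟨x, hx, hx0⟩ := (Submodule.ne_bot_iff L).1 hL0
        obtain ⟨c, rfl⟩ := Submodule.mem_span_singleton.1 (hL hx)
        have hc : c ≠ 0 := by
          rintro rfl
          exact hx0 (zero_smul _ _)
        rw [hN, Submodule.span_singleton_le_iff_mem]
        have := L.smul_mem c⁻¹ hx
        rwa [smul_smul, inv_mul_cancel₀ hc, one_smul] at this
  have hNU : N ≤ Omega.CR.fx ρ (RGD.Sup X (RGD.Pos cs h)) := by
    rw [hN, Submodule.span_singleton_le_iff_mem]
    exact hv0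
  obtain ⟨w, g, -, h1, h2, h3⟩ := Omega.CR.exists_simul R ρ hNs hNU
  set f := Omega.CR.Tk cs h X ρ w g with hf
  have hmap : N.map f = Submodule.span k {f v0} := by
    rw [hN, Submodule.map_span, Set.image_singleton]
  rw [hmap] at h1 h2 h3
  have hself := Submodule.mem_span_singleton_self (R := k) (f v0)
  refine ⟨f v0, ?_, h2 hself, ?_, ?_⟩
  · intro h0
    apply h1.ne
    rw [h0, Submodule.span_singleton_eq_bot]
  · intro t ht
    obtain ⟨c, hc⟩ := Submodule.mem_span_singleton.1 (h1.inv t ht _ hself)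
    exact ⟨c, hc.symm⟩
  · intro i
    obtain ⟨c, hc⟩ := Submodule.mem_span_singleton.1 (h3 i _ hself)
    exact ⟨c, hc.symm⟩

theorem Par.exists_wt [Finite W] [Finite Y] [Fact p.Prime] (R : RGD cs h p T n X)
    (hT : ∀ s ∈ T, ∀ t ∈ T, s * t = t * s) {F : Type*} [Field F] [Fintype F] [CharP F p] {x y : I → F → Y}
    {d : I → Fˣ → Y} (P : Par F T X x y d) {k V : Type*} [Field k] [Algebra F k] [IsAlgClosed k] [AddCommGroup V]
    [Module k V] [FiniteDimensional k V] [Nontrivial V] (ρ : Y →* Module.End k V) :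
    ∃ (v : V) (a : I → ℕ), v ≠ 0 ∧ (∀ i, a i < Fintype.card F) ∧
      (∀ u ∈ RGD.Sup X (RGD.Pos cs h), ρ u v = v) ∧ (∀ t ∈ T, ∃ c : k, ρ t v = c • v) ∧
      (∀ i s, ρ (x i s) v = v) ∧ (∀ i (b : Fˣ), ρ (d i b) v = algebraMap F k (b : F) ^ a i • v) ∧
      ∀ i, ρ (x i (-1) * y i 1) v =
        - ∑ t : F, algebraMap F k t ^ (Fintype.card F - 1 - a i) • ρ (y i t) v := by
  classical
  have hcp : CharP k p := charP_of_injective_algebraMap (algebraMap F k).injective p
  obtain ⟨v, hv, hfix, hTv, hTi⟩ := exists_vec R ρ hT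
  have hfix' : ∀ i (s : F), ρ (x i s) v = v := fun i s =>
    Omega.CR.X_fix R ρ hfix i ((P.mem_pos i _).2 ⟨s, rfl⟩)
  have hT' : ∀ i b, ∃ c : k, ρ (d i b) v = c • v := fun i b => hTv _ (P.d_mem i b)
  have hθ : ∀ i, ∃ θ : k, ∑ s, ρ (x i s) (ρ (y i 1) v) = θ • v := by
    intro i
    have hsum : ∀ w : V, ∑ s, ρ (x i s) w = Omega.CR.sg ρ (X (sr i)) w := by
      intro w
      let _ := Fintype.ofFinite (X (sr i))
      rw [Omega.CR.sg_def]
      refine Fintype.sum_bijective (fun s : F => (⟨x i s, (P.mem_pos i _).2 ⟨s, rfl⟩⟩ : X (sr i)))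
        ⟨?_, ?_⟩ _ _ fun s => rfl
      · intro s t h
        exact P.x_inj i (congrArg Subtype.val h)
      · rintro ⟨g, hg⟩
        obtain ⟨s, hs⟩ := (P.mem_pos i g).1 hg
        exact ⟨s, Subtype.ext hs.symm⟩
    obtain ⟨a, ha, t, ht, b, hb, e⟩ := R.rk1 i (y i 1) ((P.mem_neg i _).2 ⟨1, rfl⟩) (P.y_ne i)
    obtain ⟨c, hc⟩ := hTi i
    obtain ⟨d, hd⟩ := hTv t ht
    refine ⟨c * d, ?_⟩
    rw [hsum, e, map_mul, map_mul, map_mul, Module.End.mul_apply, Module.End.mul_apply, Module.End.mul_apply,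
      Omega.CR.X_fix R ρ hfix i hb, Omega.CR.sg_rho_of_mem ρ _ ha]
    have h3 : ∀ w, Omega.CR.sg ρ (X (sr i)) (ρ t w) = ρ t (Omega.CR.sg ρ (X (sr i)) w) := by
      intro w
      rw [Omega.CR.rho_sg ρ _ t w]
      congr 2
      exact (R.tor _ (isRoot_sr cs h i) t ht).symm
    rw [h3]
    rw [Omega.CR.Ti_apply] at hc
    rw [hc, map_smul, hd, smul_smul]
  have key := fun i => rank_one ρ (x i) (y i) (d i) (P.x_add i) (P.y_add i) (P.d_mul i) (P.rk i) (P.braid i) hv
    (hfix' i) (hT' i) (hθ i)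
  choose a ha ha1 ha2 using key
  exact ⟨v, a, hv, ha, hfix, hTv, hfix', ha1, ha2⟩

end wt

/-! ### generation under `U⁻` -/

section neg

/-- `U⁻ = V_i⁻ X (-α_i)` -/
theorem mem_UN_iff (R : RGD cs h p T n X) (i : I) {g : Y} :
    g ∈ UN cs h X ↔ ∃ v ∈ VNJ cs h X {i}, ∃ y ∈ X (-sr i), g = v * y := by
  have hi : -sr i ∈ RootsJ cs h {i} := RootsJ.neg (PosJ_subset _ (sr_mem_PosJ (Set.mem_singleton i)))
  constructor
  · intro hg
    have h2 : UN cs h X ≤ X (-sr i) ⊔ VNJ cs h X {i} := by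
      refine RGD.Sup_le fun x hx => ?_
      rcases mem_PosJ_or_NotJ {i} hx.1.neg (neg_nonneg.2 hx.2) with h1 | h1
      · have h3 : -x = sr i := h1.1.eq_sr h1.2.1 i fun k hk => h1.2.2 k hk
        have h4 : x = -sr i := by rw [← h3, neg_neg]
        rw [h4]
        exact le_sup_left
      · exact le_trans (RGD.le_Sup (S := NotNJ cs h {i}) h1) le_sup_right
    have h1 : g ∈ ((VNJ cs h X {i} ⊔ X (-sr i) : Subgroup Y) : Set Y) := by
      rw [sup_comm]; exact h2 hg
    rw [Subgroup.coe_mul_of_right_le_normalizer_left _ _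
      (le_trans (X_le_LJ hi) (LJ_le_normalizer_VNJ R {i})), Set.mem_mul] at h1
    obtain ⟨v, hv, y, hy, e⟩ := h1
    exact ⟨v, hv, y, hy, e.symm⟩
  · rintro ⟨v, hv, y, hy, rfl⟩
    exact mul_mem (VNJ_le_UN _ hv) (X_le_UN (isRoot_sr cs h i).neg (neg_nonpos.2 (sr_nonneg i)) hy)

theorem isPGroup_UN [Finite W] (R : RGD cs h p T n X) : IsPGroup p ↥(UN cs h X) := by
  obtain ⟨k, hk⟩ := exists_rp cs R.nsys (w0 cs)
  rw [← cj_U R hk]
  exact R.isPGroup_Upos.map _

/-- the subgroup of elements which stabilise a subspace in both directions -/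
def stab {k V : Type*} [Field k] [AddCommGroup V] [Module k V] (ρ : Y →* Module.End k V) (N : Submodule k V) :
    Subgroup Y where
  carrier := {g | (∀ v ∈ N, ρ g v ∈ N) ∧ ∀ v ∈ N, ρ g⁻¹ v ∈ N}
  one_mem' := ⟨fun v hv => by rw [map_one]; exact hv, fun v hv => by rw [inv_one, map_one]; exact hv⟩
  mul_mem' := by
    rintro a b ⟨ha, ha'⟩ ⟨hb, hb'⟩
    refine ⟨fun v hv => ?_, fun v hv => ?_⟩
    · rw [map_mul, Module.End.mul_apply]; exact ha _ (hb _ hv)
    · rw [mul_inv_rev, map_mul, Module.End.mul_apply]; exact hb' _ (ha' _ hv)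
  inv_mem' := by
    rintro a ⟨ha, ha'⟩
    exact ⟨ha', by rw [inv_inv]; exact ha⟩

theorem Par.neg (R : RGD cs h p T n X) (hgen : (⨆ j, (X (sr j) ⊔ X (-sr j))) = ⊤) {F : Type*} [Field F]
    {x y : I → F → Y} {d : I → Fˣ → Y} (P : Par F T X x y d) {k V : Type*} [Field k] [AddCommGroup V]
    [Module k V] (ρ : Y →* Module.End k V) {w : V} (hx : ∀ i s, ρ (x i s) w = w)
    (ht : ∀ i b, ∃ c : k, ρ (d i b) w = c • w)
    (hn : ∀ i, ρ (x i (-1) * y i 1) w ∈ Submodule.span k (Set.range fun t : F => ρ (y i t) w)) (g : Y) :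
    ρ g w ∈ Submodule.span k {v | ∃ u ∈ UN cs h X, v = ρ u w} := by
  set N : Submodule k V := Submodule.span k {v | ∃ u ∈ UN cs h X, v = ρ u w} with hN
  have hmem : ∀ u ∈ UN cs h X, ρ u w ∈ N := fun u hu => Submodule.subset_span ⟨u, hu, rfl⟩
  have hstab : ∀ g : Y, (∀ u ∈ UN cs h X, ρ (g * u) w ∈ N) → ∀ v ∈ N, ρ g v ∈ N := by
    intro g hg v hv
    have h1 : N ≤ N.comap (ρ g) := by
      rw [hN, Submodule.span_le]
      rintro _ ⟨u, hu, rfl⟩
      change ρ g (ρ u w) ∈ N
      rw [← Module.End.mul_apply, ← map_mul]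
      exact hg u hu
    exact h1 hv
  -- the rank one module
  have hone : ∀ (i : I) (s t : F), ρ (x i s * y i t) w ∈ Submodule.span k (Set.range fun t : F => ρ (y i t) w) := by
    intro i
    have hgood : ∀ s t : F, 1 + s * t ≠ 0 → ∃ a : k, ρ (x i s * y i t) w = a • ρ (y i (t / (1 + s * t))) w := by
      intro s t hc
      obtain ⟨a, ha⟩ := ht i (Units.mk0 _ hc)
      refine ⟨a, ?_⟩
      rw [P.rk i s t (Units.mk0 _ hc) rfl, map_mul, map_mul, Module.End.mul_apply, Module.End.mul_apply, hx, ha,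
        map_smul]
      rfl
    intro s t
    by_cases hc : 1 + s * t = 0
    · have ht0 : t ≠ 0 := by
        rintro rfl
        simp at hc
      have hs : s = -1 + (1 - t⁻¹) := by
        have h3 : s = -t⁻¹ := by
          field_simp
          linear_combination hc
        rw [h3]
        ring
      have hc' : 1 + (1 - t⁻¹) * t ≠ 0 := by
        have : 1 + (1 - t⁻¹) * t = t := by
          field_simp
          ring
        rw [this]
        exact ht0
      obtain ⟨a, ha⟩ := hgood (1 - t⁻¹) t hc'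
      have h4 : t / (1 + (1 - t⁻¹) * t) = 1 := by
        have : 1 + (1 - t⁻¹) * t = t := by
          field_simp
          ring
        rw [this, div_self ht0]
      rw [h4] at ha
      have h5 : ρ (x i s * y i t) w = a • ρ (x i (-1) * y i 1) w := by
        have h6 : x i s * y i t = x i (-1) * (x i (1 - t⁻¹) * y i t) := by
          rw [← mul_assoc, ← P.x_add, ← hs]
        rw [h6, map_mul, Module.End.mul_apply, ha, map_smul, map_mul, Module.End.mul_apply]
      rw [h5]
      exact Submodule.smul_mem _ _ (hn i)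
    · obtain ⟨a, ha⟩ := hgood s t hc
      rw [ha]
      exact Submodule.smul_mem _ _ (Submodule.subset_span ⟨_, rfl⟩)
  -- stability under the negative root groups
  have hyst : ∀ u ∈ UN cs h X, ∀ v ∈ N, ρ u v ∈ N := fun u hu => hstab _ fun u' hu' => hmem _ (mul_mem hu hu')
  -- stability under the simple root groups
  have hxst : ∀ i, ∀ g ∈ X (sr i), ∀ v ∈ N, ρ g v ∈ N := by
    intro i g hg
    have hi : sr i ∈ RootsJ cs h {i} := PosJ_subset _ (sr_mem_PosJ (Set.mem_singleton i))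
    refine hstab _ fun u hu => ?_
    obtain ⟨v, hv, y', hy', rfl⟩ := (mem_UN_iff R i).1 hu
    obtain ⟨s, rfl⟩ := (P.mem_pos i g).1 hg
    obtain ⟨t, rfl⟩ := (P.mem_neg i y').1 hy'
    have h4 : x i s * v * (x i s)⁻¹ ∈ UN cs h X := by
      refine VNJ_le_UN {i} ?_
      exact (Subgroup.mem_normalizer_iff.1 (LJ_le_normalizer_VNJ R {i} (X_le_LJ hi hg)) v).1 hv
    have h5 : x i s * (v * y i t) = (x i s * v * (x i s)⁻¹) * (x i s * y i t) := by group
    rw [h5, map_mul, Module.End.mul_apply]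
    have h6 : Submodule.span k (Set.range fun t : F => ρ (y i t) w) ≤ N.comap (ρ (x i s * v * (x i s)⁻¹)) := by
      rw [Submodule.span_le]
      rintro _ ⟨t, rfl⟩
      change ρ _ (ρ _ w) ∈ N
      rw [← Module.End.mul_apply, ← map_mul]
      exact hmem _ (mul_mem h4 (X_le_UN (isRoot_sr cs h i).neg (neg_nonpos.2 (sr_nonneg i))
        ((P.mem_neg i _).2 ⟨t, rfl⟩)))
    exact h6 (hone i s t)
  -- the end
  have h1 : (⊤ : Subgroup Y) ≤ stab ρ N := by
    rw [← hgen]
    refine iSup_le fun j => sup_le (fun g hg => ?_) fun g hg => ?_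
    · exact ⟨hxst j g hg, hxst j g⁻¹ (inv_mem hg)⟩
    · have h2 : X (-sr j) ≤ UN cs h X := fun g hg => X_le_UN (isRoot_sr cs h j).neg (neg_nonpos.2 (sr_nonneg j)) hg
      exact ⟨hyst g (h2 hg), hyst g⁻¹ (inv_mem (h2 hg))⟩
  have h2 : ρ 1 w ∈ N := hmem 1 (one_mem _)
  rw [map_one] at h2
  exact (h1 (Subgroup.mem_top g)).1 w h2

end neg

end Cfsg.Agent.H925.CR
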