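import Cfsg.Agent.H883.Root
import Cfsg.Agent.H883.Sub

/-!
# Overgroups of `Ω(V, QK)` in `Ω(V, τ ∘ QK)`, I: the setting

`V` is a vector space over a finite extension `K` of `F`, `QK` a quadratic form over `K`,
`Q = τ ∘ QK` for a nonzero `F`-linear `τ : K → F`.

* `IsPt H X` : the group `H` contains elements fixing the totally singular `F`-subspace `X` pointwise and
  inducing on `Z^⊥ / Z`, for every hyperplane `Z` of `X`, all Siegel transformations attached to `X / Z`;
* `isPt_line` : the `K`-lines spanned by `QK`-singular vectors have that property;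
* `IsPt.map` : transport.
-/

set_option autoImplicit false
set_option linter.unusedSectionVars false

namespace Cfsg.Agent.H925.Ext

open QuadraticMap Cfsg.Agent.LieClassical.OrthCore Cfsg.Agent.LieClassical.OrthTrans
  Cfsg.Agent.H883.Root Cfsg.Agent.H883.Sub

variable {F K V : Type*} [Field F] [Field K] [Algebra F K] [AddCommGroup V]
  [Module F V] [Module K V] [IsScalarTower F K V]

/-- The setting: `Q = τ ∘ QK`. -/
structure Tr (τ : K →ₗ[F] F) (QK : QuadraticForm K V) (Q : QuadraticForm F V) : Prop where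
  ne : τ ≠ 0
  eq : ∀ v, Q v = τ (QK v)

variable {τ : K →ₗ[F] F} {QK : QuadraticForm K V} {Q : QuadraticForm F V}

theorem Tr.pol (h : Tr τ QK Q) (x y : V) : polar Q x y = τ (polar QK x y) := by
  simp only [QuadraticMap.polar, h.eq, map_sub]

theorem tau_ext (hτ : τ ≠ 0) {a : K} (h : ∀ k, τ (k * a) = 0) : a = 0 := by
  by_contra ha
  apply hτ
  ext k
  have := h (k * a⁻¹)
  rw [mul_assoc, inv_mul_cancel₀ ha, mul_one] at this
  rw [this, LinearMap.zero_apply]

theorem tau_ext' (hτ : τ ≠ 0) {a b : K} (h : ∀ k, τ (k * a) = τ (k * b)) : a = b := by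
  rw [← sub_eq_zero]
  apply tau_ext hτ
  intro k
  rw [mul_sub, map_sub, h, sub_self]

theorem tau_smul_mul (c : F) (a b : K) : τ (a * c • b) = c * τ (a * b) := by
  rw [mul_smul_comm, map_smul, smul_eq_mul]

/-- Every functional on `K` is of the form `τ (· δ)`. -/
theorem exists_delta [FiniteDimensional F K] (hτ : τ ≠ 0) (f : K →ₗ[F] F) :
    ∃ δ : K, ∀ k, f k = τ (k * δ) := by
  let Φ : K →ₗ[F] (K →ₗ[F] F) :=
    { toFun := fun δ => τ ∘ₗ (LinearMap.mulRight F δ)
      map_add' := fun a b => by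
        ext k
        simp [mul_add]
      map_smul' := fun c a => by
        ext k
        simp }
  have hinj : Function.Injective Φ := by
    rw [← LinearMap.ker_eq_bot, LinearMap.ker_eq_bot']
    intro a ha
    apply tau_ext hτ
    intro k
    exact congrArg (fun g : K →ₗ[F] F => g k) ha
  have hdim : Module.finrank F K = Module.finrank F (K →ₗ[F] F) :=
    (Subspace.dual_finrank_eq (K := F) (V := K)).symm
  have : FiniteDimensional F (K →ₗ[F] F) := inferInstanceAs (FiniteDimensional F (Module.Dual F K))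
  have hsurj : Function.Surjective Φ :=
    (LinearMap.injective_iff_surjective_of_finrank_eq_finrank hdim).1 hinj
  obtain ⟨δ, hδ⟩ := hsurj f
  exact ⟨δ, fun k => by rw [← hδ]; rfl⟩

theorem exists_tau_eq (hτ : τ ≠ 0) (c : F) : ∃ k, τ k = c := by
  obtain ⟨k, hk⟩ : ∃ k, τ k ≠ 0 := by
    by_contra hc
    push Not at hc
    exact hτ (LinearMap.ext hc)
  exact ⟨(c / τ k) • k, by rw [map_smul, smul_eq_mul, div_mul_cancel₀ _ hk]⟩

/-- Orthogonality to a `K`-line, over `F` and over `K`. -/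
theorem Tr.perp_line (h : Tr τ QK Q) {v x : V} (hx : ∀ k : K, polar Q (k • v) x = 0) :
    QuadraticMap.polar QK v x = 0 := by
  apply tau_ext h.ne
  intro k
  have := hx k
  rw [h.pol, polar_smul_left, smul_eq_mul] at this
  exact this

/-- The group of `K`-linear automorphisms inside the group of `F`-linear ones. -/
def rs : (V ≃ₗ[K] V) →* (V ≃ₗ[F] V) where
  toFun g := g.restrictScalars F
  map_one' := rfl
  map_mul' _ _ := rfl

@[simp] theorem rs_apply (g : V ≃ₗ[K] V) (x : V) : (rs g : V ≃ₗ[F] V) x = g x := rfl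

theorem Tr.nondeg (h : Tr τ QK Q) (hQ : Nondeg QK) : Nondeg Q := by
  intro x hx
  apply hQ
  intro y
  apply tau_ext h.ne
  intro k
  have := hx (k • y)
  rw [h.pol, polar_smul_right, smul_eq_mul] at this
  exact this

/-- `H` contains, for each hyperplane `Z` of `X`, elements fixing `X` pointwise and acting on `Z^⊥ / Z` as
the Siegel transformations attached to `X / Z`. -/
def IsPt (Q : QuadraticForm F V) (H : Subgroup (V ≃ₗ[F] V)) (X : Submodule F V) : Prop :=
  ∀ (Z : Submodule F V) (a w : V), Z ≤ X → a ∈ X → a ∉ Z → (∀ x ∈ X, ∃ c : F, x - c • a ∈ Z) →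
    (∀ x ∈ X, polar Q x w = 0) →
      ∃ h ∈ H, (∀ x ∈ X, h x = x) ∧
        ∀ x, (∀ z ∈ Z, polar Q z x = 0) → h x - siegelLin Q a w x ∈ Z

/-- The `K`-line spanned by `v` as a subspace over `F`. -/
def line (F K : Type*) {V : Type*} [Field F] [Field K] [Algebra F K] [AddCommGroup V]
    [Module F V] [Module K V] [IsScalarTower F K V] (v : V) : Submodule F V :=
  (Submodule.span K {v}).restrictScalars F

theorem mem_line {v x : V} : x ∈ line F K v ↔ ∃ k : K, k • v = x := by
  rw [line, Submodule.restrictScalars_mem, Submodule.mem_span_singleton]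

theorem smul_mem_line (k : K) (v : V) : k • v ∈ line F K v := mem_line.2 ⟨k, rfl⟩

theorem self_mem_line (v : V) : v ∈ line F K v := mem_line.2 ⟨1, one_smul K v⟩

variable {H : Subgroup (V ≃ₗ[F] V)}

/-- The functional attached to a hyperplane `Z` of a `K`-line and a vector `a` outside. -/
theorem exists_delta_line [FiniteDimensional F K] (hτ : τ ≠ 0) {v : V} {Z : Submodule F V} {a : V}
    (haX : a ∈ line F K v) (haZ : a ∉ Z) (hX : ∀ x ∈ line F K v, ∃ c : F, x - c • a ∈ Z) :
    ∃ δ : K, δ ≠ 0 ∧ ∀ k : K, k • v - τ (k * δ) • a ∈ Z := by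
  obtain ⟨s₁, rfl⟩ := mem_line.1 haX
  -- the functional with kernel `Z`
  have hsp : ∀ k : K, ∃! c : F, (k • v - c • s₁ • v) ∈ Z := by
    intro k
    obtain ⟨c, hc⟩ := hX _ (smul_mem_line k v)
    refine ⟨c, hc, fun c' hc' => ?_⟩
    by_contra hne
    apply haZ
    have h1 : (c' - c) • (s₁ • v) ∈ Z := by
      have := Z.sub_mem hc hc'
      rwa [sub_sub_sub_cancel_left, ← sub_smul] at this
    have h2 : c' - c ≠ 0 := sub_ne_zero.2 hne
    have := Z.smul_mem (c' - c)⁻¹ h1
    rwa [smul_smul, inv_mul_cancel₀ h2, one_smul] at this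
  choose f hf hf' using hsp
  let fl : K →ₗ[F] F :=
    { toFun := f
      map_add' := fun x y => by
        refine (hf' (x + y) (f x + f y) ?_).symm
        have e : (x + y) • v - (f x + f y) • s₁ • v =
            (x • v - f x • s₁ • v) + (y • v - f y • s₁ • v) := by module
        show (x + y) • v - (f x + f y) • s₁ • v ∈ Z
        rw [e]
        exact Z.add_mem (hf x) (hf y)
      map_smul' := fun c x => by
        refine (hf' (c • x) (c * f x) ?_).symm
        have e : (c • x) • v - (c * f x) • s₁ • v = c • (x • v - f x • s₁ • v) := by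
          rw [smul_sub, smul_assoc, mul_smul]
        show (c • x) • v - (c * f x) • s₁ • v ∈ Z
        rw [e]
        exact Z.smul_mem _ (hf x) }
  obtain ⟨δ, hδ⟩ := exists_delta hτ fl
  have hδ' : ∀ k : K, k • v - τ (k * δ) • s₁ • v ∈ Z := by
    intro k
    rw [← hδ k]
    exact hf k
  refine ⟨δ, ?_, hδ'⟩
  rintro rfl
  apply haZ
  have := hδ' s₁
  rwa [mul_zero, map_zero, zero_smul, sub_zero] at this

theorem tau_delta {v : V} {Z : Submodule F V} {s₁ : K} (haZ : s₁ • v ∉ Z) {δ : K}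
    (hδ : ∀ k : K, k • v - τ (k * δ) • s₁ • v ∈ Z) : τ (s₁ * δ) = 1 := by
  by_contra hne
  apply haZ
  have h1 := hδ s₁
  have h2 : s₁ • v - τ (s₁ * δ) • s₁ • v = (1 - τ (s₁ * δ)) • s₁ • v := by module
  rw [h2] at h1
  have h3 : 1 - τ (s₁ * δ) ≠ 0 := sub_ne_zero.2 (Ne.symm hne)
  have := Z.smul_mem (1 - τ (s₁ * δ))⁻¹ h1
  rwa [smul_smul, inv_mul_cancel₀ h3, one_smul] at this

/-- The Siegel transformations over `K` attached to `v`, on `Z^⊥ / Z`. -/
theorem siegel_line (h : Tr τ QK Q) {v : V} (hv : QK v = 0) {Z : Submodule F V} {a : V}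
    (haX : a ∈ line F K v) {δ : K} (hδ0 : δ ≠ 0)
    (hδ' : ∀ k : K, k • v - τ (k * δ) • a ∈ Z) {w : V} (hvw' : polar QK v (δ⁻¹ • w) = 0)
    {x : V} (hx : ∀ z ∈ Z, polar Q z x = 0) :
    siegel QK v (δ⁻¹ • w) hv hvw' x - siegelLin Q a w x ∈ Z := by
  obtain ⟨s₁, rfl⟩ := mem_line.1 haX
  -- `polar QK v x` is a multiple of `δ`
  have hc : polar QK v x = (polar Q (s₁ • v) x) • δ := by
    apply tau_ext' h.ne
    intro k
    rw [tau_smul_mul]
    have h1 : polar Q (k • v - τ (k * δ) • s₁ • v) x = 0 := hx _ (hδ' k)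
    rw [polar_sub_left, polar_smul_left, smul_eq_mul, sub_eq_zero, h.pol, polar_smul_left,
      smul_eq_mul] at h1
    rw [h1, mul_comm]
  set c := polar Q (s₁ • v) x with hcdef
  rw [siegel_apply, siegelLin_apply, hc, polar_smul_left, QuadraticMap.map_smul,
    h.pol w x, h.eq w, ← hcdef]
  have e1 : (c • δ) • δ⁻¹ • w = c • w := by
    rw [smul_smul, smul_mul_assoc, mul_inv_cancel₀ hδ0, smul_assoc, one_smul]
  rw [e1]
  have key1 := hδ' (δ⁻¹ * polar QK w x)
  have key2 := hδ' (δ⁻¹ * QK w)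
  have e3 : τ (δ⁻¹ * polar QK w x * δ) = τ (polar QK w x) := by
    congr 1
    field_simp
  have e4 : τ (δ⁻¹ * QK w * δ) = τ (QK w) := by
    congr 1
    field_simp
  rw [e3] at key1
  rw [e4] at key2
  have e5 : (((δ⁻¹ * δ⁻¹) • QK w) * c • δ) • v = c • (δ⁻¹ * QK w) • v := by
    rw [← smul_assoc]
    congr 1
    rw [smul_eq_mul, Algebra.smul_def, Algebra.smul_def]
    field_simp
  rw [e5]
  have e6 : x + c • w - (δ⁻¹ • polar QK w x) • v - c • (δ⁻¹ * QK w) • v -
      (x + c • w - τ (polar QK w x) • s₁ • v - (τ (QK w) * c) • s₁ • v) =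
      -((δ⁻¹ * polar QK w x) • v - τ (polar QK w x) • s₁ • v) -
        c • ((δ⁻¹ * QK w) • v - τ (QK w) • s₁ • v) := by
    rw [smul_eq_mul]
    module
  rw [e6]
  exact Z.sub_mem (Z.neg_mem key1) (Z.smul_mem _ key2)

theorem siegel_fix_line {v w x : V} (hv : QK v = 0) (hvw : polar QK v w = 0)
    (hx : x ∈ line F K v) : siegel QK v w hv hvw x = x := by
  obtain ⟨k, rfl⟩ := mem_line.1 hx
  rw [siegel_apply, polar_smul_right, polar_smul_right, polar_self_of_sing hv,
    polar_comm QK _ v, hvw]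
  simp

theorem isPt_line [FiniteDimensional F K] (h : Tr τ QK Q)
    (hE : ∀ g ∈ E QK, (rs g : V ≃ₗ[F] V) ∈ H) {v : V} (hv : QK v = 0) :
    IsPt Q H (line F K v) := by
  intro Z a w hZX haX haZ hX hw
  obtain ⟨δ, hδ0, hδ⟩ := exists_delta_line h.ne haX haZ hX
  have hvw : polar QK v w = 0 := h.perp_line fun k => hw _ (smul_mem_line k v)
  have hvw' : polar QK v (δ⁻¹ • w) = 0 := by rw [polar_smul_right, hvw, smul_zero]
  exact ⟨rs (siegel QK v (δ⁻¹ • w) hv hvw'), hE _ (siegel_mem_E _ _),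
    fun x hx => siegel_fix_line hv hvw' hx, fun x hx => siegel_line h hv haX hδ0 hδ hvw' hx⟩

theorem siegelLin_map {g : V ≃ₗ[F] V} (hg : g ∈ O Q) (u w v : V) :
    siegelLin Q (g u) (g w) (g v) = g (siegelLin Q u w v) := by
  rw [siegelLin_apply, siegelLin_apply, polar_map hg, polar_map hg, hg w]
  simp only [map_sub, map_add, map_smul]

theorem IsPt.map {X : Submodule F V} (hX : IsPt Q H X) {g : V ≃ₗ[F] V} (hgO : g ∈ O Q)
    (hg : g ∈ H) : IsPt Q H (X.map (g : V →ₗ[F] V)) := by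
  intro Z a w hZX haX haZ hsp hw
  obtain ⟨a', ha', rfl⟩ := haX
  have hg1 : ∀ x, g (g⁻¹ x) = x := fun x => LinearEquiv.apply_symm_apply g x
  have hg2 : ∀ x, g⁻¹ (g x) = x := fun x => LinearEquiv.symm_apply_apply g x
  obtain ⟨h, hhH, hh1, hh2⟩ := hX (Z.comap (g : V →ₗ[F] V)) a' (g⁻¹ w)
    (by
      intro z hz
      obtain ⟨x, hx, e⟩ := hZX (show g z ∈ Z from hz)
      have : x = z := g.injective e
      rwa [← this])
    ha' haZ
    (by
      intro x hx
      obtain ⟨c, hc⟩ := hsp (g x) ⟨x, hx, rfl⟩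
      refine ⟨c, ?_⟩
      show g (x - c • a') ∈ Z
      rw [map_sub, map_smul]
      exact hc)
    (by
      intro x hx
      rw [← polar_map hgO, hg1]
      exact hw _ ⟨x, hx, rfl⟩)
  refine ⟨g * h * g⁻¹, H.mul_mem (H.mul_mem hg hhH) (H.inv_mem hg), ?_, ?_⟩
  · rintro _ ⟨x, hx, rfl⟩
    show g (h (g⁻¹ (g x))) = g x
    rw [hg2, hh1 x hx]
  · intro x hx
    have h1 := hh2 (g⁻¹ x) (by
      intro z hz
      rw [← polar_map hgO, hg1]
      exact hx _ hz)
    have h2 : g (h (g⁻¹ x) - siegelLin Q a' (g⁻¹ w) (g⁻¹ x)) ∈ Z := h1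
    rw [map_sub, ← siegelLin_map hgO, hg1, hg1] at h2
    exact h2

end Cfsg.Agent.H925.Ext
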