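import Cfsg.Agent.H925.ExtBase

/-!
# Overgroups of `Ω(V, QK)` in `Ω(V, τ ∘ QK)`, II: two adjacent points

From two totally singular subspaces `X`, `Y` with the property `IsPt`, meeting in a common hyperplane `Z` and
not orthogonal, `H` induces (at least) `E (Z^⊥ / Z)` on `Z^⊥ / Z`.
-/

set_option autoImplicit false
set_option linter.unusedSectionVars false

namespace Cfsg.Agent.H925.Ext

open QuadraticMap Cfsg.Agent.LieClassical.OrthCore Cfsg.Agent.LieClassical.OrthTrans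
  Cfsg.Agent.H883.Root Cfsg.Agent.H883.Sub

variable {F V : Type*} [Field F] [AddCommGroup V] [Module F V] {Q : QuadraticForm F V}
  {H : Subgroup (V ≃ₗ[F] V)}

/-- The automorphisms of `N` induced modulo `Z` by the elements of `H` fixing `Z` pointwise. -/
def HN (H : Subgroup (V ≃ₗ[F] V)) (Z N : Submodule F V) : Subgroup (N ≃ₗ[F] N) where
  carrier := {g | ∃ h ∈ H, (∀ z ∈ Z, h z = z) ∧ ∀ x : N, h (x : V) - (g x : V) ∈ Z}
  mul_mem' := by
    rintro g₁ g₂ ⟨h₁, hh₁, h1, h2⟩ ⟨h₂, hh₂, h3, h4⟩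
    refine ⟨h₁ * h₂, H.mul_mem hh₁ hh₂, fun z hz => ?_, fun x => ?_⟩
    · show h₁ (h₂ z) = z
      rw [h3 z hz, h1 z hz]
    · show h₁ (h₂ x) - (g₁ (g₂ x) : V) ∈ Z
      have e : h₁ (h₂ x) - (g₁ (g₂ x) : V) =
          h₁ (h₂ x - (g₂ x : V)) + (h₁ (g₂ x : V) - (g₁ (g₂ x) : V)) := by
        rw [map_sub]; abel
      rw [e, h1 _ (h4 x)]
      exact Z.add_mem (h4 x) (h2 _)
  one_mem' := ⟨1, H.one_mem, fun z _ => rfl, fun x => by
    show (x : V) - (x : V) ∈ Z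
    rw [sub_self]
    exact Z.zero_mem⟩
  inv_mem' := by
    rintro g ⟨h, hh, h1, h2⟩
    have h3 : ∀ z ∈ Z, h⁻¹ z = z := fun z hz => by
      show h.symm z = z
      rw [LinearEquiv.symm_apply_eq, h1 z hz]
    refine ⟨h⁻¹, H.inv_mem hh, h3, fun x => ?_⟩
    have h4 := h2 (g⁻¹ x)
    have h5 : g (g⁻¹ x) = x := LinearEquiv.apply_symm_apply g x
    rw [h5] at h4
    have h6 := h3 _ h4
    rw [map_sub] at h6
    have h7 : h⁻¹ (h (g⁻¹ x : N)) = ((g⁻¹ x : N) : V) := LinearEquiv.symm_apply_apply h _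
    rw [h7] at h6
    have h8 : h⁻¹ (x : V) - ((g⁻¹ x : N) : V) = -(h ((g⁻¹ x : N) : V) - (x : V)) := by
      rw [← h6]; abel
    rw [h8]
    exact Z.neg_mem h4

theorem mem_HN {Z N : Submodule F V} {g : N ≃ₗ[F] N} : g ∈ HN H Z N ↔
    ∃ h ∈ H, (∀ z ∈ Z, h z = z) ∧ ∀ x : N, h (x : V) - (g x : V) ∈ Z := Iff.rfl

theorem full_HN {X Z N : Submodule F V} (hX : IsPt Q H X) (hZX : Z ≤ X)
    (hZN : ∀ z ∈ Z, ∀ x ∈ N, polar Q z x = 0) {a : V} (ha : a ∈ X) (haN : a ∈ N) (haZ : a ∉ Z)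
    (hsp : ∀ x ∈ X, ∃ c : F, x - c • a ∈ Z) (hQa : Q a = 0) :
    Full (res Q N) (HN H Z N) ⟨a, haN⟩ := by
  have hQa' : res Q N ⟨a, haN⟩ = 0 := hQa
  refine ⟨hQa', fun w hw => ⟨hQa', hw, ?_⟩⟩
  have hw' : polar Q a (w : V) = 0 := hw
  obtain ⟨h, hh, h1, h2⟩ := hX Z a (w : V) hZX ha haZ hsp (by
    intro x hx
    obtain ⟨c, hc⟩ := hsp x hx
    have e : x = (x - c • a) + c • a := by abel
    rw [e, polar_add_left, hZN _ hc _ w.2, polar_smul_left, hw', smul_zero, add_zero])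
  refine ⟨h, hh, fun z hz => h1 z (hZX hz), fun x => ?_⟩
  have h3 := h2 (x : V) (fun z hz => hZN z hz _ x.2)
  have e : ((siegel (res Q N) (⟨a, haN⟩ : N) w hQa' hw x : N) : V) =
      siegelLin Q a (w : V) (x : V) := by
    rw [siegel_apply, siegelLin_apply]
    rfl
  rw [e]
  exact h3

/-- The data of a totally singular subspace `Z`, a complement `N` of `Z` in `Z^⊥`, such that `H` induces all
the elements of `E (res Q N)` modulo `Z`. -/
structure Conf (Q : QuadraticForm F V) (H : Subgroup (V ≃ₗ[F] V)) (Z N : Submodule F V) : Prop where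
  hHO : H ≤ O Q
  sing : ∀ z ∈ Z, Q z = 0
  zn : ∀ z ∈ Z, ∀ x ∈ N, polar Q z x = 0
  dec : ∀ x, (∀ z ∈ Z, polar Q z x = 0) → ∃ z ∈ Z, ∃ n ∈ N, x = z + n
  perp : ∀ x, (∀ y, (∀ z ∈ Z, polar Q z y = 0) → polar Q y x = 0) → x ∈ Z
  good : Good (res Q N)
  lift : E (res Q N) ≤ HN H Z N

theorem polar_zero_of_ts {Z : Submodule F V} (h : ∀ z ∈ Z, Q z = 0) {z z' : V} (hz : z ∈ Z)
    (hz' : z' ∈ Z) : polar Q z z' = 0 := by
  rw [QuadraticMap.polar, h _ (Z.add_mem hz hz'), h _ hz, h _ hz']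
  simp

/-- A complement of `Z` in `Z^⊥` containing two given vectors. -/
theorem exists_compl [FiniteDimensional F V] (hQ : Nondeg Q) {Z : Submodule F V}
    (hZ : ∀ z ∈ Z, Q z = 0) {a b : V} (ha : ∀ z ∈ Z, polar Q z a = 0)
    (hb : ∀ z ∈ Z, polar Q z b = 0) (hQa : Q a = 0) (hQb : Q b = 0) (hab : polar Q a b ≠ 0) :
    ∃ N : Submodule F V, a ∈ N ∧ b ∈ N ∧ (∀ z ∈ Z, ∀ x ∈ N, polar Q z x = 0) ∧
      (∀ x, (∀ z ∈ Z, polar Q z x = 0) → ∃ z ∈ Z, ∃ n ∈ N, x = z + n) ∧ NondegOn Q N ∧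
      Module.finrank F N + 2 * Module.finrank F Z = Module.finrank F V := by
  have hdisj : Disjoint (Submodule.span F {a, b}) Z := by
    rw [Submodule.disjoint_def]
    intro x hx hxZ
    obtain ⟨c, d, rfl⟩ := Submodule.mem_span_pair.1 hx
    have h1 : polar Q (c • a + d • b) a = 0 := ha _ hxZ
    have h2 : polar Q (c • a + d • b) b = 0 := hb _ hxZ
    rw [polar_add_left, polar_smul_left, polar_smul_left, polar_self_of_sing hQa,
      polar_comm Q b a] at h1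
    rw [polar_add_left, polar_smul_left, polar_smul_left, polar_self_of_sing hQb] at h2
    have hd : d = 0 := by
      rw [smul_zero, zero_add, smul_eq_mul] at h1
      exact (mul_eq_zero.1 h1).resolve_right hab
    have hc : c = 0 := by
      rw [smul_zero, add_zero, smul_eq_mul] at h2
      exact (mul_eq_zero.1 h2).resolve_right hab
    rw [hc, hd, zero_smul, zero_smul, add_zero]
  obtain ⟨N', hN', hcompl⟩ := hdisj.exists_isCompl
  have hZP : Z ≤ perp Q Z := by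
    intro z hz
    exact mem_perp.2 fun z' hz' => polar_zero_of_ts hZ hz' hz
  have hsup : (N' ⊓ perp Q Z) ⊔ Z = perp Q Z := by
    rw [inf_comm, inf_sup_assoc_of_le _ hZP, hcompl.sup_eq_top, inf_top_eq]
  have hdec : ∀ x, (∀ z ∈ Z, polar Q z x = 0) → ∃ z ∈ Z, ∃ n ∈ N' ⊓ perp Q Z, x = z + n := by
    intro x hx
    have : x ∈ (N' ⊓ perp Q Z) ⊔ Z := by rw [hsup]; exact mem_perp.2 hx
    obtain ⟨n, hn, z, hz, e⟩ := Submodule.mem_sup.1 this
    exact ⟨z, hz, n, hn, by rw [← e, add_comm]⟩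
  have hinf : (N' ⊓ perp Q Z) ⊓ Z = ⊥ := by
    rw [← le_bot_iff, ← hcompl.inf_eq_bot]
    exact inf_le_inf_right _ inf_le_left
  refine ⟨N' ⊓ perp Q Z, ⟨hN' (Submodule.subset_span (by simp)), mem_perp.2 ha⟩,
    ⟨hN' (Submodule.subset_span (by simp)), mem_perp.2 hb⟩,
    fun z hz x hx => mem_perp.1 hx.2 z hz, hdec, ?_, ?_⟩
  · intro y hy hy'
    have h1 : y ∈ perp Q (perp Q Z) := by
      refine mem_perp.2 fun x hx => ?_
      obtain ⟨z, hz, n, hn, rfl⟩ := hdec x (mem_perp.1 hx)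
      rw [polar_add_left, mem_perp.1 hy.2 z hz, polar_comm, hy' n hn, add_zero]
    rw [perp_perp hQ] at h1
    have h2 : y ∈ (N' ⊓ perp Q Z) ⊓ Z := ⟨hy, h1⟩
    rw [hinf] at h2
    exact (Submodule.mem_bot F).1 h2
  · have h1 := Submodule.finrank_sup_add_finrank_inf_eq (N' ⊓ perp Q Z) Z
    rw [hsup, hinf, finrank_bot, add_zero] at h1
    have h2 := finrank_perp hQ Z
    omega

/-- **The configuration attached to two adjacent points.** -/
theorem exists_conf [Finite F] [FiniteDimensional F V] (hQ : Nondeg Q) (hHO : H ≤ O Q)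
    {X Y Z : Submodule F V} (hX : IsPt Q H X) (hY : IsPt Q H Y) (hXs : ∀ x ∈ X, Q x = 0)
    (hYs : ∀ x ∈ Y, Q x = 0) (hZX : Z ≤ X) (hZY : Z ≤ Y) {a b : V} (ha : a ∈ X) (hb : b ∈ Y)
    (hspa : ∀ x ∈ X, ∃ c : F, x - c • a ∈ Z) (hspb : ∀ x ∈ Y, ∃ c : F, x - c • b ∈ Z)
    (hab : polar Q a b ≠ 0) (hdim : 2 * Module.finrank F Z + 5 ≤ Module.finrank F V) :
    ∃ N, a ∈ N ∧ b ∈ N ∧ Conf Q H Z N := by
  have hZs : ∀ z ∈ Z, Q z = 0 := fun z hz => hXs z (hZX hz)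
  obtain ⟨N, haN, hbN, hZN, hdec, hN, hfin⟩ := exists_compl hQ hZs
    (fun z hz => polar_zero_of_ts hXs (hZX hz) ha) (fun z hz => polar_zero_of_ts hYs (hZY hz) hb)
    (hXs a ha) (hYs b hb) hab
  have hG : Good (res Q N) := good_res hN (by omega)
  have haZ : a ∉ Z := fun h => hab (polar_zero_of_ts hYs (hZY h) hb)
  have hbZ : b ∉ Z := fun h => hab (by
    rw [polar_comm]; exact polar_zero_of_ts hXs (hZX h) ha)
  refine ⟨N, haN, hbN, hHO, hZs, hZN, hdec, ?_, hG, ?_⟩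
  · intro x hx
    have h1 : x ∈ perp Q (perp Q Z) := mem_perp.2 fun y hy => hx y (mem_perp.1 hy)
    rwa [perp_perp hQ] at h1
  · exact E_le_of_full_pair hG (full_HN hX hZX hZN ha haN haZ hspa (hXs a ha))
      (full_HN hY hZY hZN hb hbN hbZ hspb (hYs b hb)) hab

end Cfsg.Agent.H925.Ext
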