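import Cfsg.Agent.H925.ExtUnip

/-!
# Overgroups of `Ω(V, QK)` in `Ω(V, τ ∘ QK)`, IV: the core

If `H ≥ E QK` (as a group of `F`-linear maps) has a further point `Y` meeting a `K`-line `X` in a hyperplane
and not orthogonal to `X`, then `H ≥ E Q`.
-/

set_option autoImplicit false
set_option linter.unusedSectionVars false

namespace Cfsg.Agent.H925.Ext

open QuadraticMap Cfsg.Agent.LieClassical.OrthCore Cfsg.Agent.LieClassical.OrthTrans
  Cfsg.Agent.H883.Root Cfsg.Agent.H883.Sub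

variable {F K V : Type*} [Field F] [Field K] [Algebra F K] [AddCommGroup V]
  [Module F V] [Module K V] [IsScalarTower F K V]

variable {τ : K →ₗ[F] F} {QK : QuadraticForm K V} {Q : QuadraticForm F V}
  {H : Subgroup (V ≃ₗ[F] V)}

/-- The hypotheses on the group and the forms. -/
structure Setup (τ : K →ₗ[F] F) (QK : QuadraticForm K V) (Q : QuadraticForm F V)
    (H : Subgroup (V ≃ₗ[F] V)) : Prop where
  tr : Tr τ QK Q
  nondeg : Nondeg QK
  hHO : H ≤ O Q
  hE : ∀ g ∈ E QK, (rs g : V ≃ₗ[F] V) ∈ H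
  /-- transitivity on singular vectors up to `F`-scalars -/
  trans : ∀ v v' : V, QK v = 0 → QK v' = 0 → v ≠ 0 → v' ≠ 0 → ∃ g ∈ O QK,
    (rs g : V ≃ₗ[F] V) ∈ H ∧ ∃ c : F, c ≠ 0 ∧ g v = c • v'
  /-- the values of `QK` on `v^⊥` -/
  vals : ∀ v : V, QK v = 0 → v ≠ 0 → ∀ κ : K, τ κ = 0 → κ ∈ Submodule.span F
    {κ' : K | ∃ y : V, polar QK v y = 0 ∧ y ∉ line F K v ∧ QK y = κ' ∧ τ κ' = 0}
  sing : ∃ v : V, v ≠ 0 ∧ QK v = 0
  deg : 2 ≤ Module.finrank F K
  dim : 2 * Module.finrank F K + 3 ≤ Module.finrank F V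

theorem line_sing (h : Tr τ QK Q) {v : V} (hv : QK v = 0) : ∀ x ∈ line F K v, Q x = 0 := by
  intro x hx
  obtain ⟨k, rfl⟩ := mem_line.1 hx
  rw [h.eq, QuadraticMap.map_smul, hv, smul_zero, map_zero]

theorem finrank_line [FiniteDimensional F K] {v : V} (hv : v ≠ 0) :
    Module.finrank F (line F K v) = Module.finrank F K := by
  have h1 : Module.finrank K (Submodule.span K {v}) = 1 := finrank_span_singleton hv
  have h2 : Module.finrank F (Submodule.span K {v}) = Module.finrank F (line F K v) := rfl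
  rw [← h2, ← Module.finrank_mul_finrank F K (Submodule.span K {v}), h1, mul_one]

section Core

variable [Finite F] [FiniteDimensional F V] [FiniteDimensional F K]

theorem Setup.phi_mem (hS : Setup τ QK Q H) (h2 : (2 : F) ≠ 0) {v : V} (hv : QK v = 0)
    (hv0 : v ≠ 0) {Z N : Submodule F V} (hZX : Z ≤ line F K v) {a : V} (ha : a ∈ line F K v)
    (haZ : a ∉ Z) (haN : a ∈ N) (hsp : ∀ x ∈ line F K v, ∃ c : F, x - c • a ∈ Z)
    (hC : Conf Q H Z N) (u : N) (z : Z) : Phi H (r1 Q u z) := by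
  have hT := hS.tr
  obtain ⟨δ, hδ0, hδ⟩ := exists_delta_line hT.ne ha haZ hsp
  obtain ⟨s₁, hs₁⟩ := mem_line.1 ha
  have hs₁δ : τ (s₁ * δ) = 1 := by
    subst hs₁
    exact tau_delta haZ hδ
  have hQa : Q a = 0 := line_sing hT hv a ha
  have ha0 : (⟨a, haN⟩ : N) ≠ 0 := by
    intro h
    apply haZ
    rw [show a = 0 from congrArg Subtype.val h]
    exact Z.zero_mem
  -- the elements of `Z`
  have hZmem : ∀ k : K, k • v ∈ Z ↔ τ (k * δ) = 0 := by
    intro k
    constructor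
    · intro hk
      by_contra hne
      apply haZ
      have h1 := Z.sub_mem hk (hδ k)
      rw [sub_sub_cancel] at h1
      have := Z.smul_mem (τ (k * δ))⁻¹ h1
      rwa [smul_smul, inv_mul_cancel₀ hne, one_smul] at this
    · intro hk
      have := hδ k
      rwa [hk, zero_smul, sub_zero] at this
  -- the basic elements
  have key : ∀ y : V, polar QK v y = 0 → y ∉ line F K v → τ (QK y) = 0 →
      ∀ (z : Z), (z : V) = (δ⁻¹ * QK y) • v → ∀ u : N, Phi H (r1 Q u z) := by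
    intro y hvy hy hQy z hz u
    have hQy' : Q y = 0 := by rw [hT.eq, hQy]
    have hXy : ∀ x ∈ line F K v, polar Q x y = 0 := by
      intro x hx
      obtain ⟨k, rfl⟩ := mem_line.1 hx
      rw [hT.pol, polar_smul_left, hvy, smul_zero, map_zero]
    have hay : polar Q a y = 0 := hXy a ha
    obtain ⟨zy, hzy, n, hn, e⟩ := hC.dec y fun z hz => hXy z (hZX hz)
    have hQn : Q n = 0 := by
      have h1 : Q (zy + n) = Q zy + Q n + polar Q zy n := QuadraticMap.map_add Q zy n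
      rw [← e, hQy', hC.sing zy hzy, hC.zn zy hzy n hn] at h1
      simpa using h1.symm
    have hn0 : (⟨n, hn⟩ : N) ≠ 0 := by
      intro h
      apply hy
      rw [e, show n = 0 from congrArg Subtype.val h, add_zero]
      exact hZX hzy
    -- move `a` to `n`
    obtain ⟨g, hg, hga⟩ := hC.good.trans_sing (x := ⟨a, haN⟩) (x' := ⟨n, hn⟩) hQa hQn ha0 hn0
    obtain ⟨k, hk, kZ, kN⟩ := hC.lift hg
    have hkO := hC.hHO hk
    have hka : k a - n ∈ Z := by
      have := kN ⟨a, haN⟩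
      rwa [hga] at this
    have hX2 : IsPt Q H ((line F K v).map (k : V →ₗ[F] V)) := (isPt_line hT hS.hE hv).map hkO hk
    have hZX2 : Z ≤ (line F K v).map (k : V →ₗ[F] V) := fun z hz => ⟨z, hZX hz, kZ z hz⟩
    have hyX2 : y ∈ (line F K v).map (k : V →ₗ[F] V) := by
      refine ⟨a + (zy - (k a - n)), (line F K v).add_mem ha (hZX (Z.sub_mem hzy hka)), ?_⟩
      show k (a + (zy - (k a - n))) = y
      rw [map_add, kZ _ (Z.sub_mem hzy hka), e]
      abel
    have hyZ : y ∉ Z := fun h => hy (hZX h)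
    have hsp2 : ∀ x ∈ (line F K v).map (k : V →ₗ[F] V), ∃ c : F, x - c • y ∈ Z := by
      rintro _ ⟨x, hx, rfl⟩
      obtain ⟨c, hc⟩ := hsp x hx
      refine ⟨c, ?_⟩
      have h1 : k (x - c • a) ∈ Z := by rw [kZ _ hc]; exact hc
      rw [map_sub, map_smul] at h1
      have e3 : k x - c • y = (k x - c • k a) + c • (k a - n) - c • zy := by
        rw [e]; module
      show k x - c • y ∈ Z
      rw [e3]
      exact Z.sub_mem (Z.add_mem h1 (Z.smul_mem _ hka)) (Z.smul_mem _ hzy)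
    obtain ⟨h₂, hh₂, h₂X, h₂Z⟩ := hX2 Z y (-a) hZX2 hyX2 hyZ hsp2 (by
      intro x hx
      obtain ⟨c, hc⟩ := hsp2 x hx
      have e3 : x = (x - c • y) + c • y := by abel
      rw [polar_neg_right, e3, polar_add_left, hC.zn _ hc a haN, polar_smul_left,
        polar_comm Q y a, hay]
      simp)
    have hvy' : polar QK v (δ⁻¹ • y) = 0 := by rw [polar_smul_right, hvy, smul_zero]
    set h₁ : V ≃ₗ[F] V := rs (siegel QK v (δ⁻¹ • y) hv hvy') with hh₁def
    have hh₁ : h₁ ∈ H := hS.hE _ (siegel_mem_E _ _)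
    have h₁X : ∀ x ∈ line F K v, h₁ x = x := fun x hx => siegel_fix_line hv hvy' hx
    have h₁Z : ∀ x, (∀ z ∈ Z, polar Q z x = 0) → h₁ x - siegelLin Q a y x ∈ Z :=
      fun x hx => siegel_line hT hv ha hδ0 hδ hvy' hx
    have hc : h₁ * h₂⁻¹ ∈ H := H.mul_mem hh₁ (H.inv_mem hh₂)
    have h₂inv : ∀ z ∈ Z, h₂⁻¹ z = z := fun z hz => inv_fix (h₂X z (hZX2 hz))
    have hdiff : ∀ x : V, (∀ z ∈ Z, polar Q z x = 0) → (h₁ * h₂⁻¹) x - x ∈ Z := by
      intro x hx
      set x' := h₂⁻¹ x with hx'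
      have hx'2 : h₂ x' = x := LinearEquiv.apply_symm_apply h₂ x
      have hx'3 : ∀ z ∈ Z, polar Q z x' = 0 := by
        intro z hz
        rw [← h₂inv z hz, hx', polar_map ((O Q).inv_mem (hC.hHO hh₂))]
        exact hx z hz
      have h5 := h₁Z x' hx'3
      have h6 := h₂Z x' hx'3
      have e5 : siegelLin Q y (-a) x' = siegelLin Q a y x' := by
        rw [siegelLin_apply, siegelLin_apply, hQy', QuadraticMap.map_neg, hQa, polar_neg_left]
        simp only [zero_mul, zero_smul]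
        module
      rw [e5, hx'2] at h6
      have := Z.sub_mem h5 h6
      rw [sub_sub_sub_cancel_right] at this
      exact this
    have hcy : (h₁ * h₂⁻¹) y = y - (2 * (δ⁻¹ * QK y)) • v := by
      show h₁ (h₂⁻¹ y) = _
      rw [inv_fix (h₂X y hyX2), hh₁def, rs_apply, siegel_apply, hvy, polar_smul_left,
        polar_self', smul_eq_mul]
      rw [zero_smul, mul_zero, zero_smul, sub_zero, add_zero]
      congr 2
      ring
    -- the linear map
    let φ : N →ₗ[F] Z := LinearMap.codRestrict Z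
      (((h₁ * h₂⁻¹ : V ≃ₗ[F] V) : V →ₗ[F] V) ∘ₗ N.subtype - N.subtype) (fun x =>
        hdiff x fun z hz => hC.zn z hz x x.2)
    have hφ : Phi H φ := by
      refine ⟨h₁ * h₂⁻¹, hc, fun z hz => ?_, fun x => ?_⟩
      · show h₁ (h₂⁻¹ z) = z
        rw [h₂inv z hz, h₁X z (hZX hz)]
      · show (h₁ * h₂⁻¹) (x : V) = x + ((h₁ * h₂⁻¹) (x : V) - x)
        abel
    have hφn : φ ⟨n, hn⟩ = (-2 : F) • z := by
      apply Subtype.ext
      show (h₁ * h₂⁻¹) n - n = (-2 : F) • (z : V)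
      have e6 : n = y - zy := by rw [e]; abel
      have e7 : (h₁ * h₂⁻¹) zy = zy := by
        show h₁ (h₂⁻¹ zy) = zy
        rw [h₂inv zy hzy, h₁X zy (hZX hzy)]
      rw [e6, map_sub, hcy, e7, hz, mul_smul]
      have e8 : (2 : K) • (δ⁻¹ * QK y) • v = (2 : F) • (δ⁻¹ * QK y) • v := by
        rw [two_smul, two_smul]
      rw [e8]
      module
    have h7 := hC.phi_r1 hφ (y := ⟨n, hn⟩) hQn hn0 ((-2 : F)⁻¹ • u)
    rw [hφn] at h7
    have e9 : r1 Q ((-2 : F)⁻¹ • u) ((-2 : F) • z) = r1 Q u z := by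
      ext x
      rw [r1_apply, r1_apply, polar_smul_left, smul_smul, smul_eq_mul]
      congr 2
      field_simp
    rwa [e9] at h7
  -- the span
  have hspan : ∀ κ : K, κ ∈ Submodule.span F
      {κ' : K | ∃ y : V, polar QK v y = 0 ∧ y ∉ line F K v ∧ QK y = κ' ∧ τ κ' = 0} →
      τ κ = 0 ∧ ∀ z : Z, (z : V) = (δ⁻¹ * κ) • v → ∀ u : N, Phi H (r1 Q u z) := by
    intro κ hκ
    induction hκ using Submodule.span_induction with
    | mem κ hκ =>
      obtain ⟨y, hy1, hy2, rfl, hy3⟩ := hκ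
      exact ⟨hy3, key y hy1 hy2 hy3⟩
    | zero =>
      refine ⟨map_zero τ, fun z hz u => ?_⟩
      have hz0 : z = 0 := by
        apply Subtype.ext
        rw [hz, mul_zero, zero_smul]
        rfl
      subst hz0
      have : r1 Q u (0 : Z) = 0 := by
        ext x
        rw [r1_apply, smul_zero]
        rfl
      rw [this]
      exact Phi.zero
    | add κ κ' _ _ ih ih' =>
      obtain ⟨h1, h2⟩ := ih
      obtain ⟨h3, h4⟩ := ih'
      refine ⟨by rw [map_add, h1, h3, add_zero], fun z hz u => ?_⟩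
      have m1 : (δ⁻¹ * κ) • v ∈ Z := (hZmem _).2 (by
        rw [mul_comm δ⁻¹, mul_assoc, inv_mul_cancel₀ hδ0, mul_one]; exact h1)
      have m2 : (δ⁻¹ * κ') • v ∈ Z := (hZmem _).2 (by
        rw [mul_comm δ⁻¹, mul_assoc, inv_mul_cancel₀ hδ0, mul_one]; exact h3)
      have ez : z = ⟨_, m1⟩ + ⟨_, m2⟩ := by
        apply Subtype.ext
        rw [hz, Submodule.coe_add, mul_add, add_smul]
      have e : r1 Q u z = r1 Q u (⟨_, m1⟩ : Z) + r1 Q u (⟨_, m2⟩ : Z) := by
        rw [ez]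
        ext x
        rw [LinearMap.add_apply, r1_apply, r1_apply, r1_apply, smul_add]
      rw [e]
      exact (h2 _ rfl u).add (h4 _ rfl u)
    | smul c κ _ ih =>
      obtain ⟨h1, h2⟩ := ih
      refine ⟨by rw [map_smul, h1, smul_zero], fun z hz u => ?_⟩
      have m1 : (δ⁻¹ * κ) • v ∈ Z := (hZmem _).2 (by
        rw [mul_comm δ⁻¹, mul_assoc, inv_mul_cancel₀ hδ0, mul_one]; exact h1)
      have ez : z = c • (⟨_, m1⟩ : Z) := by
        apply Subtype.ext
        rw [hz, Submodule.coe_smul, mul_smul_comm, smul_assoc]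
      have e : r1 Q u z = r1 Q (c • u) (⟨_, m1⟩ : Z) := by
        rw [ez]
        ext x
        rw [r1_apply, r1_apply, polar_smul_left, smul_smul, smul_eq_mul, mul_comm]
      rw [e]
      exact h2 _ rfl _
  obtain ⟨k, hk⟩ := mem_line.1 (hZX z.2)
  have hk' : τ (k * δ) = 0 := (hZmem k).1 (by rw [hk]; exact z.2)
  exact (hspan (k * δ) (hS.vals v hv hv0 _ hk')).2 z
    (by rw [← hk, mul_comm k δ, ← mul_assoc, inv_mul_cancel₀ hδ0, one_mul]) u

/-- **Core theorem.** -/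
theorem Setup.core (hS : Setup τ QK Q H) (h2 : (2 : F) ≠ 0) (hG : Good Q) {v : V}
    (hv : QK v = 0) (hv0 : v ≠ 0) {Y Z : Submodule F V} (hY : IsPt Q H Y)
    (hYs : ∀ x ∈ Y, Q x = 0) (hZX : Z ≤ line F K v) (hZY : Z ≤ Y) {a b : V}
    (ha : a ∈ line F K v) (hb : b ∈ Y) (hspa : ∀ x ∈ line F K v, ∃ c : F, x - c • a ∈ Z)
    (hspb : ∀ x ∈ Y, ∃ c : F, x - c • b ∈ Z) (hab : polar Q a b ≠ 0) : E Q ≤ H := by
  have hT := hS.tr
  have hXs := line_sing hT hv
  have haZ : a ∉ Z := fun h => hab (polar_zero_of_ts hYs (hZY h) hb)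
  have hZlt : Z < line F K v := lt_of_le_of_ne hZX (fun e => haZ (e ▸ ha))
  have hZfin : Module.finrank F Z < Module.finrank F K := by
    rw [← finrank_line (F := F) (K := K) hv0]
    exact Submodule.finrank_lt_finrank_of_lt hZlt
  have hdim := hS.dim
  obtain ⟨N, haN, hbN, hC⟩ := exists_conf (hT.nondeg hS.nondeg) hS.hHO
    (isPt_line hT hS.hE hv) hY hXs hYs hZX hZY ha hb hspa hspb hab (by omega)
  have hphi := hS.phi_mem h2 hv hv0 hZX ha haZ haN hspa hC
  have hperp : ∀ z ∈ Z, ∀ x, (∀ z ∈ Z, polar Q z x = 0) → Has Q H z x :=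
    fun z hz x hx => hC.has_perp hphi hz hx
  obtain ⟨δ, hδ0, hδ⟩ := exists_delta_line hT.ne ha haZ hspa
  have hZmem : ∀ k : K, τ (k * δ) = 0 → k • v ∈ Z := by
    intro k hk
    have := hδ k
    rwa [hk, zero_smul, sub_zero] at this
  have hZmem' : ∀ z ∈ Z, ∃ k : K, τ (k * δ) = 0 ∧ k • v = z := by
    intro z hz
    obtain ⟨k, hk⟩ := mem_line.1 (hZX hz)
    refine ⟨k, ?_, hk⟩
    by_contra hne
    apply haZ
    have h1 := Z.sub_mem (hk ▸ hz) (hδ k)
    rw [sub_sub_cancel] at h1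
    have := Z.smul_mem (τ (k * δ))⁻¹ h1
    rwa [smul_smul, inv_mul_cancel₀ hne, one_smul] at this
  -- `v` is full
  have hfull : Full Q H v := by
    refine ⟨hXs v (self_mem_line v), fun x hx => ?_⟩
    obtain ⟨μ, hμ0, hμ, hβ⟩ : ∃ μ : K, μ ≠ 0 ∧ τ μ = 0 ∧ ∃ c : F, polar QK v x = c • μ := by
      by_cases hβ : polar QK v x = 0
      · have hker : LinearMap.ker τ ≠ ⊥ := by
          apply LinearMap.ker_ne_bot_of_finrank_lt
          rw [Module.finrank_self]
          exact lt_of_lt_of_le one_lt_two hS.deg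
        obtain ⟨μ, hμ, hμ0⟩ := Submodule.exists_mem_ne_zero_of_ne_bot hker
        exact ⟨μ, hμ0, hμ, 0, by rw [hβ, zero_smul]⟩
      · refine ⟨polar QK v x, hβ, ?_, 1, by rw [one_smul]⟩
        rw [← hT.pol]
        exact hx
    obtain ⟨c', hc'⟩ := hβ
    have hlv : QK ((δ * μ⁻¹) • v) = 0 := by rw [QuadraticMap.map_smul, hv, smul_zero]
    have hl0 : (δ * μ⁻¹) • v ≠ 0 := smul_ne_zero (mul_ne_zero hδ0 (inv_ne_zero hμ0)) hv0
    obtain ⟨g, hg, hgH, c, hc0, hgv⟩ := hS.trans v _ hv hlv hv0 hl0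
    have hgO : rs g ∈ O Q := hS.hHO hgH
    have hg1 : ∀ x, g (g⁻¹ x) = x := fun x => LinearEquiv.apply_symm_apply g x
    have hg2 : g⁻¹ v = (c⁻¹ • (μ * δ⁻¹)) • v := by
      apply g.injective
      rw [hg1, map_smul, hgv, smul_comm c, smul_smul]
      have e1 : c⁻¹ • (μ * δ⁻¹) * (δ * μ⁻¹) = c⁻¹ • (1 : K) := by
        rw [smul_mul_assoc]
        congr 1
        field_simp
      rw [e1, smul_assoc, one_smul, smul_smul, inv_mul_cancel₀ hc0, one_smul]
    have h1 : g⁻¹ v ∈ Z := by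
      rw [hg2]
      apply hZmem
      rw [smul_mul_assoc, mul_assoc, inv_mul_cancel₀ hδ0, mul_one, map_smul, hμ, smul_zero]
    have h3 : ∀ z ∈ Z, polar Q z (g⁻¹ x) = 0 := by
      intro z hz
      obtain ⟨k, hk, rfl⟩ := hZmem' z hz
      rw [hT.pol, polar_smul_left]
      have e2 : polar QK v (g⁻¹ x) = polar QK (g v) x := by
        rw [← polar_map hg, hg1]
      rw [e2, hgv]
      have e3 : polar QK (c • (δ * μ⁻¹) • v) x = c • ((δ * μ⁻¹) * (c' • μ)) := by
        rw [← algebraMap_smul K c ((δ * μ⁻¹) • v), polar_smul_left, polar_smul_left, hc',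
          smul_eq_mul, smul_eq_mul, Algebra.smul_def c]
      rw [e3]
      have e4 : k • (c • ((δ * μ⁻¹) * (c' • μ))) = (c * c') • (k * δ) := by
        rw [smul_eq_mul, mul_smul_comm, mul_smul_comm, mul_smul_comm, smul_smul]
        congr 1
        field_simp
      rw [e4, map_smul, hk, smul_zero]
    have h4 := (hperp _ h1 _ h3).map hgO hgH
    refine h4.congr ?_ ?_
    · exact hg1 v
    · exact hg1 x
  -- another full vector
  obtain ⟨v', hyp⟩ := Cfsg.Agent.LieClassical.OrthTrans.exists_hyp hS.nondeg hv hv0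
  obtain ⟨κ, hκ⟩ := exists_tau_eq hT.ne 1
  have hκ0 : κ ≠ 0 := by
    rintro rfl
    rw [map_zero] at hκ
    exact zero_ne_one hκ
  have hv'0 : κ • v' ≠ 0 := smul_ne_zero hκ0 hyp.right_ne
  have hv' : QK (κ • v') = 0 := by rw [QuadraticMap.map_smul, hyp.right, smul_zero]
  obtain ⟨g, hg, hgH, c, hc0, hgv⟩ := hS.trans v _ hv hv' hv0 hv'0
  have hfull' := hfull.map (hS.hHO hgH) hgH
  refine E_le_of_full_pair hG hfull hfull' ?_
  rw [rs_apply, hgv, polar_smul_right, hT.pol, polar_smul_right, hyp.pair, smul_eq_mul,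
    smul_eq_mul, mul_one, hκ, mul_one]
  exact hc0

end Core

end Cfsg.Agent.H925.Ext
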