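import Cfsg.Agent.H925.ExtFour

/-!
# Overgroups of `Ω(V, QK)` in `Ω(V, τ ∘ QK)`, XIII: `dim_K V = 4`, the intersections of points (continued)
-/

set_option autoImplicit false
set_option linter.unusedSectionVars false

namespace Cfsg.Agent.H925.Ext

open QuadraticMap Cfsg.Agent.LieClassical.OrthCore Cfsg.Agent.LieClassical.OrthTrans
  Cfsg.Agent.LieClassical.OrthFinite Cfsg.Agent.H883.Root Cfsg.Agent.H883.Sub
open scoped commutatorElement

section One

variable {K V : Type*} [Field K] [AddCommGroup V] [Module K V] {QK : QuadraticForm K V}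

/-- The product of two reflections in a plane. -/
theorem refl_refl_add {a a' : V} {d α β : K} (ha : QK a ≠ 0) (ha' : QK a' = d * QK a)
    (haa : polar QK a a' = 0) (hαβ : α * α + d * (β * β) = 1) (hb : QK (α • a + β • a') ≠ 0)
    (x y : K) :
    refl QK a ha (refl QK (α • a + β • a') hb (x • a + y • a')) +
      refl QK (α • a + β • a') hb (refl QK a ha (x • a + y • a')) =
      (4 * (α * α) - 2) • (x • a + y • a') := by
  have hQb : QK (α • a + β • a') = QK a := by
    rw [Q_add, QuadraticMap.map_smul, QuadraticMap.map_smul, polar_smul_left, polar_smul_right,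
      haa, ha']
    simp only [smul_eq_mul]
    linear_combination QK a * hαβ
  have haa' : polar QK a' a = 0 := by rw [polar_comm]; exact haa
  simp only [refl_apply, hQb, polar_sub_right, polar_add_right, polar_smul_right, polar_add_left,
    polar_smul_left, polar_self', haa, haa', ha', smul_eq_mul]
  match_scalars
  · field_simp
    ring
  · field_simp
    linear_combination (-4 * y * QK a ^ 2) * hαβ

/-- In dimension `4` the complement of a hyperbolic plane is spanned by two orthogonal nonsingular
vectors. -/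
theorem exists_coord (hQ : Nondeg QK) (h2 : (2 : K) ≠ 0) (hd : Module.finrank K V = 4)
    {v v' a b : V} (hyp : Hyp QK v v') (hva : polar QK v a = 0) (hv'a : polar QK v' a = 0)
    (hvb : polar QK v b = 0) (hv'b : polar QK v' b = 0) (ha : QK a ≠ 0) (hb : QK b ≠ 0)
    (hab : polar QK a b = 0) {w : V} (hvw : polar QK v w = 0) (hv'w : polar QK v' w = 0) :
    ∃ x y : K, w = x • a + y • b := by
  have hli : LinearIndependent K ![v, v', a, b] := by
    rw [Fintype.linearIndependent_iff]
    intro f hf
    rw [Fin.sum_univ_four] at hf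
    simp only [Matrix.cons_val_zero, Matrix.cons_val_one, Matrix.cons_val] at hf
    have h0 : f 0 = 0 := by
      have := congrArg (fun z => polar QK v' z) hf
      simp only [polar_add_right, polar_smul_right, hyp.pair', hyp.polar_right, hv'a, hv'b,
        polar_zero_right, smul_eq_mul] at this
      simpa using this
    have h1 : f 1 = 0 := by
      have := congrArg (fun z => polar QK v z) hf
      simp only [polar_add_right, polar_smul_right, hyp.pair, hyp.polar_left, hva, hvb,
        polar_zero_right, smul_eq_mul] at this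
      simpa using this
    have h3 : f 2 = 0 := by
      have := congrArg (fun z => polar QK a z) hf
      simp only [polar_add_right, polar_smul_right, polar_comm QK a v, hva, polar_comm QK a v',
        hv'a, hab, polar_zero_right, smul_eq_mul, polar_self'] at this
      have h4 : f 2 * (2 * QK a) = 0 := by simpa using this
      exact (mul_eq_zero.1 h4).resolve_right (mul_ne_zero h2 ha)
    have h4 : f 3 = 0 := by
      have := congrArg (fun z => polar QK b z) hf
      simp only [polar_add_right, polar_smul_right, polar_comm QK b v, hvb, polar_comm QK b v',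
        hv'b, polar_comm QK b a, hab, polar_zero_right, smul_eq_mul, polar_self'] at this
      have h5 : f 3 * (2 * QK b) = 0 := by simpa using this
      exact (mul_eq_zero.1 h5).resolve_right (mul_ne_zero h2 hb)
    intro i
    fin_cases i
    · exact h0
    · exact h1
    · exact h3
    · exact h4
  have hspan : Submodule.span K (Set.range ![v, v', a, b]) = ⊤ :=
    hli.span_eq_top_of_card_eq_finrank (by rw [hd]; rfl)
  refine ⟨polar QK a w * (2 * QK a)⁻¹, polar QK b w * (2 * QK b)⁻¹, ?_⟩
  rw [← sub_eq_zero]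
  apply hQ
  intro z
  set w' := w - ((polar QK a w * (2 * QK a)⁻¹) • a + (polar QK b w * (2 * QK b)⁻¹) • b) with hw'
  have e0 : polar QK v w' = 0 := by
    rw [hw', polar_sub_right, polar_add_right, polar_smul_right, polar_smul_right, hva, hvb, hvw]
    simp
  have e1 : polar QK v' w' = 0 := by
    rw [hw', polar_sub_right, polar_add_right, polar_smul_right, polar_smul_right, hv'a, hv'b, hv'w]
    simp
  have e2 : polar QK a w' = 0 := by
    rw [hw', polar_sub_right, polar_add_right, polar_smul_right, polar_smul_right, hab,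
      polar_self']
    simp only [smul_eq_mul, mul_zero, add_zero]
    field_simp
    ring
  have e3 : polar QK b w' = 0 := by
    rw [hw', polar_sub_right, polar_add_right, polar_smul_right, polar_smul_right,
      polar_comm QK b a, hab, polar_self']
    simp only [smul_eq_mul, mul_zero, zero_add]
    field_simp
    ring
  have hz : z ∈ Submodule.span K (Set.range ![v, v', a, b]) := by rw [hspan]; trivial
  induction hz using Submodule.span_induction with
  | mem x hx =>
    obtain ⟨i, rfl⟩ := hx
    rw [polar_comm]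
    fin_cases i
    · exact e0
    · exact e1
    · exact e2
    · exact e3
  | zero => exact polar_zero_right QK w'
  | add x y _ _ hx hy => rw [polar_add_right, hx, hy, add_zero]
  | smul c x _ hx => rw [polar_smul_right, hx, smul_zero]

end One

section Fld

variable {F K : Type*} [Field F] [Field K] [Algebra F K] [FiniteDimensional F K]

/-- A point `(α, β)` of the conic with `α²` outside `F` (degree at least `3`). -/
theorem exists_alpha (h2 : (2 : K) ≠ 0) (hr : (Module.finrank F K).Prime)
    (hr3 : 3 ≤ Module.finrank F K) {d : K} (hd : d ≠ 0) :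
    ∃ α β : K, α * α + d * (β * β) = 1 ∧ ∀ c : F, α * α ≠ c • (1 : K) := by
  -- `d t²` outside `F`
  obtain ⟨t, ht⟩ : ∃ t : K, ∀ c : F, d * (t * t) ≠ c • (1 : K) := by
    by_contra hcon
    push Not at hcon
    have hmem : ∀ t : K, d * (t * t) ∈ Submodule.span F {(1 : K)} := by
      intro t
      obtain ⟨c, hc⟩ := hcon t
      rw [hc]
      exact Submodule.smul_mem _ _ (Submodule.mem_span_singleton_self _)
    have htop : (⊤ : Submodule F K) ≤ Submodule.span F {(1 : K)} := by
      intro k _
      have e : k = d * ((k / d / 2 + 1) * (k / d / 2 + 1)) - d * ((k / d / 2) * (k / d / 2)) -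
          d * (1 * 1) := by
        field_simp
        ring
      rw [e]
      exact Submodule.sub_mem _ (Submodule.sub_mem _ (hmem _) (hmem _)) (hmem _)
    have h3 := Submodule.finrank_mono htop
    rw [finrank_top, finrank_span_singleton one_ne_zero] at h3
    omega
  set u := d * (t * t) with hu
  have hu1 : 1 + u ≠ 0 := by
    intro h
    apply ht (-1)
    rw [neg_smul, one_smul]
    linear_combination h
  set α := (1 - u) / (1 + u) with hα
  have hαF : ∀ c : F, α ≠ c • (1 : K) := by
    intro c hc
    have h3 : 1 - u = c • (1 : K) * (1 + u) := by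
      rw [← hc, hα, div_mul_cancel₀ _ hu1]
    by_cases hc1 : c = -1
    · subst hc1
      rw [neg_smul, one_smul] at h3
      exact h2 (by linear_combination h3)
    · have hc2 : 1 + c ≠ 0 := fun h => hc1 (by linear_combination h)
      apply ht ((1 - c) / (1 + c))
      have h4 : u * (1 + c • (1 : K)) = 1 - c • (1 : K) := by linear_combination -h3
      have h5 : (1 : K) + c • (1 : K) = algebraMap F K (1 + c) := by
        rw [map_add, map_one, Algebra.smul_def, mul_one]
      have h6 : (1 : K) - c • (1 : K) = algebraMap F K (1 - c) := by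
        rw [map_sub, map_one, Algebra.smul_def, mul_one]
      have h7 : algebraMap F K (1 + c) ≠ 0 := by
        rw [Ne, map_eq_zero]
        exact hc2
      rw [h5, h6] at h4
      rw [Algebra.smul_def, mul_one, map_div₀, eq_div_iff h7]
      exact h4
  refine ⟨α, 2 * t / (1 + u), ?_, ?_⟩
  · rw [hα]
    field_simp
    rw [hu]
    ring
  · intro c hc
    let S : Submodule F K := Submodule.span F {1, α}
    have hS : S = ⊤ := by
      refine eq_top_of_closed hr hαF (Submodule.subset_span (by simp)) ?_
      intro s hs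
      obtain ⟨x, y, rfl⟩ := Submodule.mem_span_pair.1 hs
      rw [Submodule.mem_span_pair]
      refine ⟨y * c, x, ?_⟩
      rw [mul_add, mul_smul_comm, mul_smul_comm, mul_one, hc, mul_smul]
      abel
    have h3 : Module.finrank F S ≤ 2 := by
      have := finrank_span_pair_le (K := F) (V := K) 1 α
      exact this
    rw [hS, finrank_top] at h3
    omega

end Fld

variable {F K V : Type*} [Field F] [Field K] [Algebra F K] [AddCommGroup V]
  [Module F V] [Module K V] [IsScalarTower F K V]

variable {τ : K →ₗ[F] F} {QK : QuadraticForm K V} {Q : QuadraticForm F V}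
  {H : Subgroup (V ≃ₗ[F] V)}

section Fin

variable [FiniteDimensional F V] [FiniteDimensional F K]

theorem adj_of_move' {Y : Submodule F V} (hY : IsPoint QK H Y)
    {a : V ≃ₗ[K] V} (ha : (rs a : V ≃ₗ[F] V) ∈ H) {S : Submodule F V} {s : ℕ}
    (hs : s ≤ Module.finrank F S)
    (hSY : S ≤ Y) (hSa : ∀ x ∈ S, ∃ y ∈ Y, a y = x) {y : V} (hy : y ∈ Y) (hay : a y ∉ Y) :
    Adj QK H s := by
  refine ⟨Y, Y.map ((rs a : V ≃ₗ[F] V) : V →ₗ[F] V), hY, hY.map ha, ?_, ?_⟩
  · intro h
    apply hay
    rw [h]
    exact ⟨y, hy, rfl⟩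
  · refine le_trans hs (Submodule.finrank_mono (le_inf hSY fun x hx => ?_))
    obtain ⟨y, hy, e⟩ := hSa x hx
    exact ⟨y, hy, e⟩

theorem mem_span_of_proj {v v' y : V}
    (h : Cfsg.Agent.LieClassical.OrthTrans.proj QK v v' y = 0) :
    y ∈ Submodule.span K {v, v'} := by
  rw [Cfsg.Agent.LieClassical.OrthTrans.proj, sub_sub, sub_eq_zero] at h
  rw [h]
  exact Submodule.add_mem _ (Submodule.smul_mem _ _ (Submodule.subset_span (by simp)))
    (Submodule.smul_mem _ _ (Submodule.subset_span (by simp)))

/-- **Non-orthogonal pairs not in a `K`-plane, dimension `4`.** -/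
theorem adj_step_out (hP : PreC τ QK Q H) (hr : (Module.finrank F K).Prime)
    (hr3 : 3 ≤ Module.finrank F K) (h2 : (2 : K) ≠ 0) (hd : Module.finrank K V = 4) {s : ℕ}
    {v v' : V} (hyp : Hyp QK v v') {Y : Submodule F V} (hY : IsPoint QK H Y)
    (hne : line F K v ≠ Y) (hvY : v ∈ Y)
    (hint : s ≤ Module.finrank F (line F K v ⊓ Y : Submodule F V)) {y y₂ : V} (hyY : y ∈ Y)
    (hyX : y ∉ line F K v) (hyP : y ∈ Submodule.span K {v, v'}) (hy₂ : y₂ ∈ Y)
    (hy₂P : y₂ ∉ Submodule.span K {v, v'}) : Adj QK H (s + 1) := by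
  have hnl := hY.not_line hvY hyp.left_ne hne
  obtain ⟨a, a', hva, hv'a, hva', hv'a', ha, ha', haa⟩ :=
    exists_orth_pair hP.nondeg h2 (by omega) hyp
  set d := QK a' * (QK a)⁻¹ with hddef
  have hd0 : d ≠ 0 := mul_ne_zero ha' (inv_ne_zero ha)
  have hda : QK a' = d * QK a := by rw [hddef, mul_assoc, inv_mul_cancel₀ ha, mul_one]
  obtain ⟨α, β, hαβ, hαF⟩ := exists_alpha (F := F) h2 hr hr3 hd0
  set b := α • a + β • a' with hbdef
  have hQb : QK b = QK a := by
    rw [hbdef, Q_add, QuadraticMap.map_smul, QuadraticMap.map_smul, polar_smul_left,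
      polar_smul_right, haa, hda]
    simp only [smul_eq_mul]
    linear_combination QK a * hαβ
  have hb : QK b ≠ 0 := by rw [hQb]; exact ha
  have hvb : polar QK v b = 0 := by
    rw [hbdef, polar_add_right, polar_smul_right, polar_smul_right, hva, hva']; simp
  have hv'b : polar QK v' b = 0 := by
    rw [hbdef, polar_add_right, polar_smul_right, polar_smul_right, hv'a, hv'a']; simp
  set g := refl QK a ha * refl QK b hb with hg
  have hgC : g ∈ ⁅O QK, O QK⁆ := refl_mul_refl_mem_comm h2 ha hb hQb.symm
  have hgapp : ∀ x, g x = refl QK a ha (refl QK b hb x) := fun x => rfl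
  have hginv : ∀ x, g⁻¹ x = refl QK b hb (refl QK a ha x) := by
    intro x
    rw [hg, mul_inv_rev, refl_inv, refl_inv]
    rfl
  have hfix : ∀ x, polar QK a x = 0 → polar QK b x = 0 → g x = x := by
    intro x h1 h3
    rw [hgapp]
    have e1 : refl QK b hb x = x := by
      rw [refl_apply, h3]
      simp
    rw [e1, refl_apply, h1]
    simp
  have hgv : g v = v := hfix v (by rw [polar_comm, hva]) (by rw [polar_comm, hvb])
  have hgv' : g v' = v' := hfix v' (by rw [polar_comm, hv'a]) (by rw [polar_comm, hv'b])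
  have hgP : ∀ p ∈ Submodule.span K {v, v'}, g p = p := by
    intro p hp
    obtain ⟨x, y, rfl⟩ := Submodule.mem_span_pair.1 hp
    rw [map_add, map_smul, map_smul, hgv, hgv']
  by_cases hmove : ∃ z ∈ Y, g z ∉ Y
  · obtain ⟨z, hz, hgz⟩ := hmove
    refine adj_of_move' hY (hP.hE g hgC) (S := (line F K v ⊓ Y) ⊔ Submodule.span F {y})
      (finrank_sup_line hint fun h => hyX h.1) ?_ ?_ hz hgz
    · refine sup_le inf_le_right ?_
      rw [Submodule.span_singleton_le_iff_mem]
      exact hyY
    · intro x hx
      obtain ⟨x₁, hx₁, x₂, hx₂, rfl⟩ := Submodule.mem_sup.1 hx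
      obtain ⟨c, rfl⟩ := Submodule.mem_span_singleton.1 hx₂
      refine ⟨x₁ + c • y, Y.add_mem hx₁.2 (Y.smul_mem c hyY), ?_⟩
      obtain ⟨k, rfl⟩ := mem_line.1 hx₁.1
      rw [map_add, map_smul, hgv, ← algebraMap_smul K c y, map_smul, hgP y hyP]
  · exfalso
    push Not at hmove
    have hmap : Y.map ((rs g : V ≃ₗ[F] V) : V →ₗ[F] V) = Y := by
      apply Submodule.eq_of_le_of_finrank_eq
      · rintro _ ⟨z, hz, rfl⟩
        exact hmove z hz
      · exact LinearEquiv.finrank_map_eq _ _
    have hmove' : ∀ z ∈ Y, g⁻¹ z ∈ Y := by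
      intro z hz
      rw [← hmap] at hz
      obtain ⟨z', hz', rfl⟩ := hz
      have : g⁻¹ (g z') = z' := LinearEquiv.symm_apply_apply g z'
      show g⁻¹ (g z') ∈ Y
      rw [this]
      exact hz'
    set κ := 4 * (α * α) - 2 with hκ
    -- the action on the complement
    have hact : ∀ z, polar QK v z = 0 → polar QK v' z = 0 → g z + g⁻¹ z = κ • z := by
      intro z h1 h3
      obtain ⟨x, y, rfl⟩ := exists_coord hP.nondeg h2 hd hyp hva hv'a hva' hv'a' ha ha' haa h1 h3
      rw [hgapp, hginv]
      exact refl_refl_add ha hda haa hαβ hb x y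
    have hκF : ∀ c : F, κ ≠ c • (1 : K) := by
      intro c hc
      apply hαF ((c + 2) / 4)
      have h4 : (4 : K) ≠ 0 := by
        have : (4 : K) = 2 * 2 := by norm_num
        rw [this]
        exact mul_ne_zero h2 h2
      rw [Algebra.smul_def, mul_one, map_div₀, map_add, map_ofNat, map_ofNat, eq_div_iff h4]
      rw [Algebra.smul_def, mul_one] at hc
      rw [← hc, hκ]
      ring
    -- vectors of `Y` in the complement vanish
    have hzero : ∀ z ∈ Y, polar QK v z = 0 → polar QK v' z = 0 → z = 0 := by
      intro z hz h1 h3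
      by_contra hz0
      let S : Submodule F K := Y.comap ((LinearMap.toSpanSingleton K V z).restrictScalars F)
      have hSmem : ∀ k : K, k ∈ S ↔ k • z ∈ Y := fun k => Iff.rfl
      have hS : S = ⊤ := by
        refine eq_top_of_closed hr hκF ?_ ?_
        · rw [hSmem, one_smul]; exact hz
        · intro k hk
          rw [hSmem] at hk ⊢
          rw [mul_smul, ← hact (k • z) (by rw [polar_smul_right, h1, smul_zero])
            (by rw [polar_smul_right, h3, smul_zero])]
          exact Y.add_mem (hmove _ hk) (hmove' _ hk)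
      apply hnl z hz0
      intro x hx
      obtain ⟨k, rfl⟩ := mem_line.1 hx
      have : k ∈ S := by rw [hS]; trivial
      exact this
    set ω := Cfsg.Agent.LieClassical.OrthTrans.proj QK v v' y₂ with hω
    have hω1 : polar QK v ω = 0 := polar_proj_left hyp y₂
    have hω2 : polar QK v' ω = 0 := polar_proj_right hyp y₂
    have hgO : g ∈ O QK := comm_le_O hgC
    have hgω1 : polar QK v (g ω) = 0 := by
      nth_rewrite 1 [← hgv]
      rw [polar_map hgO]
      exact hω1
    have hgω2 : polar QK v' (g ω) = 0 := by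
      nth_rewrite 1 [← hgv']
      rw [polar_map hgO]
      exact hω2
    have h3 : g ω - ω = 0 := by
      apply hzero
      · have e : g ω - ω = g y₂ - y₂ := by
          rw [hω, Cfsg.Agent.LieClassical.OrthTrans.proj, map_sub, map_sub, map_smul, map_smul, hgv,
            hgv']
          abel
        rw [e]
        exact Y.sub_mem (hmove y₂ hy₂) hy₂
      · rw [polar_sub_right, hgω1, hω1, sub_zero]
      · rw [polar_sub_right, hgω2, hω2, sub_zero]
    have h4 : g ω = ω := sub_eq_zero.1 h3
    have h5 : g⁻¹ ω = ω := by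
      apply g.injective
      rw [h4]
      exact LinearEquiv.apply_symm_apply g ω
    have h6 := hact ω hω1 hω2
    rw [h4, h5] at h6
    have h7 : (κ - 2) • ω = 0 := by
      rw [sub_smul, ← h6, two_smul, sub_self]
    have h8 : κ - 2 ≠ 0 := by
      intro h8
      apply hκF 2
      rw [Algebra.smul_def, mul_one, map_ofNat]
      linear_combination h8
    have h9 : ω = 0 := (smul_eq_zero.1 h7).resolve_left h8
    exact hy₂P (mem_span_of_proj h9)

/-- **Non-orthogonal pairs in a `K`-plane, dimension at least `4`.** -/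
theorem adj_step_in [Finite K] (hP : PreC τ QK Q H) (hr : (Module.finrank F K).Prime)
    (h2 : (2 : K) ≠ 0) (hd : 4 ≤ Module.finrank K V) {s : ℕ} (hs1 : 1 ≤ s)
    (hs : s + 2 ≤ Module.finrank F K)
    {v v' : V} (hyp : Hyp QK v v') {Y : Submodule F V} (hY : IsPoint QK H Y)
    (hne : line F K v ≠ Y) (hvY : v ∈ Y)
    (hint : s ≤ Module.finrank F (line F K v ⊓ Y : Submodule F V)) {y : V} (hyY : y ∈ Y)
    (hvy : polar QK v y ≠ 0) (hYP : ∀ z ∈ Y, z ∈ Submodule.span K {v, v'}) :
    Adj QK H (s + 1) := by
  have hPre := hP.pre h2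
  have hT := hP.tr
  -- the space of the coordinates `γ`
  let f : V →ₗ[F] K :=
    { toFun := fun z => polar QK v z
      map_add' := fun a b => polar_add_right QK v a b
      map_smul' := fun c a => by
        rw [← algebraMap_smul K c a, polar_smul_right]
        simp [Algebra.smul_def] }
  have hf : ∀ z, f z = polar QK v z := fun z => rfl
  have hlt : Y.map f < ⊤ := by
    rw [lt_top_iff_ne_top]
    intro htop
    have h1 := LinearMap.finrank_range_add_finrank_ker (f.domRestrict Y)
    have h3 : LinearMap.range (f.domRestrict Y) = Y.map f := by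
      rw [LinearMap.range_domRestrict]
    rw [h3, htop, finrank_top, hY.finrank] at h1
    have h4 : Module.finrank F (LinearMap.ker (f.domRestrict Y)) = 0 := by omega
    have h5 : LinearMap.ker (f.domRestrict Y) = ⊥ := Submodule.finrank_eq_zero.1 h4
    have h6 : (⟨v, hvY⟩ : Y) ∈ LinearMap.ker (f.domRestrict Y) := by
      rw [LinearMap.mem_ker]
      show polar QK v v = 0
      exact hyp.polar_left
    rw [h5, Submodule.mem_bot] at h6
    exact hyp.left_ne (congrArg Subtype.val h6)
  obtain ⟨φ, hφ0, hφ⟩ := Submodule.exists_le_ker_of_lt_top _ hlt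
  obtain ⟨μ, hμ⟩ := exists_delta hT.ne φ
  have hμ0 : μ ≠ 0 := by
    rintro rfl
    apply hφ0
    ext k
    rw [hμ, mul_zero, map_zero]
    rfl
  have hμY : ∀ z ∈ Y, τ (polar QK v z * μ) = 0 := by
    intro z hz
    rw [← hμ, ← hf]
    exact hφ ⟨z, hz, rfl⟩
  set γ := polar QK v y with hγ
  obtain ⟨w, hvw, hv'w, hQw⟩ := exists_norm_perp hP.nondeg h2 hd hyp (μ * γ⁻¹)
  have hQw0 : QK w ≠ 0 := by rw [hQw]; exact mul_ne_zero hμ0 (inv_ne_zero hvy)
  have hwY : ∀ z ∈ Y, polar QK w z = 0 := by
    intro z hz
    obtain ⟨x, y, e⟩ := Submodule.mem_span_pair.1 (hYP z hz)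
    rw [← e, polar_add_right, polar_smul_right, polar_smul_right, polar_comm QK w v, hvw,
      polar_comm QK w v', hv'w]
    simp
  set a := siegel QK v w hyp.left hvw with ha
  have haE : a ∈ E QK := siegel_mem_E hyp.left hvw
  have haH : (rs a : V ≃ₗ[F] V) ∈ H := hPre.hE a haE
  have hact : ∀ z ∈ Y, a z = z + polar QK v z • w - (QK w * polar QK v z) • v := by
    intro z hz
    rw [ha, siegel_apply, hwY z hz]
    simp
  set Y₂ := Y.map ((rs a : V ≃ₗ[F] V) : V →ₗ[F] V) with hY₂
  have hY₂P : IsPoint QK H Y₂ := hY.map haH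
  -- `y` is orthogonal to `Y₂`
  have hyperp : ∀ z ∈ Y₂, polar Q y z = 0 := by
    rintro _ ⟨z, hz, rfl⟩
    show polar Q y (a z) = 0
    have e : a z = z + (polar QK v z • w - (QK w * polar QK v z) • v) := by
      rw [hact z hz]; abel
    rw [e, polar_add_right, polar_zero_of_ts (hY.sing hPre) hyY hz, zero_add, hT.pol,
      polar_sub_right, polar_smul_right, polar_smul_right, polar_comm QK y w, hwY y hyY,
      polar_comm QK y v, ← hγ, hQw]
    have e2 : polar QK v z • (0 : K) - (μ * γ⁻¹ * polar QK v z) • γ = -(polar QK v z * μ) := by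
      simp only [smul_eq_mul]
      field_simp
      ring
    rw [e2, map_neg, hμY z hz, neg_zero]
  have hyY₂ : y ∉ Y₂ := by
    rintro ⟨z, hz, e⟩
    have e' : a z = y := e
    rw [hact z hz] at e'
    have h1 : polar QK w (z + polar QK v z • w - (QK w * polar QK v z) • v) = polar QK w y := by
      rw [e']
    rw [polar_sub_right, polar_add_right, hwY z hz, hwY y hyY, polar_smul_right,
      polar_smul_right, polar_self', polar_comm QK w v, hvw] at h1
    have h3 : polar QK v z * (2 * QK w) = 0 := by simpa using h1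
    have h4 : polar QK v z = 0 := (mul_eq_zero.1 h3).resolve_right (mul_ne_zero h2 hQw0)
    rw [h4] at e'
    have e'' : z = y := by simpa using e'
    apply hvy
    rw [hγ, ← e'']
    exact h4
  have hne2 : Y₂ ≠ Y := fun h => hyY₂ (h ▸ hyY)
  have hint2 : s ≤ Module.finrank F (Y₂ ⊓ Y : Submodule F V) := by
    refine le_trans hint (Submodule.finrank_mono (le_inf (fun x hx => ?_) inf_le_right))
    exact ⟨x, hx.2, siegel_fix_line hyp.left hvw hx.1⟩
  obtain ⟨g, hg, v₁, hv₁, hv₁0, e₁, hv₁Y, hne₁⟩ := exists_line_pair hY₂P hne2 (le_trans hs1 hint2)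
  have hint3 : s ≤ Module.finrank F (line F K v₁ ⊓ Y.map (g : V →ₗ[F] V) : Submodule F V) := by
    rw [← e₁, finrank_map_inf]
    exact hint2
  have hgy : g y ∈ Y.map (g : V →ₗ[F] V) := ⟨y, hyY, rfl⟩
  have hgyX : g y ∉ line F K v₁ := by
    rw [← e₁]
    rintro ⟨z, hz, e⟩
    have : z = y := g.injective e
    exact hyY₂ (this ▸ hz)
  have hv₁y : polar QK v₁ (g y) = 0 := by
    apply hT.perp_line
    intro k
    have : k • v₁ ∈ Y₂.map (g : V →ₗ[F] V) := by rw [e₁]; exact smul_mem_line k v₁
    obtain ⟨z, hz, e⟩ := this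
    rw [← e]
    show polar Q (g z) (g y) = 0
    rw [polar_map (hP.hHO hg), polar_comm]
    exact hyperp z hz
  by_cases horth : ∀ z ∈ Y.map (g : V →ₗ[F] V), polar QK v₁ z = 0
  · exact adj_step_orth hPre hr h2 hs hv₁ hv₁0 (hY.map hg) hne₁ hv₁Y hint3 horth
  · push Not at horth
    obtain ⟨z, hz, hvz⟩ := horth
    exact adj_step_degenerate hPre h2 hd hv₁ hv₁0 (hY.map hg) hne₁ hv₁Y hint3 hgy hgyX hv₁y hz hvz

/-- **Stage 2, dimension `4`.** -/
theorem adj_all_four [Finite K] (hP : PreC τ QK Q H) (hr : (Module.finrank F K).Prime)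
    (hr3 : 3 ≤ Module.finrank F K) (h2 : (2 : K) ≠ 0) (hd : Module.finrank K V = 4)
    (h1 : Adj QK H 1) (s : ℕ) (hs : s + 1 ≤ Module.finrank F K) : Adj QK H s := by
  induction s with
  | zero =>
    obtain ⟨X, Y, hX, hY, hne, -⟩ := h1
    exact ⟨X, Y, hX, hY, hne, Nat.zero_le _⟩
  | succ s ih =>
    rcases Nat.eq_zero_or_pos s with rfl | hs0
    · exact h1
    have hPre := hP.pre h2
    obtain ⟨X, Y, hX, hY, hne, hint⟩ := ih (by omega)
    obtain ⟨g, hg, v, hv, hv0, e, hvY, hne'⟩ := exists_line_pair hX hne (le_trans hs0 hint)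
    have hint' : s ≤ Module.finrank F (line F K v ⊓ Y.map (g : V →ₗ[F] V) : Submodule F V) := by
      rw [← e, finrank_map_inf]
      exact hint
    have hY' : IsPoint QK H (Y.map (g : V →ₗ[F] V)) := hY.map hg
    by_cases horth : ∀ y ∈ Y.map (g : V →ₗ[F] V), polar QK v y = 0
    · exact adj_step_orth hPre hr h2 (by omega) hv hv0 hY' hne' hvY hint' horth
    · push Not at horth
      obtain ⟨y, hy, hvy⟩ := horth
      have hyX : y ∉ line F K v := by
        intro h
        obtain ⟨k, rfl⟩ := mem_line.1 h
        apply hvy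
        rw [polar_smul_right, polar_self_of_sing hv, smul_zero]
      obtain ⟨v', hyp, -, hyP⟩ := exists_plane hv hvy
      by_cases hout : ∃ y₂ ∈ Y.map (g : V →ₗ[F] V), y₂ ∉ Submodule.span K {v, v'}
      · obtain ⟨y₂, hy₂, hy₂P⟩ := hout
        exact adj_step_out hP hr hr3 h2 hd hyp hY' hne' hvY hint' hy hyX hyP hy₂ hy₂P
      · push Not at hout
        exact adj_step_in hP hr h2 (by omega) hs0 (by omega) hyp hY' hne' hvY hint' hy hvy hout

end Fin

end Cfsg.Agent.H925.Ext
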