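import Cfsg.Agent.H925.ExtStep

/-!
# Overgroups of `Ω(V, QK)` in `Ω(V, τ ∘ QK)`, VIII: the theorem when `dim_K V ≥ 5`
-/

set_option autoImplicit false
set_option linter.unusedSectionVars false

namespace Cfsg.Agent.H925.Ext

open QuadraticMap Cfsg.Agent.LieClassical.OrthCore Cfsg.Agent.LieClassical.OrthTrans
  Cfsg.Agent.LieClassical.OrthFinite Cfsg.Agent.H883.Root Cfsg.Agent.H883.Sub

variable {F K V : Type*} [Field F] [Field K] [Algebra F K] [AddCommGroup V]
  [Module F V] [Module K V] [IsScalarTower F K V]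

variable {τ : K →ₗ[F] F} {QK : QuadraticForm K V} {Q : QuadraticForm F V}
  {H : Subgroup (V ≃ₗ[F] V)}

section Fin

variable [FiniteDimensional F V] [FiniteDimensional F K]

theorem exists_sub_mem {X Z : Submodule F V} (hZX : Z ≤ X) {a : V} (ha : a ∈ X) (haZ : a ∉ Z)
    (hfin : Module.finrank F X ≤ Module.finrank F Z + 1) : ∀ x ∈ X, ∃ c : F, x - c • a ∈ Z := by
  have h1 := finrank_sup_line (le_refl (Module.finrank F Z)) haZ
  have h2 : Z ⊔ Submodule.span F {a} = X := by
    apply Submodule.eq_of_le_of_finrank_le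
    · refine sup_le hZX ?_
      rw [Submodule.span_singleton_le_iff_mem]
      exact ha
    · omega
  intro x hx
  rw [← h2] at hx
  obtain ⟨z, hz, y, hy, rfl⟩ := Submodule.mem_sup.1 hx
  obtain ⟨c, rfl⟩ := Submodule.mem_span_singleton.1 hy
  exact ⟨c, by rw [add_sub_cancel_right]; exact hz⟩

/-- From a non-orthogonal pair of points meeting in a hyperplane to `E Q ≤ H`. -/
theorem Setup.of_nonOrthAdj [Finite F] (hS : Setup τ QK Q H) (h2 : (2 : F) ≠ 0)
    (hA : NonOrthAdj QK Q H) : E Q ≤ H := by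
  have hP : Pre τ QK Q H := ⟨hS.tr, hS.nondeg, hS.hHO, hS.hE⟩
  have hdim := hS.dim
  have hdeg := hS.deg
  have hG : Good Q := good_of_finite (hS.tr.nondeg hS.nondeg) (by omega)
  obtain ⟨X, Y, hX, hY, hint, a, ha, b, hb, hab⟩ := hA
  obtain ⟨g, hg, v, hv, hv0, e⟩ := hX.exists_line
  have hgO := hS.hHO hg
  have hY' : IsPoint QK H (Y.map (g : V →ₗ[F] V)) := hY.map hg
  have ha' : g a ∈ line F K v := by rw [← e]; exact ⟨a, ha, rfl⟩
  have hb' : g b ∈ Y.map (g : V →ₗ[F] V) := ⟨b, hb, rfl⟩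
  have hab' : polar Q (g a) (g b) ≠ 0 := by rw [polar_map hgO]; exact hab
  have hint' : Module.finrank F K ≤
      Module.finrank F (line F K v ⊓ Y.map (g : V →ₗ[F] V) : Submodule F V) + 1 := by
    rw [← e, finrank_map_inf]; exact hint
  have haZ : g a ∉ line F K v ⊓ Y.map (g : V →ₗ[F] V) :=
    fun h => hab' (polar_zero_of_ts (hY'.sing hP) h.2 hb')
  have hbZ : g b ∉ line F K v ⊓ Y.map (g : V →ₗ[F] V) :=
    fun h => hab' (polar_zero_of_ts (line_sing hS.tr hv) ha' h.1)
  exact hS.core h2 hG hv hv0 (hY'.isPt hP) (hY'.sing hP) inf_le_left inf_le_right ha' hb'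
    (exists_sub_mem inf_le_left ha' haZ (by rw [finrank_line hv0]; exact hint'))
    (exists_sub_mem inf_le_right hb' hbZ (by rw [hY'.finrank]; exact hint')) hab'

theorem setup_of_five [Finite K] (hP : Pre τ QK Q H) (hd : 5 ≤ Module.finrank K V)
    (hr : 2 ≤ Module.finrank F K) : Setup τ QK Q H where
  tr := hP.tr
  nondeg := hP.nondeg
  hHO := hP.hHO
  hE := hP.hE
  trans := by
    intro v v' hv hv' hv0 hv'0
    obtain ⟨g, hg, e⟩ := (good_of_finite hP.nondeg hd).trans_sing hv hv' hv0 hv'0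
    exact ⟨g, E_le_O hg, hP.hE g hg, 1, one_ne_zero, by rw [one_smul]; exact e⟩
  vals := by
    intro v hv hv0 κ hκ
    have hG : Good QK := good_of_finite hP.nondeg hd
    obtain ⟨v', hyp⟩ := Cfsg.Agent.LieClassical.OrthTrans.exists_hyp hP.nondeg hv hv0
    obtain ⟨b, c, hbc, hvb, hvc, hv'b, hv'c⟩ := hG.exists_hyp2 hyp
    obtain ⟨h1, h2⟩ := exists_value hbc κ
    apply Submodule.subset_span
    refine ⟨b + κ • c, ?_, ?_, h1, hκ⟩
    · rw [polar_add_right, polar_smul_right, hvb, hvc, smul_zero, add_zero]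
    · intro h
      obtain ⟨k, hk⟩ := mem_line.1 h
      have h3 : polar QK v' (k • v) = k := by
        rw [polar_smul_right, hyp.pair', smul_eq_mul, mul_one]
      have h4 : polar QK v' (b + κ • c) = 0 := by
        rw [polar_add_right, polar_smul_right, hv'b, hv'c, smul_zero, add_zero]
      rw [← hk, h3] at h4
      rw [h4, zero_smul] at hk
      exact h2 hk.symm
  sing := by
    obtain ⟨v, hv0, hv⟩ := (good_of_finite hP.nondeg hd).sing
    exact ⟨v, hv0, hv⟩
  deg := hr
  dim := by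
    rw [← Module.finrank_mul_finrank F K V]
    nlinarith

/-- **Overgroups of `Ω(V, QK)`, `dim_K V ≥ 5`.** -/
theorem main_five [Finite F] [Finite K] (hP : Pre τ QK Q H) (h2 : (2 : F) ≠ 0)
    (hd : 5 ≤ Module.finrank K V) (hr : (Module.finrank F K).Prime)
    (hH : ¬ ∀ g ∈ H, NormK K g) : E Q ≤ H := by
  have h2K : (2 : K) ≠ 0 := by
    intro h0
    apply h2
    apply (algebraMap F K).injective
    rw [map_ofNat, map_zero]
    exact h0
  push Not at hH
  obtain ⟨g, hg, hgK⟩ := hH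
  obtain ⟨u, v, hyp⟩ := (good_of_finite hP.nondeg hd).exists_hyp
  obtain ⟨v, k, hv, hv0, hk⟩ := exists_not_line hP.tr hP.nondeg (by omega) h2K hyp (hP.hHO hg) hgK
  have hY : IsPoint QK H ((line F K v).map (g : V →ₗ[F] V)) := (isPoint_line hv hv0).map hg
  have h1 : Adj QK H 1 := adj_one hP (by omega) h2K hY (x := g v) (y := g (k • v))
    ⟨v, self_mem_line v, rfl⟩ ⟨k • v, smul_mem_line k v, rfl⟩
    (fun h0 => hv0 (g.injective (by rw [h0, map_zero]))) hk
  have h3 := adj_all hP hr h2K hd h1 (Module.finrank F K - 1) (by have := hr.two_le; omega)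
  exact (setup_of_five hP hd hr.two_le).of_nonOrthAdj h2
    (nonOrthAdj_of_adj hP h2K hd hr.two_le h3)

end Fin

end Cfsg.Agent.H925.Ext
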