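import Cfsg.Agent.H925.ExtAdj

/-!
# Overgroups of `Ω(V, QK)` in `Ω(V, τ ∘ QK)`, VII: increasing the intersection of two points
-/

set_option autoImplicit false
set_option linter.unusedSectionVars false

namespace Cfsg.Agent.H925.Ext

open QuadraticMap Cfsg.Agent.LieClassical.OrthCore Cfsg.Agent.LieClassical.OrthTrans
  Cfsg.Agent.LieClassical.OrthFinite Cfsg.Agent.H883.Root Cfsg.Agent.H883.Sub

variable {F K V : Type*} [Field F] [Field K] [Algebra F K] [AddCommGroup V]
  [Module F V] [Module K V] [IsScalarTower F K V]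

variable {τ : K →ₗ[F] F} {QK : QuadraticForm K V} {Q : QuadraticForm F V}
  {H : Subgroup (V ≃ₗ[F] V)}

section Fin

variable [FiniteDimensional F V] [FiniteDimensional F K]

omit [FiniteDimensional F V] [FiniteDimensional F K] in
theorem siegel_fix_smul {u w x : V} (hu : QK u = 0) (hw : polar QK u w = 0)
    (h1 : polar QK u x = 0) (h2 : polar QK w x = 0) (k : K) :
    siegel QK u w hu hw (k • x) = k • x := by
  rw [map_smul, siegel_fix hu hw h1 h2]

/-- Auxiliary: vectors moving `y` and fixing the nonzero vector `x`, `y ∉ K x`. -/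
theorem exists_uw [Finite K] (hQ : Nondeg QK) (hd : 4 ≤ Module.finrank K V) {x y : V} (hx0 : x ≠ 0)
    (hy : ∀ c : K, y ≠ c • x) : ∃ u w, QK u = 0 ∧ polar QK u w = 0 ∧ polar QK x u = 0 ∧
      polar QK x w = 0 ∧ polar QK u y • w - polar QK w y • u ≠ 0 := by
  by_cases hx : QK x = 0
  · by_cases hxy : polar QK x y = 0
    · obtain ⟨w, hw1, hw2⟩ := exists_sep hQ hy
      refine ⟨x, w, hx, hw1, polar_self_of_sing hx, hw1, ?_⟩
      rw [hxy, zero_smul, zero_sub, neg_ne_zero, polar_comm, hw2, one_smul]
      exact hx0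
    · obtain ⟨x', hyp⟩ := Cfsg.Agent.LieClassical.OrthTrans.exists_hyp hQ hx hx0
      obtain ⟨w, hw0, hw⟩ := exists_perp_ne (Q := QK) ![x, x'] (by omega)
      have hxw : polar QK x w = 0 := hw 0
      have hx'w : polar QK x' w = 0 := hw 1
      refine ⟨x, w, hx, hxw, polar_self_of_sing hx, hxw, fun h0 => ?_⟩
      have h1 : polar QK x' (polar QK x y • w - polar QK w y • x) = 0 := by
        rw [h0, polar_zero_right]
      rw [polar_sub_right, polar_smul_right, polar_smul_right, hx'w, hyp.pair', smul_zero, zero_sub,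
        neg_eq_zero, smul_eq_mul, mul_one] at h1
      rw [h1, zero_smul, sub_zero] at h0
      exact (smul_ne_zero hxy hw0) h0
  · obtain ⟨e, he0, he, hxe'⟩ := exists_sing_perp (Q := QK) ![x] (by omega)
    have hxe : polar QK x e = 0 := hxe' 0
    have hex : ∀ c : K, e ≠ c • x := by
      rintro c rfl
      rw [QuadraticMap.map_smul, smul_eq_mul] at he
      have hc : c ≠ 0 := by rintro rfl; exact he0 (zero_smul K x)
      exact (mul_ne_zero (mul_ne_zero hc hc) hx) he
    obtain ⟨f', hf1, hf2⟩ := exists_sep hQ hex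
    have hyp : Hyp QK e (f' + (-QK f') • e) := by
      refine ⟨he, ?_, ?_⟩
      · rw [Q_add, QuadraticMap.map_smul, he, polar_smul_right, polar_comm QK f' e, hf2]
        simp
      · rw [polar_add_right, polar_smul_right, polar_self_of_sing he, hf2]
        simp
    have hxf : polar QK x (f' + (-QK f') • e) = 0 := by
      rw [polar_add_right, polar_smul_right, hf1, hxe]; simp
    obtain ⟨u, hu, hxu, huy⟩ : ∃ u, QK u = 0 ∧ polar QK x u = 0 ∧ polar QK u y ≠ 0 := by
      by_contra hcon
      push Not at hcon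
      obtain ⟨w, hw1, hw2⟩ := exists_sep hQ hy
      have := sing_induction_perp (Q := QK) (x := e) (y := f' + (-QK f') • e) (z := x) (w := x) hyp
        hxe hxf hxe hxf (P := fun v => polar QK v y = 0)
        (fun a c _ _ _ _ ha hc => by rw [polar_add_left, ha, hc, add_zero])
        (fun a ha hxa _ => hcon a ha hxa) w hw1 hw1
      rw [polar_comm, hw2] at this
      exact one_ne_zero this
    have hu0 : u ≠ 0 := by rintro rfl; exact huy (polar_zero_left QK y)
    obtain ⟨u', hu'⟩ := hQ.exists_polar_eq hu0 1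
    obtain ⟨w, hw0, hw⟩ := exists_perp_ne (Q := QK) ![x, u, u'] (by omega)
    have hxw : polar QK x w = 0 := hw 0
    have huw : polar QK u w = 0 := hw 1
    have hu'w : polar QK u' w = 0 := hw 2
    refine ⟨u, w, hu, huw, hxu, hxw, fun h0 => ?_⟩
    have h1 : polar QK u' (polar QK u y • w - polar QK w y • u) = 0 := by
      rw [h0, polar_zero_right]
    rw [polar_sub_right, polar_smul_right, polar_smul_right, hu'w, polar_comm QK u' u, hu',
      smul_zero, zero_sub, neg_eq_zero, smul_eq_mul, mul_one] at h1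
    rw [h1, zero_smul, sub_zero] at h0
    exact (smul_ne_zero huy hw0) h0

/-- **Stage 1.** -/
theorem adj_one [Finite K] (hP : Pre τ QK Q H) (hd : 4 ≤ Module.finrank K V) (h2 : (2 : K) ≠ 0)
    {Y : Submodule F V} (hY : IsPoint QK H Y) {x y : V} (hx : x ∈ Y) (hy : y ∈ Y) (hx0 : x ≠ 0)
    (hyx : y ∉ line F K x) : Adj QK H 1 := by
  have hnl := hY.not_line hx hx0 (fun h => hyx (h ▸ hy))
  have hyx' : ∀ c : K, y ≠ c • x := fun c h => hyx (mem_line.2 ⟨c, h.symm⟩)
  obtain ⟨u, w, hu, huw, hxu, hxw, hne⟩ := exists_uw hP.nondeg hd hx0 hyx'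
  obtain ⟨ω, hω, hmove⟩ := exists_move h2 hnl hu huw hy hne
  refine adj_of_move hP hY (siegel_mem_E hu hω) (S := Submodule.span F {x}) ?_ ?_ ?_ hy hmove
  · rw [finrank_span_singleton hx0]
  · rw [Submodule.span_singleton_le_iff_mem]
    exact hx
  · intro z hz
    obtain ⟨c, rfl⟩ := Submodule.mem_span_singleton.1 hz
    refine ⟨c • x, Y.smul_mem c hx, ?_⟩
    have h1 : siegel QK u (ω • w) hu hω x = x := by
      apply siegel_fix
      · rw [polar_comm, hxu]
      · rw [polar_smul_left, polar_comm, hxw, smul_zero]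
    rw [← algebraMap_smul K c x, map_smul, h1]

/-- Every `κ ∉ F` generates `K` when the degree is prime: an `F`-subspace of `K` closed under `κ` and
containing `1` is everything. -/
theorem eq_top_of_closed (hr : (Module.finrank F K).Prime) {κ : K} (hκ : ∀ c : F, κ ≠ c • (1 : K))
    {S : Submodule F K} (h1 : (1 : K) ∈ S) (hS : ∀ s ∈ S, κ * s ∈ S) : S = ⊤ := by
  have := Subalgebra.isSimpleOrder_of_finrank_prime F K hr
  have h3 : Algebra.adjoin F {κ} = ⊤ := by
    rcases eq_bot_or_eq_top (Algebra.adjoin F {κ}) with h | h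
    · exfalso
      have h4 : κ ∈ Algebra.adjoin F {κ} := Algebra.self_mem_adjoin_singleton F κ
      rw [h, Algebra.mem_bot] at h4
      obtain ⟨c, hc⟩ := h4
      exact hκ c (by rw [← hc, Algebra.smul_def, mul_one])
    · exact h
  rw [eq_top_iff]
  intro k hk'
  clear hk'
  have hk : k ∈ Algebra.adjoin F {κ} := by rw [h3]; exact Algebra.mem_top
  have h5 : ∀ s ∈ S, k * s ∈ S := by
    induction hk using Algebra.adjoin_induction with
    | mem x hx =>
      rw [Set.mem_singleton_iff] at hx
      subst hx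
      exact hS
    | algebraMap c =>
      intro s hs
      rw [← Algebra.smul_def]
      exact S.smul_mem c hs
    | add x y _ _ hx hy =>
      intro s hs
      rw [add_mul]
      exact S.add_mem (hx s hs) (hy s hs)
    | mul x y _ _ hx hy =>
      intro s hs
      rw [mul_assoc]
      exact hx _ (hy s hs)
  have := h5 1 h1
  rwa [mul_one] at this

/-- **Stage 2, orthogonal pairs.** -/
theorem adj_step_orth (hP : Pre τ QK Q H) (hr : (Module.finrank F K).Prime) (h2 : (2 : K) ≠ 0)
    {s : ℕ} (hs : s + 2 ≤ Module.finrank F K) {v : V} (hv : QK v = 0) (hv0 : v ≠ 0)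
    {Y : Submodule F V} (hY : IsPoint QK H Y) (hne : line F K v ≠ Y) (hvY : v ∈ Y)
    (hint : s ≤ Module.finrank F (line F K v ⊓ Y : Submodule F V))
    (horth : ∀ y ∈ Y, polar QK v y = 0) : Adj QK H (s + 1) := by
  have hX : IsPoint QK H (line F K v) := isPoint_line hv hv0
  have hnl := hY.not_line hvY hv0 hne
  by_cases hint' : s + 1 ≤ Module.finrank F (line F K v ⊓ Y : Submodule F V)
  · exact ⟨_, _, hX, hY, hne, hint'⟩
  have hYX : ¬ Y ≤ line F K v := fun h => hne (hY.eq_of_le hX h).symm
  obtain ⟨y, hyY, hyX⟩ := Set.not_subset.1 hYX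
  change y ∈ Y at hyY
  change y ∉ line F K v at hyX
  have hyc : ∀ c : K, y ≠ c • v := fun c h => hyX (mem_line.2 ⟨c, h.symm⟩)
  -- a Siegel transformation attached to `v` moving `Y` and with a large fixed space
  have key : ∀ (w : V) (y₀ : V), y₀ ∈ Y → y₀ ∉ line F K v → ∀ hvw : polar QK v w = 0,
      (∃ y₁ ∈ Y, siegel QK v w hv hvw y₁ = y₀) → ∀ y₂ ∈ Y, siegel QK v w hv hvw y₂ ∉ Y →
      Adj QK H (s + 1) := by
    intro w y₀ hy₀ hy₀X hvw hy₁ y₂ hy₂ hmove
    refine adj_of_move hP hY (siegel_mem_E hv hvw)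
      (S := (line F K v ⊓ Y) ⊔ Submodule.span F {y₀})
      (finrank_sup_line hint fun h => hy₀X h.1) ?_ ?_ hy₂ hmove
    · refine sup_le inf_le_right ?_
      rw [Submodule.span_singleton_le_iff_mem]
      exact hy₀
    · intro x hx
      obtain ⟨x₁, hx₁, x₂, hx₂, rfl⟩ := Submodule.mem_sup.1 hx
      obtain ⟨c, rfl⟩ := Submodule.mem_span_singleton.1 hx₂
      obtain ⟨y₁, hy₁Y, hy₁e⟩ := hy₁
      refine ⟨x₁ + c • y₁, Y.add_mem hx₁.2 (Y.smul_mem c hy₁Y), ?_⟩
      rw [map_add, siegel_fix_line hv hvw hx₁.1, ← algebraMap_smul K c y₁, map_smul, hy₁e,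
        algebraMap_smul]
  by_cases hA : ∃ y₂ ∈ Y, y₂ ∉ Submodule.span K {v, y}
  · -- case A
    obtain ⟨y₂, hy₂, hy₂s⟩ := hA
    have : FiniteDimensional K V := FiniteDimensional.right F K V
    obtain ⟨w, hw, hwy⟩ : ∃ w ∈ perp QK (Submodule.span K {v, y}), polar QK w y₂ ≠ 0 := by
      by_contra hcon
      push Not at hcon
      apply hy₂s
      rw [← perp_perp hP.nondeg (Submodule.span K {v, y})]
      exact mem_perp.2 hcon
    have hvw : polar QK v w = 0 := mem_perp.1 hw v (Submodule.subset_span (by simp))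
    have hyw : polar QK y w = 0 := mem_perp.1 hw y (Submodule.subset_span (by simp))
    obtain ⟨ω, hω, hmove⟩ := exists_move h2 hnl hv hvw hy₂ (by
      rw [horth y₂ hy₂, zero_smul, zero_sub, neg_ne_zero]
      exact smul_ne_zero hwy hv0)
    refine key (ω • w) y hyY hyX hω ⟨y, hyY, ?_⟩ y₂ hy₂ hmove
    apply siegel_fix
    · exact horth y hyY
    · rw [polar_smul_left, polar_comm, hyw, smul_zero]
  · -- case B
    push Not at hA
    obtain ⟨w, hvw, hyw⟩ := exists_sep hP.nondeg hyc
    have hwy : polar QK w y = 1 := by rw [polar_comm]; exact hyw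
    have hwv : polar QK w v = 0 := by rw [polar_comm]; exact hvw
    have hω : ∀ ω : K, polar QK v (ω • w) = 0 := fun ω => by
      rw [polar_smul_right, hvw, smul_zero]
    have hact : ∀ ω : K, ∀ z ∈ Y, siegel QK v (ω • w) hv (hω ω) z =
        z - (ω * polar QK w z) • v := by
      intro ω z hz
      rw [siegel_apply, horth z hz, polar_smul_left]
      simp
    -- an element with a coordinate outside `F`
    obtain ⟨z, hz, hzF⟩ : ∃ z ∈ Y, ∀ c : F, polar QK w z ≠ c • (1 : K) := by
      by_contra hcon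
      push Not at hcon
      choose! f hf using hcon
      -- then `Y = (X ∩ Y) + F y`
      have hle : Y ≤ (line F K v ⊓ Y) ⊔ Submodule.span F {y} := by
        intro z hz
        have h3 : z - f z • y ∈ line F K v := by
          obtain ⟨α, γ, e⟩ := Submodule.mem_span_pair.1 (hA z hz)
          have h4 : polar QK w z = γ := by
            rw [← e, polar_add_right, polar_smul_right, polar_smul_right, hwv, hwy, smul_zero,
              zero_add, smul_eq_mul, mul_one]
          rw [hf z hz] at h4
          have e'' : α • v + (f z • (1 : K)) • y = z := by rw [h4]; exact e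
          rw [smul_assoc, one_smul] at e''
          exact mem_line.2 ⟨α, eq_sub_of_add_eq e''⟩
        have e : z = (z - f z • y) + f z • y := by abel
        rw [e]
        exact Submodule.add_mem_sup ⟨h3, Y.sub_mem hz (Y.smul_mem _ hyY)⟩
          (Submodule.smul_mem _ _ (Submodule.mem_span_singleton_self y))
      have h3 := Submodule.finrank_mono hle
      have h4 := Submodule.finrank_add_le_finrank_add_finrank (line F K v ⊓ Y)
        (Submodule.span F {y})
      have hy0 : y ≠ 0 := by
        rintro rfl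
        exact hyX (line F K v).zero_mem
      rw [finrank_span_singleton hy0] at h4
      rw [hY.finrank] at h3
      omega
    -- either some Siegel transformation works or `X ∩ Y` is everything
    by_cases hstab : ∀ s₀ : K, s₀ • v ∈ Y → (polar QK w z * s₀) • v ∈ Y
    · exfalso
      let S : Submodule F K := Y.comap ((LinearMap.toSpanSingleton K V v).restrictScalars F)
      have hSmem : ∀ k : K, k ∈ S ↔ k • v ∈ Y := fun k => Iff.rfl
      have hS : S = ⊤ := by
        refine eq_top_of_closed hr hzF ?_ ?_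
        · rw [hSmem, one_smul]; exact hvY
        · intro s hs
          exact hstab s hs
      apply hnl v hv0
      intro x hx
      obtain ⟨k, rfl⟩ := mem_line.1 hx
      have : k ∈ S := by rw [hS]; trivial
      exact this
    · push Not at hstab
      obtain ⟨s₀, hs₀, hs₀'⟩ := hstab
      have h3 : siegel QK v (s₀ • w) hv (hω s₀) y = y - s₀ • v := by
        rw [hact s₀ y hyY, hwy, mul_one]
      refine key (s₀ • w) y hyY hyX (hω s₀) ⟨y + s₀ • v, Y.add_mem hyY hs₀, ?_⟩ z hz ?_
      · rw [map_add, h3, siegel_fix_line hv (hω s₀) (smul_mem_line (F := F) s₀ v)]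
        abel
      · rw [hact s₀ z hz]
        intro h4
        apply hs₀'
        have := Y.sub_mem hz h4
        rwa [sub_sub_cancel, mul_comm] at this

/-- The plane spanned by `v` and a vector not orthogonal to it. -/
theorem exists_plane {v y : V} (hv : QK v = 0) (hvy : polar QK v y ≠ 0) :
    ∃ v', Hyp QK v v' ∧ v' ∈ Submodule.span K {v, y} ∧ y ∈ Submodule.span K {v, v'} := by
  set β := polar QK v y with hβ
  refine ⟨β⁻¹ • y - QK (β⁻¹ • y) • v, ⟨hv, ?_, ?_⟩, ?_, ?_⟩
  · rw [sub_eq_add_neg, ← neg_smul, Q_add, QuadraticMap.map_smul _ (-_) v, hv, polar_smul_right,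
      polar_smul_left, polar_comm QK y v, ← hβ]
    simp only [smul_eq_mul, inv_mul_cancel₀ hvy]
    ring
  · rw [polar_sub_right, polar_smul_right, polar_smul_right, polar_self_of_sing hv, ← hβ,
      smul_eq_mul, inv_mul_cancel₀ hvy]
    simp
  · exact Submodule.sub_mem _ (Submodule.smul_mem _ _ (Submodule.subset_span (by simp)))
      (Submodule.smul_mem _ _ (Submodule.subset_span (by simp)))
  · rw [Submodule.mem_span_pair]
    refine ⟨β * QK (β⁻¹ • y), β, ?_⟩
    rw [smul_sub, smul_smul, smul_smul, mul_inv_cancel₀ hvy, one_smul, add_comm, sub_add_cancel]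

/-- **Stage 2, non-orthogonal pairs.** -/
theorem adj_step_nonorth [Finite K] (hP : Pre τ QK Q H) (hr : (Module.finrank F K).Prime)
    (h2 : (2 : K) ≠ 0) (hd : 5 ≤ Module.finrank K V) {s : ℕ} (hs1 : 1 ≤ s)
    (hs : s + 2 ≤ Module.finrank F K) {v : V} (hv : QK v = 0) (hv0 : v ≠ 0)
    {Y : Submodule F V} (hY : IsPoint QK H Y) (hne : line F K v ≠ Y) (hvY : v ∈ Y)
    (hint : s ≤ Module.finrank F (line F K v ⊓ Y : Submodule F V)) {y : V} (hyY : y ∈ Y)
    (hvy : polar QK v y ≠ 0) : Adj QK H (s + 1) := by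
  have hG : Good QK := good_of_finite hP.nondeg hd
  have hX : IsPoint QK H (line F K v) := isPoint_line hv hv0
  have hnl := hY.not_line hvY hv0 hne
  have hyX : y ∉ line F K v := by
    intro h
    obtain ⟨k, rfl⟩ := mem_line.1 h
    apply hvy
    rw [polar_smul_right, polar_self_of_sing hv, smul_zero]
  obtain ⟨v', hyp, -, hyv'⟩ := exists_plane hv hvy
  obtain ⟨e, f, hef, hve, hvf, hv'e, hv'f⟩ := hG.exists_hyp2 hyp
  by_cases hA : ∃ y₂ ∈ Y, y₂ ∉ Submodule.span K {v, v'}
  · -- case A
    obtain ⟨y₂, hy₂, hy₂s⟩ := hA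
    obtain ⟨u, hu, hvu, hv'u, huy⟩ : ∃ u, QK u = 0 ∧ polar QK v u = 0 ∧ polar QK v' u = 0 ∧
        polar QK u y₂ ≠ 0 := by
      by_contra hcon
      push Not at hcon
      have h3 := sing_induction_perp (Q := QK) (x := e) (y := f) (z := v) (w := v') hef
        hve hvf hv'e hv'f (P := fun u => polar QK u y₂ = 0)
        (fun a c _ _ _ _ ha hc => by rw [polar_add_left, ha, hc, add_zero])
        (fun a ha hva hv'a => hcon a ha hva hv'a)
      apply hy₂s
      have h4 : Cfsg.Agent.LieClassical.OrthTrans.proj QK v v' y₂ = 0 := by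
        apply hP.nondeg
        intro z
        have h5 := polar_proj_of_perp (Q := QK) (w := Cfsg.Agent.LieClassical.OrthTrans.proj QK v v' y₂) (polar_proj_left hyp _)
          (polar_proj_right hyp _) z
        rw [← h5, polar_comm,
          polar_proj_of_perp (polar_proj_left hyp _) (polar_proj_right hyp _)]
        exact h3 _ (polar_proj_left hyp _) (polar_proj_right hyp _)
      rw [Cfsg.Agent.LieClassical.OrthTrans.proj, sub_sub, sub_eq_zero] at h4
      rw [h4]
      exact Submodule.add_mem _ (Submodule.smul_mem _ _ (Submodule.subset_span (by simp)))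
        (Submodule.smul_mem _ _ (Submodule.subset_span (by simp)))
    have hu0 : u ≠ 0 := by rintro rfl; exact huy (polar_zero_left QK y₂)
    obtain ⟨u', hu'⟩ := hP.nondeg.exists_polar_eq hu0 1
    obtain ⟨w, hw0, hw⟩ := exists_perp_ne (Q := QK) ![v, v', u, u'] (by omega)
    have hvw : polar QK v w = 0 := hw 0
    have hv'w : polar QK v' w = 0 := hw 1
    have huw : polar QK u w = 0 := hw 2
    have hu'w : polar QK u' w = 0 := hw 3
    obtain ⟨ω, hω, hmove⟩ := exists_move h2 hnl hu huw hy₂ (by
      intro h0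
      have h1 : polar QK u' (polar QK u y₂ • w - polar QK w y₂ • u) = 0 := by
        rw [h0, polar_zero_right]
      rw [polar_sub_right, polar_smul_right, polar_smul_right, hu'w, polar_comm QK u' u, hu',
        smul_zero, zero_sub, neg_eq_zero, smul_eq_mul, mul_one] at h1
      rw [h1, zero_smul, sub_zero] at h0
      exact (smul_ne_zero huy hw0) h0)
    have fixv : siegel QK u (ω • w) hu hω v = v := by
      apply siegel_fix
      · rw [polar_comm, hvu]
      · rw [polar_smul_left, polar_comm, hvw, smul_zero]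
    have fixv' : siegel QK u (ω • w) hu hω v' = v' := by
      apply siegel_fix
      · rw [polar_comm, hv'u]
      · rw [polar_smul_left, polar_comm, hv'w, smul_zero]
    have fixy : siegel QK u (ω • w) hu hω y = y := by
      obtain ⟨α, γ, e⟩ := Submodule.mem_span_pair.1 hyv'
      rw [← e, map_add, map_smul, map_smul, fixv, fixv']
    refine adj_of_move hP hY (siegel_mem_E hu hω)
      (S := (line F K v ⊓ Y) ⊔ Submodule.span F {y})
      (finrank_sup_line hint fun h => hyX h.1) ?_ ?_ hy₂ hmove
    · refine sup_le inf_le_right ?_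
      rw [Submodule.span_singleton_le_iff_mem]
      exact hyY
    · intro x hx
      have hxY : x ∈ Y := by
        refine (sup_le inf_le_right ?_ : (line F K v ⊓ Y) ⊔ Submodule.span F {y} ≤ Y) hx
        rw [Submodule.span_singleton_le_iff_mem]
        exact hyY
      refine ⟨x, hxY, ?_⟩
      obtain ⟨x₁, hx₁, x₂, hx₂, rfl⟩ := Submodule.mem_sup.1 hx
      obtain ⟨c, rfl⟩ := Submodule.mem_span_singleton.1 hx₂
      obtain ⟨k, rfl⟩ := mem_line.1 hx₁.1
      rw [map_add, map_smul, fixv, ← algebraMap_smul K c y, map_smul, fixy]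
  · -- case B
    push Not at hA
    have hperp : ∀ x, polar QK v x = 0 → polar QK v' x = 0 → ∀ z ∈ Y, polar QK x z = 0 := by
      intro x h1 h3 z hz
      obtain ⟨α, γ, e⟩ := Submodule.mem_span_pair.1 (hA z hz)
      rw [← e, polar_add_right, polar_smul_right, polar_smul_right, polar_comm QK x v, h1,
        polar_comm QK x v', h3]
      simp
    set a := siegel QK v e hv hve with ha
    have haE : a ∈ E QK := siegel_mem_E hv hve
    have hact : ∀ z ∈ Y, a z = z + polar QK v z • e := by
      intro z hz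
      rw [ha, siegel_apply, hperp e hve hv'e z hz, hef.left]
      simp
    set Y₂ := Y.map ((rs a : V ≃ₗ[F] V) : V →ₗ[F] V) with hY₂
    have hY₂P : IsPoint QK H Y₂ := hY.map (hP.hE a haE)
    have hne2 : Y ≠ Y₂ := by
      intro h
      have h1 : a y ∈ Y := by rw [h]; exact ⟨y, hyY, rfl⟩
      rw [hact y hyY] at h1
      have h3 : polar QK f (y + polar QK v y • e) = 0 := hperp f hvf hv'f _ h1
      rw [polar_add_right, hperp f hvf hv'f y hyY, polar_smul_right, hef.pair', zero_add,
        smul_eq_mul, mul_one] at h3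
      exact hvy h3
    have hint2 : s ≤ Module.finrank F (Y ⊓ Y₂ : Submodule F V) := by
      refine le_trans hint (Submodule.finrank_mono (le_inf inf_le_right fun x hx => ?_))
      exact ⟨x, hx.2, siegel_fix_line hv hve hx.1⟩
    have horth : ∀ z ∈ Y, ∀ z' ∈ Y₂, polar Q z z' = 0 := by
      rintro z hz _ ⟨z', hz', rfl⟩
      show polar Q z (a z') = 0
      rw [hact z' hz', polar_add_right, hP.tr.pol z (polar QK v z' • e), polar_smul_right,
        polar_comm QK z e, hperp e hve hv'e z hz, smul_zero, map_zero, add_zero]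
      exact polar_zero_of_ts (hY.sing hP) hz hz'
    obtain ⟨g, hg, v₁, hv₁, hv₁0, e₁, hv₁Y, hne₁⟩ := exists_line_pair hY hne2 (le_trans hs1 hint2)
    refine adj_step_orth hP hr h2 hs hv₁ hv₁0 (hY₂P.map hg) hne₁ hv₁Y ?_ ?_
    · rw [← e₁, finrank_map_inf]
      exact hint2
    · rintro _ ⟨z', hz', rfl⟩
      apply hP.tr.perp_line
      intro k
      have : k • v₁ ∈ Y.map (g : V →ₗ[F] V) := by rw [e₁]; exact smul_mem_line k v₁
      obtain ⟨z, hz, e⟩ := this
      rw [← e]
      show polar Q (g z) (g z') = 0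
      rw [polar_map (hP.hHO hg)]
      exact horth z hz z' hz'

/-- **Stage 2.** -/
theorem adj_all [Finite K] (hP : Pre τ QK Q H) (hr : (Module.finrank F K).Prime)
    (h2 : (2 : K) ≠ 0) (hd : 5 ≤ Module.finrank K V) (h1 : Adj QK H 1) (s : ℕ)
    (hs : s + 1 ≤ Module.finrank F K) : Adj QK H s := by
  induction s with
  | zero =>
    obtain ⟨X, Y, hX, hY, hne, -⟩ := h1
    exact ⟨X, Y, hX, hY, hne, Nat.zero_le _⟩
  | succ s ih =>
    rcases Nat.eq_zero_or_pos s with rfl | hs0
    · exact h1
    obtain ⟨X, Y, hX, hY, hne, hint⟩ := ih (by omega)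
    obtain ⟨g, hg, v, hv, hv0, e, hvY, hne'⟩ := exists_line_pair hX hne (le_trans hs0 hint)
    have hint' : s ≤ Module.finrank F (line F K v ⊓ Y.map (g : V →ₗ[F] V) : Submodule F V) := by
      rw [← e, finrank_map_inf]
      exact hint
    by_cases horth : ∀ y ∈ Y.map (g : V →ₗ[F] V), polar QK v y = 0
    · exact adj_step_orth hP hr h2 (by omega) hv hv0 (hY.map hg) hne' hvY hint' horth
    · push Not at horth
      obtain ⟨y, hy, hvy⟩ := horth
      exact adj_step_nonorth hP hr h2 hd hs0 (by omega) hv hv0 (hY.map hg) hne' hvY hint' hy hvy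

omit [FiniteDimensional F V] [FiniteDimensional F K] [Module F V] [IsScalarTower F K V] in
theorem finrank_span_pair_le (v u : V) : Module.finrank K (Submodule.span K {v, u}) ≤ 2 := by
  classical
  have h := finrank_span_finset_le_card (R := K) ({v, u} : Finset V)
  rw [Finset.coe_insert, Finset.coe_singleton] at h
  exact le_trans h Finset.card_le_two

omit [FiniteDimensional F V] [FiniteDimensional F K] in
theorem exists_sq_ne (hτ : τ ≠ 0) (h2 : (2 : K) ≠ 0) {c : K} (hc : c ≠ 0) :
    ∃ ω : K, τ (ω * ω * c) ≠ 0 := by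
  by_contra hcon
  push Not at hcon
  apply hc
  apply tau_ext hτ
  intro k
  have e : k * c = (k / 2 + 1) * (k / 2 + 1) * c - k / 2 * (k / 2) * c - 1 * 1 * c := by
    field_simp
    ring
  rw [e, map_sub, map_sub, hcon, hcon, hcon, sub_zero, sub_zero]

/-- A non-orthogonal pair of points meeting in a hyperplane. -/
def NonOrthAdj (QK : QuadraticForm K V) (Q : QuadraticForm F V) (H : Subgroup (V ≃ₗ[F] V)) :
    Prop :=
  ∃ X Y, IsPoint QK H X ∧ IsPoint QK H Y ∧
    Module.finrank F K ≤ Module.finrank F (X ⊓ Y : Submodule F V) + 1 ∧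
    ∃ a ∈ X, ∃ b ∈ Y, polar Q a b ≠ 0

/-- **Stage 3.** -/
theorem nonOrthAdj_of_adj [Finite K] (hP : Pre τ QK Q H) (h2 : (2 : K) ≠ 0)
    (hd : 5 ≤ Module.finrank K V) (hr : 2 ≤ Module.finrank F K)
    (hA : Adj QK H (Module.finrank F K - 1)) : NonOrthAdj QK Q H := by
  have : FiniteDimensional K V := FiniteDimensional.right F K V
  have hG : Good QK := good_of_finite hP.nondeg hd
  obtain ⟨X, Y, hX, hY, hne, hint⟩ := hA
  obtain ⟨g, hg, v, hv, hv0, e, hvY, hne'⟩ := exists_line_pair hX hne (le_trans (by omega) hint)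
  set Y' := Y.map (g : V →ₗ[F] V) with hY'def
  have hY' : IsPoint QK H Y' := hY.map hg
  have hint' : Module.finrank F K - 1 ≤ Module.finrank F (line F K v ⊓ Y' : Submodule F V) := by
    rw [← e, finrank_map_inf]
    exact hint
  by_cases horth : ∀ y ∈ Y', polar QK v y = 0
  · have hXl : IsPoint QK H (line F K v) := isPoint_line hv hv0
    have hYX : ¬ Y' ≤ line F K v := fun h => hne' (hY'.eq_of_le hXl h).symm
    obtain ⟨y, hyY, hyX⟩ := Set.not_subset.1 hYX
    change y ∈ Y' at hyY
    change y ∉ line F K v at hyX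
    have hyc : ∀ c : K, y ≠ c • v := fun c h => hyX (mem_line.2 ⟨c, h.symm⟩)
    obtain ⟨v', hyp⟩ := Cfsg.Agent.LieClassical.OrthTrans.exists_hyp hP.nondeg hv hv0
    obtain ⟨c, f, hcf, hvc, hvf, -, -⟩ := hG.exists_hyp2 hyp
    obtain ⟨u, hu, hvu, huy⟩ : ∃ u, QK u = 0 ∧ polar QK v u = 0 ∧ polar QK u y ≠ 0 := by
      by_contra hcon
      push Not at hcon
      obtain ⟨w, hw1, hw2⟩ := exists_sep hP.nondeg hyc
      have := sing_induction_perp (Q := QK) (x := c) (y := f) (z := v) (w := v) hcf
        hvc hvf hvc hvf (P := fun x => polar QK x y = 0)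
        (fun a c _ _ _ _ ha hc => by rw [polar_add_left, ha, hc, add_zero])
        (fun a ha hxa _ => hcon a ha hxa) w hw1 hw1
      rw [polar_comm, hw2] at this
      exact one_ne_zero this
    obtain ⟨w, hvw, huw, hw⟩ : ∃ w, polar QK v w = 0 ∧ polar QK u w = 0 ∧ QK w ≠ 0 := by
      by_contra hcon
      push Not at hcon
      set W := Submodule.span K {v, u} with hW
      have hmem : ∀ w ∈ perp QK W, QK w = 0 := fun w hw =>
        hcon w (mem_perp.1 hw v (Submodule.subset_span (by simp)))
          (mem_perp.1 hw u (Submodule.subset_span (by simp)))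
      have hle : perp QK W ≤ W := by
        intro w hw
        rw [← perp_perp hP.nondeg W]
        exact mem_perp.2 fun w' hw' => polar_zero_of_ts hmem hw' hw
      have h3 := Submodule.finrank_mono hle
      have h4 := finrank_perp hP.nondeg W
      have h5 : Module.finrank K W ≤ 2 := finrank_span_pair_le v u
      omega
    obtain ⟨ω, hω⟩ := exists_sq_ne hP.tr.ne h2 (c := QK w * (polar QK u y * polar QK u y))
      (mul_ne_zero hw (mul_ne_zero huy huy))
    have huw' : polar QK u (ω • w) = 0 := by rw [polar_smul_right, huw, smul_zero]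
    set a := siegel QK u (ω • w) hu huw' with ha
    have haE : a ∈ E QK := siegel_mem_E hu huw'
    have hav : a v = v := by
      apply siegel_fix
      · rw [polar_comm, hvu]
      · rw [polar_smul_left, polar_comm, hvw, smul_zero]
    refine ⟨Y', Y'.map ((rs a : V ≃ₗ[F] V) : V →ₗ[F] V), hY', hY'.map (hP.hE a haE), ?_,
      y, hyY, a y, ⟨y, hyY, rfl⟩, ?_⟩
    · have h3 : Module.finrank F (line F K v ⊓ Y' : Submodule F V) ≤
          Module.finrank F (Y' ⊓ Y'.map ((rs a : V ≃ₗ[F] V) : V →ₗ[F] V) : Submodule F V) := by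
        refine Submodule.finrank_mono (le_inf inf_le_right fun x hx => ⟨x, hx.2, ?_⟩)
        obtain ⟨k, rfl⟩ := mem_line.1 hx.1
        show a (k • v) = k • v
        rw [map_smul, hav]
      omega
    · have h3 : polar QK y (a y) = 2 * QK y - ω * ω * (QK w * (polar QK u y * polar QK u y)) := by
        rw [ha, siegel_apply, polar_sub_right, polar_sub_right, polar_add_right, polar_smul_right,
          polar_smul_right, polar_smul_right, polar_smul_right, polar_smul_left, polar_self',
          QuadraticMap.map_smul, polar_comm QK y u, polar_comm QK y w]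
        simp only [smul_eq_mul]
        ring
      rw [hP.tr.pol, h3, map_sub]
      have h4 : τ (2 * QK y) = 0 := by
        have h5 : τ (QK y) = 0 := by rw [← hP.tr.eq]; exact hY'.sing hP y hyY
        rw [two_mul, map_add, h5, add_zero]
      rw [h4, zero_sub, neg_ne_zero]
      exact hω
  · push Not at horth
    obtain ⟨y, hy, hvy⟩ := horth
    refine ⟨line F K v, Y', isPoint_line hv hv0, hY', by omega, ?_⟩
    obtain ⟨k, hk⟩ : ∃ k : K, polar Q (k • v) y ≠ 0 := by
      by_contra hcon
      push Not at hcon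
      exact hvy (hP.tr.perp_line hcon)
    exact ⟨k • v, smul_mem_line k v, y, hy, hk⟩

end Fin

end Cfsg.Agent.H925.Ext
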