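import Cfsg.Agent.H925.ExtTheta

/-!
# Overgroups of `Ω(V, QK)` in `Ω(V, τ ∘ QK)`, XV: the theorem when `dim_K V = 4`, degree at least `3`
-/

set_option autoImplicit false
set_option linter.unusedSectionVars false

namespace Cfsg.Agent.H925.Ext

open QuadraticMap Cfsg.Agent.LieClassical.OrthCore Cfsg.Agent.LieClassical.OrthTrans
  Cfsg.Agent.LieClassical.OrthFinite Cfsg.Agent.H883.Root Cfsg.Agent.H883.Sub
open scoped commutatorElement

section Abs

variable {F V : Type*} [Field F] [AddCommGroup V] [Module F V] {Q : QuadraticForm F V}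

/-- The commutator of an element trivial on `Y^⊥` and one moving `Y` inside a totally singular space. -/
theorem comm_eq_siegel (hQ : Nondeg Q) [FiniteDimensional F V] {Y Z : Submodule F V}
    (hYs : ∀ x ∈ Y, Q x = 0) {y : V} (hsp : ∀ x ∈ Y, ∃ c : F, x - c • y ∈ Z) {Θ ρ : V ≃ₗ[F] V} (hΘ : Θ ∈ O Q) (hρ : ρ ∈ O Q)
    (hΘY : ∀ x, (∀ z ∈ Y, polar Q z x = 0) → Θ x = x) {e x₁ : V}
    (heZ : ∀ z ∈ Z, polar Q z e = 0) (hye : polar Q y e = 1) (hx₁Y : ∀ z ∈ Y, polar Q z x₁ = 0)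
    (hx₁ : Q x₁ = 0)
    (hρZ : ∀ z ∈ Z, ρ z = z) (hρy : ρ y = y - x₁)
    (hρx : ∀ x, ∀ z ∈ Z, polar Q z (x - ρ⁻¹ x) = 0) :
    ∃ (hz : Q (Θ e - e) = 0) (hzx : polar Q (Θ e - e) x₁ = 0), Θ e - e ∈ Z ∧
      ρ * Θ * ρ⁻¹ * Θ⁻¹ = siegel Q (Θ e - e) x₁ hz hzx := by
  set z₁ := Θ e - e with hz₁
  have hθY : ∀ x, Θ x - x ∈ Y := by
    intro x
    rw [← perp_perp hQ Y]
    refine mem_perp.2 fun t ht => ?_
    rw [polar_sub_right]
    nth_rewrite 1 [← hΘY t (mem_perp.1 ht)]
    rw [polar_map hΘ, sub_self]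
  have hYY : ∀ a ∈ Y, ∀ b ∈ Y, polar Q a b = 0 := fun a ha b hb => polar_zero_of_ts hYs ha hb
  have hz₁Q : Q z₁ = 0 := hYs _ (hθY e)
  have hz₁x : polar Q z₁ x₁ = 0 := hx₁Y _ (hθY e)
  -- the alternating form
  have halt : ∀ a b, polar Q (Θ a - a) b = -polar Q a (Θ b - b) := by
    intro a b
    have h1 : polar Q (Θ a) (Θ b) = polar Q a b := polar_map hΘ a b
    have h2 := hYY _ (hθY a) _ (hθY b)
    rw [polar_sub_left, polar_sub_right, polar_sub_right, h1] at h2
    rw [polar_sub_left, polar_sub_right]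
    linear_combination -h2
  have hz₁e : polar Q z₁ e = 0 := by
    have h1 : Q (e + z₁) = Q e := by
      have : e + z₁ = Θ e := by rw [hz₁]; abel
      rw [this]
      exact hΘ e
    rw [Q_add, hz₁Q, add_zero, polar_comm] at h1
    linear_combination h1
  have hcoord : ∀ x ∈ Y, x - polar Q x e • y ∈ Z := by
    intro x hx
    obtain ⟨c, hc⟩ := hsp x hx
    have h1 := heZ _ hc
    rw [polar_sub_left, polar_smul_left, hye, smul_eq_mul, mul_one, sub_eq_zero] at h1
    rw [h1]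
    exact hc
  have hz₁Z : z₁ ∈ Z := by
    have := hcoord _ (hθY e)
    rwa [← hz₁, hz₁e, zero_smul, sub_zero] at this
  -- the values on `Z^⊥`
  have hθZ : ∀ x, (∀ z ∈ Z, polar Q z x = 0) → Θ x - x = polar Q y x • z₁ := by
    intro x hx
    have h1 : Θ (x - polar Q y x • e) = x - polar Q y x • e := by
      apply hΘY
      intro z hz
      have h3 := hcoord z hz
      have h4 : polar Q (z - polar Q z e • y) (x - polar Q y x • e) = 0 := by
        rw [polar_sub_right, polar_smul_right, hx _ h3, heZ _ h3, smul_zero, sub_zero]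
      have h5 : polar Q y (x - polar Q y x • e) = 0 := by
        rw [polar_sub_right, polar_smul_right, hye, smul_eq_mul, mul_one, sub_self]
      rw [polar_sub_left, polar_smul_left, h5, smul_zero, sub_zero] at h4
      exact h4
    rw [map_sub, map_smul] at h1
    have e1 : Θ x - x = (Θ x - polar Q y x • Θ e) - (x - polar Q y x • e) +
        polar Q y x • (Θ e - e) := by module
    rw [e1, h1, sub_self, zero_add]
  have hρ1 : ∀ x, ρ (ρ⁻¹ x) = x := fun x => LinearEquiv.apply_symm_apply ρ x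
  refine ⟨hz₁Q, hz₁x, hz₁Z, ?_⟩
  rw [mul_inv_eq_iff_eq_mul]
  ext x
  show ρ (Θ (ρ⁻¹ x)) = siegel Q z₁ x₁ hz₁Q hz₁x (Θ x)
  -- the left side
  have h1 : polar Q y (x - ρ⁻¹ x) = polar Q x₁ x := by
    have h3 : polar Q y (ρ⁻¹ x) = polar Q (ρ y) x := by
      rw [← polar_map hρ y, hρ1]
    rw [polar_sub_right, h3, hρy, polar_sub_left]
    ring
  have h3 : Θ (x - ρ⁻¹ x) = (x - ρ⁻¹ x) + polar Q x₁ x • z₁ := by
    have := hθZ _ (hρx x)
    rw [h1] at this
    rw [← this]
    abel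
  have h4 : Θ (ρ⁻¹ x) = ρ⁻¹ x + (Θ x - x) - polar Q x₁ x • z₁ := by
    rw [map_sub] at h3
    have e1 : Θ (ρ⁻¹ x) = Θ x - (Θ x - Θ (ρ⁻¹ x)) := by abel
    rw [e1, h3]
    abel
  have h5 : ρ (Θ x - x) = (Θ x - x) + polar Q z₁ x • x₁ := by
    have h6 := hcoord _ (hθY x)
    have h7 : polar Q (Θ x - x) e = -polar Q z₁ x := by
      rw [halt, polar_comm]
    rw [h7] at h6
    have e1 : Θ x - x = ((Θ x - x) - (-polar Q z₁ x) • y) + (-polar Q z₁ x) • y := by abel
    conv_lhs => rw [e1]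
    rw [map_add, hρZ _ h6, map_smul, hρy]
    module
  rw [h4, map_sub, map_add, hρ1, h5, map_smul, hρZ _ hz₁Z]
  -- the right side
  have h8 : polar Q z₁ (Θ x) = polar Q z₁ x := by
    have := hYY _ (hθY e) _ (hθY x)
    rw [← hz₁, polar_sub_right, sub_eq_zero] at this
    exact this
  have h9 : polar Q x₁ (Θ x) = polar Q x₁ x := by
    have := hx₁Y _ (hθY x)
    rw [polar_comm, polar_sub_right, sub_eq_zero] at this
    exact this
  rw [siegel_apply, h8, h9, hx₁]
  module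

end Abs

variable {F K V : Type*} [Field F] [Field K] [Algebra F K] [AddCommGroup V]
  [Module F V] [Module K V] [IsScalarTower F K V]

variable {τ : K →ₗ[F] F} {QK : QuadraticForm K V} {Q : QuadraticForm F V}
  {H : Subgroup (V ≃ₗ[F] V)}

section Fin

variable [FiniteDimensional F V] [FiniteDimensional F K]

/-- Transport of the elements trivial on the orthogonal of a `K`-line. -/
theorem theta_move [Finite K] (hP : PreC τ QK Q H) (h2 : (2 : K) ≠ 0)
    (hd : 4 ≤ Module.finrank K V) {v : V} (hv : QK v = 0) (hv0 : v ≠ 0) {Θ : V ≃ₗ[F] V}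
    (hΘ : Θ ∈ H) (hΘf : ∀ x, polar QK v x = 0 → Θ x = x) {e : V} (he : Θ e ≠ e) {v' : V}
    (hv' : QK v' = 0) (hv'0 : v' ≠ 0) {δ : K} (hδ : δ ≠ 0) :
    ∃ Θ' ∈ H, (∀ x, polar QK v' x = 0 → Θ' x = x) ∧ ∃ e', polar QK v' e' = δ ∧ Θ' e' ≠ e' := by
  set μ := polar QK v e with hμ
  have hμ0 : μ ≠ 0 := fun h => he (hΘf e h)
  obtain ⟨g, hg, hgH, eg⟩ := hP.trans_exact h2 hd (v₁ := (μ * δ⁻¹) • v') hv
    (by rw [QuadraticMap.map_smul, hv', smul_zero]) hv0
    (smul_ne_zero (mul_ne_zero hμ0 (inv_ne_zero hδ)) hv'0)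
  have hg1 : ∀ x, g (g⁻¹ x) = x := fun x => LinearEquiv.apply_symm_apply g x
  have hg2 : ∀ x, g⁻¹ (g x) = x := fun x => LinearEquiv.symm_apply_apply g x
  have hpol : ∀ x, polar QK v' x = (μ * δ⁻¹)⁻¹ * polar QK v (g⁻¹ x) := by
    intro x
    rw [← polar_map hg v, hg1, eg, polar_smul_left, smul_eq_mul]
    field_simp
  refine ⟨rs g * Θ * (rs g)⁻¹, H.mul_mem (H.mul_mem hgH hΘ) (H.inv_mem hgH), fun x hx => ?_,
    g e, ?_, fun h0 => ?_⟩
  · show g (Θ (g⁻¹ x)) = x
    rw [hpol] at hx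
    rw [hΘf _ ((mul_eq_zero.1 hx).resolve_left (inv_ne_zero
      (mul_ne_zero hμ0 (inv_ne_zero hδ)))), hg1]
  · rw [hpol, hg2, ← hμ]
    field_simp
  · have h1 : g (Θ (g⁻¹ (g e))) = g e := h0
    rw [hg2] at h1
    exact he (g.injective h1)

/-- **Orthogonal adjacent points in a totally singular `K`-plane.** -/
theorem long_of_theta [Finite K] (hP : PreC τ QK Q H) (h2 : (2 : K) ≠ 0)
    (hr : 2 ≤ Module.finrank F K) (hd : Module.finrank K V = 4) {v y : V} (hv : QK v = 0)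
    (hv0 : v ≠ 0) (hy : QK y = 0) (hvy : polar QK v y = 0) (hyX : y ∉ line F K v)
    {Y : Submodule F V} (hY : IsPoint QK H Y) (hyY : y ∈ Y)
    (hint : Module.finrank F K ≤ Module.finrank F (line F K v ⊓ Y : Submodule F V) + 1) :
    Long QK Q H := by
  have hT := hP.tr
  have hPre := hP.pre h2
  have hQ : Nondeg Q := hT.nondeg hP.nondeg
  set Z : Submodule F V := line F K v ⊓ Y with hZ
  have hyZ : y ∉ Z := fun h => hyX h.1
  have hspy := exists_sub_mem (X := Y) (Z := Z) inf_le_right hyY hyZ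
    (by rw [hY.finrank]; exact hint)
  -- a vector of the line outside `Z`
  obtain ⟨a, ha, haZ⟩ : ∃ a ∈ line F K v, a ∉ Z := by
    by_contra hcon
    push Not at hcon
    have hle : line F K v ≤ Y := fun x hx => (hcon x hx).2
    have := (isPoint_line (H := H) hv hv0).eq_of_le hY hle
    rw [← this] at hyY
    exact hyX hyY
  have hspa := exists_sub_mem (X := line F K v) (Z := Z) inf_le_left ha haZ
    (by rw [finrank_line hv0]; exact hint)
  obtain ⟨δ, hδ0, hδ⟩ := exists_delta_line hT.ne ha haZ hspa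
  have hδZ : ∀ k : K, k • v ∈ Z → τ (k * δ) = 0 := by
    intro k hk
    by_contra h0
    apply haZ
    have h1 := Z.sub_mem hk (hδ k)
    rw [sub_sub_cancel] at h1
    have h3 := Z.smul_mem (τ (k * δ))⁻¹ h1
    rwa [smul_smul, inv_mul_cancel₀ h0, one_smul] at h3
  have hYs := hY.sing hPre
  obtain ⟨v₁, hv₁, hv₁0, Θ₁, hΘ₁, hΘ₁f, e₁, he₁⟩ := exists_theta hP h2 hr hd hv hv0 hy hvy hyX hY
    hδ0 (by
      intro x hx
      obtain ⟨c, hc⟩ := hspy x hx
      obtain ⟨k, hk⟩ := mem_line.1 hc.1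
      refine ⟨k, c, hδZ k (by rw [hk]; exact hc), ?_⟩
      rw [hk]
      abel)
  -- transport `Y` to a line
  obtain ⟨g, hg, v₂, hv₂, hv₂0, eg⟩ := hY.exists_line
  have hgO := hP.hHO hg
  have hg1 : ∀ x, g (g⁻¹ x) = x := fun x => LinearEquiv.apply_symm_apply g x
  have hg2 : ∀ x, g⁻¹ (g x) = x := fun x => LinearEquiv.symm_apply_apply g x
  -- a vector `e₂` of `Z^⊥` with `polar Q y e₂ = 1`
  obtain ⟨e₀, he₀Z, he₀y⟩ : ∃ e₀, (∀ z ∈ Z, polar Q z e₀ = 0) ∧ polar Q y e₀ ≠ 0 := by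
    by_contra hcon
    push Not at hcon
    apply hyZ
    rw [← perp_perp hQ Z]
    exact mem_perp.2 fun x hx => by rw [polar_comm]; exact hcon x (mem_perp.1 hx)
  set δ₂ := polar QK v₂ (g e₀) with hδ₂
  have hδ₂0 : δ₂ ≠ 0 := by
    intro h0
    apply he₀y
    have h1 : g y ∈ line F K v₂ := by rw [← eg]; exact ⟨y, hyY, rfl⟩
    obtain ⟨k, hk⟩ := mem_line.1 h1
    rw [← polar_map hgO, ← hk, hT.pol, polar_smul_left, ← hδ₂, h0, smul_zero, map_zero]
  obtain ⟨Θ₂, hΘ₂, hΘ₂f, e₂, he₂, he₂m⟩ :=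
    theta_move hP h2 (by omega) hv₁ hv₁0 hΘ₁ hΘ₁f he₁ hv₂ hv₂0 hδ₂0
  set Θ : V ≃ₗ[F] V := g⁻¹ * Θ₂ * g with hΘdef
  have hΘH : Θ ∈ H := H.mul_mem (H.mul_mem (H.inv_mem hg) hΘ₂) hg
  have hΘapp : ∀ x, Θ x = g⁻¹ (Θ₂ (g x)) := fun x => rfl
  have hΘY : ∀ x, (∀ z ∈ Y, polar Q z x = 0) → Θ x = x := by
    intro x hx
    rw [hΘapp, hΘ₂f, hg2]
    apply hT.perp_line
    intro k
    have : k • v₂ ∈ Y.map (g : V →ₗ[F] V) := by rw [eg]; exact smul_mem_line k v₂
    obtain ⟨z, hz, ez⟩ := this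
    rw [← ez]
    show polar Q (g z) (g x) = 0
    rw [polar_map hgO]
    exact hx z hz
  -- the products of `g⁻¹ e₂` with `Y` are those of `e₀`
  have hpe : ∀ z ∈ Y, polar Q z (g⁻¹ e₂) = polar Q z e₀ := by
    intro z hz
    have h1 : g z ∈ line F K v₂ := by rw [← eg]; exact ⟨z, hz, rfl⟩
    obtain ⟨k, hk⟩ := mem_line.1 h1
    rw [← polar_map hgO z, ← polar_map hgO z, hg1, ← hk, hT.pol, hT.pol, polar_smul_left,
      polar_smul_left, he₂]
  set c₀ := polar Q y e₀ with hc₀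
  set e := c₀⁻¹ • g⁻¹ e₂ with he
  have heZ : ∀ z ∈ Z, polar Q z e = 0 := by
    intro z hz
    rw [he, polar_smul_right, hpe z hz.2, he₀Z z hz, smul_zero]
  have hye : polar Q y e = 1 := by
    rw [he, polar_smul_right, hpe y hyY, ← hc₀, smul_eq_mul, inv_mul_cancel₀ he₀y]
  have heΘ : Θ e - e ≠ 0 := by
    intro h0
    apply he₂m
    rw [he, map_smul, ← smul_sub] at h0
    have h1 := (smul_eq_zero.1 h0).resolve_left (inv_ne_zero he₀y)
    rw [hΘapp, hg1, ← map_sub] at h1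
    have h3 : Θ₂ e₂ - e₂ = 0 := g⁻¹.injective (by rw [h1, map_zero])
    exact sub_eq_zero.1 h3
  -- the vectors orthogonal to `v`
  have hXs := line_sing hT hv
  have hYv : ∀ x ∈ Y, polar QK v x = 0 := by
    intro x hx
    obtain ⟨c, hc⟩ := hspy x hx
    obtain ⟨k, hk⟩ := mem_line.1 hc.1
    have e1 : x = k • v + c • y := by rw [hk]; abel
    rw [e1, ← algebraMap_smul K c y, polar_add_right, polar_smul_right, polar_smul_right, hvy,
      polar_self_of_sing hv]
    simp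
  have hmain : ∀ w, polar QK v w = 0 → Has Q H (Θ e - e) (polar QK w y • v) := by
    intro w hw
    set ρ : V ≃ₗ[F] V := rs (siegel QK v w hv hw) with hρ
    have hρH : ρ ∈ H := hPre.hE _ (siegel_mem_E _ _)
    have hw' : polar QK v (-w) = 0 := by rw [polar_neg_right, hw, neg_zero]
    have hρinv : ρ⁻¹ = rs (siegel QK v (-w) hv hw') := by
      rw [hρ, ← map_inv, siegel_inv hv hw hw']
    obtain ⟨hz, hzx, hzZ, hc⟩ := comm_eq_siegel hQ hYs (Z := Z) hspy
      (hP.hHO hΘH) (hP.hHO hρH) hΘY heZ hye (x₁ := polar QK w y • v) (by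
        intro z hz
        rw [hT.pol, polar_smul_right, polar_comm QK z v, hYv z hz, smul_zero, map_zero])
      (hXs _ (smul_mem_line _ v))
      (fun z hz => siegel_fix_line hv hw hz.1) (by
        rw [hρ, rs_apply, siegel_apply, hvy]
        simp) (by
        intro x z hz
        obtain ⟨k, rfl⟩ := mem_line.1 hz.1
        rw [hρinv, rs_apply, siegel_apply, hT.pol, polar_smul_left]
        simp only [polar_sub_right, polar_add_right, polar_smul_right, polar_neg_right, hw,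
          polar_self_of_sing hv]
        simp)
    refine ⟨hz, hzx, ?_⟩
    rw [← hc]
    exact H.mul_mem (H.mul_mem (H.mul_mem hρH hΘH) (H.inv_mem hρH)) (H.inv_mem hΘH)
  -- all the multiples of `v`
  have hzZ : Θ e - e ∈ line F K v := by
    obtain ⟨hz, hzx, hzZ, hc⟩ := comm_eq_siegel hQ hYs (Z := Z) hspy
      (hP.hHO hΘH) (O Q).one_mem hΘY heZ hye (x₁ := 0) (by
        intro z hz
        rw [polar_zero_right]) (by rw [QuadraticMap.map_zero]) (fun z hz => rfl)
        (by rw [sub_zero]; rfl) (by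
        intro x z hz
        rw [inv_one]
        have : x - (1 : V ≃ₗ[F] V) x = 0 := sub_self x
        rw [this, polar_zero_right])
    exact hzZ.1
  obtain ⟨k₁, hk₁⟩ := mem_line.1 hzZ
  have hz₁s : QK (Θ e - e) = 0 := by rw [← hk₁, QuadraticMap.map_smul, hv, smul_zero]
  obtain ⟨a', b', -, -, hvb, hyb⟩ := exists_dual_pair (F := F) hP.nondeg hv hv0 hvy hyX
  apply long_of_one hT hP.hHO (hP.trans_four h2 (by omega)) hz₁s heΘ
  intro x hx
  rw [line_eq_of_mem hzZ heΘ] at hx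
  obtain ⟨k, rfl⟩ := mem_line.1 hx
  have h3 := hmain (k • b') (by rw [polar_smul_right, hvb, smul_zero])
  rwa [polar_smul_left, polar_comm QK b' y, hyb, smul_eq_mul, mul_one] at h3

/-- **Orthogonal adjacent points, a nonsingular vector.** -/
theorem long_of_nonsing [Finite F] [Finite K] (hP : PreC τ QK Q H) (h2 : (2 : K) ≠ 0)
    (htr : Trans F QK H)
    (hdim : 2 * Module.finrank F K + 3 ≤ Module.finrank F V) {v y : V} (hv : QK v = 0)
    (hv0 : v ≠ 0) (hy : QK y ≠ 0) (hvy : polar QK v y = 0)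
    {Y : Submodule F V} (hY : IsPoint QK H Y) (hyY : y ∈ Y)
    (hint : Module.finrank F K ≤ Module.finrank F (line F K v ⊓ Y : Submodule F V) + 1) :
    Long QK Q H := by
  have hT := hP.tr
  have hPre := hP.pre h2
  have hQ : Nondeg Q := hT.nondeg hP.nondeg
  set Z : Submodule F V := line F K v ⊓ Y with hZ
  have hyX : y ∉ line F K v := by
    intro h
    obtain ⟨k, rfl⟩ := mem_line.1 h
    apply hy
    rw [QuadraticMap.map_smul, hv, smul_zero]
  have hyZ : y ∉ Z := fun h => hyX h.1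
  have hspy := exists_sub_mem (X := Y) (Z := Z) inf_le_right hyY hyZ
    (by rw [hY.finrank]; exact hint)
  obtain ⟨a, ha, haZ⟩ : ∃ a ∈ line F K v, a ∉ Z := by
    by_contra hcon
    push Not at hcon
    have hle : line F K v ≤ Y := fun x hx => (hcon x hx).2
    have := (isPoint_line (H := H) hv hv0).eq_of_le hY hle
    rw [← this] at hyY
    exact hyX hyY
  have hspa := exists_sub_mem (X := line F K v) (Z := Z) inf_le_left ha haZ
    (by rw [finrank_line hv0]; exact hint)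
  have hYs := hY.sing hPre
  have hZdim : Module.finrank F Z + 1 ≤ Module.finrank F K := by
    have h1 : Z < line F K v :=
      lt_of_le_of_ne inf_le_left fun h => haZ (by rw [h]; exact ha)
    have := Submodule.finrank_lt_finrank_of_lt h1
    rw [finrank_line hv0] at this
    omega
  have hdd : 2 * Module.finrank F Z + 5 ≤ Module.finrank F V := by omega
  obtain ⟨z₀, hz₀, hz₀0, hz, hu, t, htO, htf, hm⟩ := orth_adj hPre h2 hv hv0 (hY.isPt hPre) hYs
    (inf_le_left : Z ≤ line F K v) inf_le_right ha haZ hspa hyY hyZ hspy hvy hy hdd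
  obtain ⟨k₁, hk₁⟩ := mem_line.1 hz₀.1
  have hz₀s : QK z₀ = 0 := by rw [← hk₁, QuadraticMap.map_smul, hv, smul_zero]
  apply long_of_one hT hP.hHO htr hz₀s hz₀0
  intro x hx
  rw [line_eq_of_mem hz₀.1 hz₀0] at hx
  obtain ⟨k, rfl⟩ := mem_line.1 hx
  have h4 : (2 : K) * QK y ≠ 0 := mul_ne_zero h2 hy
  set w := (k * (2 * QK y)⁻¹) • y with hw
  have hvw : polar QK v w = 0 := by rw [hw, polar_smul_right, hvy, smul_zero]
  have h3 := has_of_conj hQ hP.hHO (Z := Z) hz₀ hz hu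
    (fun z hz => polar_zero_of_ts hYs hz.2 hyY) (fun z hz => hYs z hz.2) htO htf hm
    (h := rs (siegel QK v w hv hvw)) (hPre.hE _ (siegel_mem_E _ _))
    (fun z hz => siegel_fix_line hv hvw hz.1)
  refine h3.congr rfl ?_
  rw [rs_apply, siegel_apply, hvy, hw, polar_smul_left, polar_self', smul_eq_mul]
  rw [zero_smul, add_zero, mul_zero, zero_smul, sub_zero, sub_sub_cancel]
  congr 1
  field_simp

/-- **Overgroups of `Ω(V, QK)`, `dim_K V = 4`, degree at least `3`.** -/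
theorem main_four [Finite F] [Finite K] (hP : PreC τ QK Q H) (h2F : (2 : F) ≠ 0)
    (hd : Module.finrank K V = 4) (hr : (Module.finrank F K).Prime)
    (hr3 : 3 ≤ Module.finrank F K) (hH : ¬ ∀ g ∈ H, NormK K g) : E Q ≤ H := by
  have h2 : (2 : K) ≠ 0 := by
    intro h0
    apply h2F
    apply (algebraMap F K).injective
    rw [map_ofNat, map_zero]
    exact h0
  have hT := hP.tr
  have hPre := hP.pre h2
  have : FiniteDimensional K V := FiniteDimensional.right F K V
  have hdim : Module.finrank F V = Module.finrank F K * 4 := by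
    rw [← Module.finrank_mul_finrank F K V, hd]
  have hG : Good Q := good_of_finite (hT.nondeg hP.nondeg) (by omega)
  push Not at hH
  obtain ⟨g, hg, hgK⟩ := hH
  obtain ⟨v₀, hv₀0, hv₀⟩ := sing_of_three (QK := QK) (by omega)
  obtain ⟨v₁, hyp⟩ := Cfsg.Agent.LieClassical.OrthTrans.exists_hyp hP.nondeg hv₀ hv₀0
  obtain ⟨v, k, hv, hv0, hk⟩ := exists_not_line hT hP.nondeg (by omega) h2 hyp (hP.hHO hg) hgK
  have hY : IsPoint QK H ((line F K v).map (g : V →ₗ[F] V)) := (isPoint_line hv hv0).map hg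
  have h1 : Adj QK H 1 := adj_one hPre (by omega) h2 hY (x := g v) (y := g (k • v))
    ⟨v, self_mem_line v, rfl⟩ ⟨k • v, smul_mem_line k v, rfl⟩
    (fun h0 => hv0 (g.injective (by rw [h0, map_zero]))) hk
  obtain ⟨X, Y, hX, hY, hne, hint⟩ :=
    adj_all_four hP hr hr3 h2 hd h1 (Module.finrank F K - 1) (by omega)
  obtain ⟨g, hg, v, hv, hv0, e, hvY, hne'⟩ := exists_line_pair hX hne (by omega)
  have hint' : Module.finrank F K - 1 ≤
      Module.finrank F (line F K v ⊓ Y.map (g : V →ₗ[F] V) : Submodule F V) := by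
    rw [← e, finrank_map_inf]
    exact hint
  have hY' : IsPoint QK H (Y.map (g : V →ₗ[F] V)) := hY.map hg
  by_cases horth : ∀ y ∈ Y.map (g : V →ₗ[F] V), polar QK v y = 0
  · obtain ⟨y, hy, hyX⟩ : ∃ y ∈ Y.map (g : V →ₗ[F] V), y ∉ line F K v := by
      by_contra hcon
      push Not at hcon
      exact hne' (hY'.eq_of_le (isPoint_line hv hv0) hcon).symm
    have hL : Long QK Q H := by
      by_cases hQy : QK y = 0
      · exact long_of_theta hP h2 hr.two_le hd hv hv0 hQy (horth y hy) hyX hY' hy (by omega)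
      · exact long_of_nonsing hP h2 (hP.trans_four h2 (by omega)) (by omega) hv hv0 hQy
          (horth y hy) hY' hy (by omega)
    exact hL.E_le hT hP.nondeg hr3 hG hv hv0
  · push Not at horth
    obtain ⟨y, hy, hvy⟩ := horth
    refine (setup_of_four hP h2 (by omega) hr.two_le).of_nonOrthAdj h2F ?_
    obtain ⟨κ, hκ⟩ : ∃ κ : K, τ (κ * polar QK v y) ≠ 0 := by
      by_contra hcon
      push Not at hcon
      exact hvy (tau_ext hT.ne hcon)
    refine ⟨line F K v, _, isPoint_line hv hv0, hY', by omega, κ • v, smul_mem_line κ v, y, hy, ?_⟩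
    rw [hT.pol, polar_smul_left, smul_eq_mul]
    exact hκ

end Fin

end Cfsg.Agent.H925.Ext
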