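import Cfsg.Agent.H925.ExtConf

/-!
# Overgroups of `Ω(V, QK)` in `Ω(V, τ ∘ QK)`, III: the unipotent radical of the stabiliser of `Z`

`Conf Q H Z N`; `Phi` is the set of the linear maps `φ : N → Z` such that `H` has an element fixing `Z`
pointwise and acting on `N` as `x ↦ x + φ x`.
-/

set_option autoImplicit false
set_option linter.unusedSectionVars false

namespace Cfsg.Agent.H925.Ext

open QuadraticMap Cfsg.Agent.LieClassical.OrthCore Cfsg.Agent.LieClassical.OrthTrans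
  Cfsg.Agent.H883.Root Cfsg.Agent.H883.Sub

variable {F V : Type*} [Field F] [AddCommGroup V] [Module F V] {Q : QuadraticForm F V}
  {H : Subgroup (V ≃ₗ[F] V)} {Z N : Submodule F V}

/-- `H` has an element fixing `Z` pointwise and acting on `N` as `1 + φ`. -/
def Phi (H : Subgroup (V ≃ₗ[F] V)) (φ : N →ₗ[F] Z) : Prop :=
  ∃ c ∈ H, (∀ z ∈ Z, c z = z) ∧ ∀ x : N, c (x : V) = x + (φ x : V)

theorem Phi.add {φ ψ : N →ₗ[F] Z} (h1 : Phi H φ) (h2 : Phi H ψ) : Phi H (φ + ψ) := by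
  obtain ⟨c, hc, c1, c2⟩ := h1
  obtain ⟨d, hd, d1, d2⟩ := h2
  refine ⟨c * d, H.mul_mem hc hd, fun z hz => ?_, fun x => ?_⟩
  · show c (d z) = z
    rw [d1 z hz, c1 z hz]
  · show c (d x) = _
    rw [d2, map_add, c2, c1 _ (ψ x).2, LinearMap.add_apply, Submodule.coe_add, add_assoc]

theorem inv_fix {c : V ≃ₗ[F] V} {x y : V} (h : c x = y) : c⁻¹ y = x := by
  show c.symm y = x
  rw [LinearEquiv.symm_apply_eq, h]

theorem Phi.neg {φ : N →ₗ[F] Z} (h1 : Phi H φ) : Phi H (-φ) := by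
  obtain ⟨c, hc, c1, c2⟩ := h1
  refine ⟨c⁻¹, H.inv_mem hc, fun z hz => inv_fix (c1 z hz), fun x => ?_⟩
  apply inv_fix
  rw [map_add, c2, c1 _ ((-φ) x).2, LinearMap.neg_apply]
  simp

theorem Phi.sub {φ ψ : N →ₗ[F] Z} (h1 : Phi H φ) (h2 : Phi H ψ) : Phi H (φ - ψ) := by
  rw [sub_eq_add_neg]
  exact h1.add h2.neg

theorem Phi.zero : Phi H (0 : N →ₗ[F] Z) :=
  ⟨1, H.one_mem, fun _ _ => rfl, fun x => by simp⟩

/-- Composition with an automorphism of `N` induced by `H`. -/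
theorem Phi.comp {φ : N →ₗ[F] Z} (h1 : Phi H φ) {g : N ≃ₗ[F] N} (hg : g ∈ HN H Z N) :
    Phi H (φ ∘ₗ (g : N →ₗ[F] N)) := by
  obtain ⟨c, hc, c1, c2⟩ := h1
  obtain ⟨h, hh, h2, h3⟩ := hg
  refine ⟨h⁻¹ * c * h, H.mul_mem (H.mul_mem (H.inv_mem hh) hc) hh, fun z hz => ?_, fun x => ?_⟩
  · show h⁻¹ (c (h z)) = z
    rw [h2 z hz, c1 z hz]
    exact inv_fix (h2 z hz)
  · show h⁻¹ (c (h x)) = _
    apply inv_fix
    have e : h (x : V) = (g x : V) + (h x - (g x : V)) := by abel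
    rw [map_add, h2 _ ((φ ∘ₗ (g : N →ₗ[F] N)) x).2]
    conv_rhs => rw [e]
    rw [map_add, c2, c1 _ (h3 x)]
    show h (x : V) + ((φ (g x) : Z) : V) = _
    abel

/-- The rank one map `x ↦ B(u, x) z`. -/
def r1 (Q : QuadraticForm F V) (u : N) (z : Z) : N →ₗ[F] Z :=
  (polarBilin (res Q N) u).smulRight z

theorem r1_apply (u : N) (z : Z) (x : N) : r1 Q u z x = polar (res Q N) u x • z := rfl

theorem Conf.phi_comp (hC : Conf Q H Z N) {φ : N →ₗ[F] Z} (h1 : Phi H φ) {g : N ≃ₗ[F] N}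
    (hg : g ∈ E (res Q N)) : Phi H (φ ∘ₗ (g : N →ₗ[F] N)) := h1.comp (hC.lift hg)

/-- From one nontrivial `φ` to all the rank one maps with value in a line. -/
theorem Conf.phi_r1 (hC : Conf Q H Z N) {φ : N →ₗ[F] Z} (h1 : Phi H φ) {y : N}
    (hy : res Q N y = 0) (hy0 : y ≠ 0) (u : N) : Phi H (r1 Q u (φ y)) := by
  have hG := hC.good
  obtain ⟨y', hyp⟩ := Cfsg.Agent.LieClassical.OrthTrans.exists_hyp hG.nondeg hy hy0
  obtain ⟨v, v', hv, hyv, hyv', -, -⟩ := hG.exists_hyp2 hyp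
  have hvy : polar (res Q N) v y = 0 := by rw [polar_comm]; exact hyv
  -- first commutator
  have h2 := (hC.phi_comp h1 (siegel_mem_E hv.left hvy)).sub h1
  set φ₁ : N →ₗ[F] Z := (φ ∘ₗ (siegel (res Q N) v y hv.left hvy : N →ₗ[F] N)) - φ with hφ₁
  have e1 : ∀ x : N, φ₁ x = polar (res Q N) v x • φ y - polar (res Q N) y x • φ v := by
    intro x
    have : φ₁ x = φ (siegel (res Q N) v y hv.left hvy x) - φ x := rfl
    rw [this, siegel_apply, hy]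
    simp only [map_sub, map_add, map_smul, zero_mul, zero_smul, map_zero, sub_zero]
    abel
  -- second commutator
  have h3 := (hC.phi_comp h2 (siegel_mem_E hy hyv')).sub h2
  set φ₂ : N →ₗ[F] Z := (φ₁ ∘ₗ (siegel (res Q N) y v' hy hyv' : N →ₗ[F] N)) - φ₁ with hφ₂
  have e2 : φ₂ = r1 Q y (φ y) := by
    ext x
    have : φ₂ x = φ₁ (siegel (res Q N) y v' hy hyv' x) - φ₁ x := rfl
    rw [this, siegel_apply]
    have f1 : φ₁ y = 0 := by
      rw [e1, hvy, polar_self_of_sing hy, zero_smul, zero_smul, sub_zero]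
    have f2 : φ₁ v' = φ y := by
      rw [e1, hv.pair, hyv', zero_smul, one_smul, sub_zero]
    rw [map_sub, map_sub, map_add, map_smul, map_smul, map_smul, f1, f2, r1_apply]
    simp
  rw [e2] at h3
  -- all singular vectors
  have h4 : ∀ a : N, res Q N a = 0 → Phi H (r1 Q a (φ y)) := by
    intro a ha
    by_cases ha0 : a = 0
    · subst ha0
      have : r1 Q (0 : N) (φ y) = 0 := by
        ext x
        rw [r1_apply, polar_zero_left]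
        simp
      rw [this]
      exact Phi.zero
    · obtain ⟨g, hg, e⟩ := hG.trans_sing hy ha hy0 ha0
      have h5 := hC.phi_comp h3 ((E (res Q N)).inv_mem hg)
      have e3 : (r1 Q y (φ y)) ∘ₗ ((g⁻¹ : N ≃ₗ[F] N) : N →ₗ[F] N) = r1 Q a (φ y) := by
        ext x
        have : ((r1 Q y (φ y)) ∘ₗ ((g⁻¹ : N ≃ₗ[F] N) : N →ₗ[F] N)) x = r1 Q y (φ y) (g⁻¹ x) := rfl
        rw [this, r1_apply, r1_apply]
        have e4 : polar (res Q N) y (g⁻¹ x) = polar (res Q N) a x := by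
          rw [← polar_map (E_le_O hg), e]
          congr 1
          exact LinearEquiv.apply_symm_apply g x
        rw [e4]
      rwa [e3] at h5
  refine sing_induction hyp (P := fun u => Phi H (r1 Q u (φ y))) ?_ h4 u
  intro a c ha hc
  have : r1 Q (a + c) (φ y) = r1 Q a (φ y) + r1 Q c (φ y) := by
    ext x
    rw [LinearMap.add_apply, r1_apply, r1_apply, r1_apply, polar_add_left, add_smul]
  show Phi H (r1 Q (a + c) (φ y))
  rw [this]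
  exact ha.add hc

/-- Isometries trivial on `Z^⊥` commute with the isometries fixing `Z` pointwise. -/
theorem Conf.central (hC : Conf Q H Z N) {t g : V ≃ₗ[F] V} (ht : t ∈ O Q) (hg : g ∈ O Q)
    (htZ : ∀ z ∈ Z, t z = z) (htN : ∀ x ∈ N, t x = x) (hgZ : ∀ z ∈ Z, g z = z) :
    g * t = t * g := by
  have h1 : ∀ y, (∀ z ∈ Z, polar Q z y = 0) → t y = y := by
    intro y hy
    obtain ⟨z, hz, n, hn, rfl⟩ := hC.dec y hy
    rw [map_add, htZ z hz, htN n hn]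
  have h2 : ∀ x, t x - x ∈ Z := by
    intro x
    apply hC.perp
    intro y hy
    rw [polar_sub_right]
    nth_rewrite 1 [← h1 y hy]
    rw [polar_map ht, sub_self]
  ext x
  show g (t x) = t (g x)
  have h3 : t (g x - x) = g x - x := by
    apply h1
    intro z hz
    rw [polar_sub_right]
    nth_rewrite 1 [← hgZ z hz]
    rw [polar_map hg, sub_self]
  have h4 : g (t x) = g x + (t x - x) := by
    have e : t x = x + (t x - x) := by abel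
    conv_lhs => rw [e]
    rw [map_add, hgZ _ (h2 x)]
  rw [h4]
  rw [map_sub] at h3
  have h5 : t (g x) = g x - x + t x := by rw [← h3]; abel
  rw [h5]; abel

/-- The Siegel transformation inducing a rank one `φ`. -/
theorem Conf.decomp (hC : Conf Q H Z N) {u : N} {z : Z} (h : Phi H (r1 Q u z)) :
    ∃ (c t : V ≃ₗ[F] V) (hz : Q (z : V) = 0) (hu : polar Q (z : V) (-(u : V)) = 0),
      c ∈ H ∧ (∀ z ∈ Z, c z = z) ∧ t ∈ O Q ∧ (∀ z ∈ Z, t z = z) ∧ (∀ x ∈ N, t x = x) ∧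
      c = siegel Q (z : V) (-(u : V)) hz hu * t := by
  obtain ⟨c, hc, c1, c2⟩ := h
  have hz : Q (z : V) = 0 := hC.sing _ z.2
  have hu : polar Q (z : V) (-(u : V)) = 0 := by
    rw [polar_neg_right, hC.zn _ z.2 _ u.2, neg_zero]
  set s := siegel Q (z : V) (-(u : V)) hz hu with hs
  have s1 : ∀ z' ∈ Z, s z' = z' := by
    intro z' hz'
    apply siegel_fix
    · exact polar_zero_of_ts hC.sing z.2 hz'
    · rw [polar_neg_left, polar_comm, hC.zn _ hz' _ u.2, neg_zero]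
  have s2 : ∀ x : N, s (x : V) = c x := by
    intro x
    rw [c2, hs, siegel_apply, hC.zn _ z.2 _ x.2, polar_neg_left, r1_apply, polar_res]
    simp
  refine ⟨c, s⁻¹ * c, hz, hu, hc, c1, (O Q).mul_mem ((O Q).inv_mem (siegel_mem_O hz hu))
    (hC.hHO hc), ?_, ?_, ?_⟩
  · intro z' hz'
    show s⁻¹ (c z') = z'
    rw [c1 z' hz']
    exact inv_fix (s1 z' hz')
  · intro x hx
    show s⁻¹ (c x) = x
    exact inv_fix (s2 ⟨x, hx⟩)
  · rw [mul_inv_cancel_left]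

/-- `H` contains the Siegel transformations attached to pairs of vectors of `Z`. -/
theorem Conf.has_zz (hC : Conf Q H Z N) (h : ∀ (u : N) (z : Z), Phi H (r1 Q u z)) {z₁ z₂ : V}
    (h1 : z₁ ∈ Z) (h2 : z₂ ∈ Z) : Has Q H z₂ z₁ := by
  obtain ⟨u₁, u₂, hyp⟩ := hC.good.exists_hyp
  obtain ⟨c₁, t₁, hz₁, hu₁, hc₁, c₁Z, t₁O, t₁Z, t₁N, e₁⟩ := hC.decomp (h u₁ ⟨z₁, h1⟩)
  obtain ⟨c₂, t₂, hz₂, hu₂, hc₂, c₂Z, t₂O, t₂Z, t₂N, e₂⟩ := hC.decomp (h u₂ ⟨z₂, h2⟩)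
  change Q z₁ = 0 at hz₁
  change Q z₂ = 0 at hz₂
  set s₁ := siegel Q z₁ (-(u₁ : V)) hz₁ hu₁ with hs₁
  set s₂ := siegel Q z₂ (-(u₂ : V)) hz₂ hu₂ with hs₂
  have s₁O : s₁ ∈ O Q := siegel_mem_O hz₁ hu₁
  have s₂O : s₂ ∈ O Q := siegel_mem_O hz₂ hu₂
  have s₁Z : ∀ z ∈ Z, s₁ z = z := by
    intro z' hz'
    apply siegel_fix
    · exact polar_zero_of_ts hC.sing h1 hz'
    · rw [polar_neg_left, polar_comm, hC.zn _ hz' _ u₁.2, neg_zero]
  have s₂Z : ∀ z ∈ Z, s₂ z = z := by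
    intro z' hz'
    apply siegel_fix
    · exact polar_zero_of_ts hC.sing h2 hz'
    · rw [polar_neg_left, polar_comm, hC.zn _ hz' _ u₂.2, neg_zero]
  have s₁Z' : ∀ z ∈ Z, s₁⁻¹ z = z := fun z hz => inv_fix (s₁Z z hz)
  -- `c₁ c₂ c₁⁻¹ = s₁ s₂ s₁⁻¹ t₂`
  have k1 : s₁ * t₁ = t₁ * s₁ := hC.central t₁O s₁O t₁Z t₁N s₁Z
  have k2 : (s₁ * c₂ * s₁⁻¹) * t₁ = t₁ * (s₁ * c₂ * s₁⁻¹) := by
    refine hC.central t₁O ((O Q).mul_mem ((O Q).mul_mem s₁O (hC.hHO hc₂))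
      ((O Q).inv_mem s₁O)) t₁Z t₁N fun z hz => ?_
    show s₁ (c₂ (s₁⁻¹ z)) = z
    rw [s₁Z' z hz, c₂Z z hz, s₁Z z hz]
  have k3 : s₁ * t₂ = t₂ * s₁ := hC.central t₂O s₁O t₂Z t₂N s₁Z
  have k4 : s₂ * t₂ = t₂ * s₂ := hC.central t₂O s₂O t₂Z t₂N s₂Z
  have k5 : (s₂⁻¹ * (s₁ * s₂ * s₁⁻¹)) * t₂ = t₂ * (s₂⁻¹ * (s₁ * s₂ * s₁⁻¹)) := by
    have k3' : Commute s₁ t₂ := k3
    have k4' : Commute s₂ t₂ := k4
    exact ((k4'.inv_left).mul_left ((k3'.mul_left k4').mul_left k3'.inv_left))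
  have e : c₂⁻¹ * (c₁ * c₂ * c₁⁻¹) = s₂⁻¹ * (s₁ * s₂ * s₁⁻¹) := by
    have f1 : c₁ * c₂ * c₁⁻¹ = s₁ * c₂ * s₁⁻¹ := by
      rw [e₁, k1, mul_inv_rev]
      calc t₁ * s₁ * c₂ * (s₁⁻¹ * t₁⁻¹) = t₁ * (s₁ * c₂ * s₁⁻¹) * t₁⁻¹ := by group
        _ = s₁ * c₂ * s₁⁻¹ := by rw [← k2, mul_inv_cancel_right]
    have f2 : s₁ * c₂ * s₁⁻¹ = s₁ * s₂ * s₁⁻¹ * t₂ := by
      rw [e₂]
      have k3' : s₁⁻¹ * t₂ = t₂ * s₁⁻¹ := (show Commute s₁ t₂ from k3).inv_left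
      calc s₁ * (s₂ * t₂) * s₁⁻¹ = s₁ * s₂ * (t₂ * s₁⁻¹) := by group
        _ = s₁ * s₂ * s₁⁻¹ * t₂ := by rw [← k3']; group
    rw [f1, f2, e₂, k4, mul_inv_rev]
    calc s₂⁻¹ * t₂⁻¹ * (s₁ * s₂ * s₁⁻¹ * t₂) = s₂⁻¹ * t₂⁻¹ * s₂ * ((s₂⁻¹ * (s₁ * s₂ * s₁⁻¹)) * t₂) := by
          group
      _ = s₂⁻¹ * t₂⁻¹ * (s₂ * t₂) * (s₂⁻¹ * (s₁ * s₂ * s₁⁻¹)) := by rw [k5]; group
      _ = s₂⁻¹ * (s₁ * s₂ * s₁⁻¹) := by rw [k4]; group
  have hmem : s₂⁻¹ * (s₁ * s₂ * s₁⁻¹) ∈ H := by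
    rw [← e]
    exact H.mul_mem (H.inv_mem hc₂) (H.mul_mem (H.mul_mem hc₁ hc₂) (H.inv_mem hc₁))
  -- identify the commutator
  have hw1 : polar Q z₂ (u₂ : V) = 0 := hC.zn _ h2 _ u₂.2
  have hu12 : polar Q (u₁ : V) (u₂ : V) = 1 := hyp.pair
  have g1 : s₁ z₂ = z₂ := s₁Z z₂ h2
  have g2 : s₁ (-(u₂ : V)) = -(u₂ : V) - z₁ := by
    rw [hs₁, siegel_apply, polar_neg_right, hC.zn _ h1 _ u₂.2, polar_neg_left, polar_neg_right,
      hu12]
    module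
  have g3 : polar Q z₂ (-(u₂ : V) - z₁) = 0 := by
    rw [← g1, ← g2, polar_map s₁O]
    exact hu₂
  have g4 : s₁ * s₂ * s₁⁻¹ = siegel Q z₂ (-(u₂ : V) - z₁) hz₂ g3 := by
    have hz₂' : Q (s₁ z₂) = 0 := by rw [g1]; exact hz₂
    have hw' : polar Q (s₁ z₂) (s₁ (-(u₂ : V))) = 0 := by rw [polar_map s₁O]; exact hu₂
    rw [hs₂, siegel_conj s₁O hz₂ hu₂ hz₂' hw']
    congr 1
  have g5 : s₂⁻¹ = siegel Q z₂ (-(-(u₂ : V))) hz₂ (by rw [polar_neg_right, hu₂, neg_zero]) :=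
    siegel_inv hz₂ hu₂ _
  have g6 : polar Q z₂ (-(-(u₂ : V)) + (-(u₂ : V) - z₁)) = 0 := by
    rw [polar_add_right, g3, polar_neg_right, hu₂]; simp
  rw [g4, g5, siegel_mul hz₂ _ g3 g6] at hmem
  have g7 : Has Q H z₂ (-(-(u₂ : V)) + (-(u₂ : V) - z₁)) := ⟨hz₂, g6, hmem⟩
  have g8 : Has Q H z₂ (-z₁) := g7.congr rfl (by abel)
  have g9 := g8.neg
  exact g9.congr rfl (neg_neg _)

/-- `H` contains the Siegel transformations attached to `Z × N`. -/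
theorem Conf.has_zn (hC : Conf Q H Z N) (h : ∀ (u : N) (z : Z), Phi H (r1 Q u z)) {z : V}
    (hz : z ∈ Z) (u : N) : Has Q H z (u : V) := by
  have hG := hC.good
  have key : ∀ (u₀ : N) (g : N ≃ₗ[F] N), g ∈ E (res Q N) → Has Q H z ((u₀ : V) - (g u₀ : V)) := by
    intro u₀ g hg
    obtain ⟨c, t, hQz, hu₀, hc, cZ, tO, tZ, tN, e⟩ := hC.decomp (h u₀ ⟨z, hz⟩)
    change Q z = 0 at hQz
    obtain ⟨k, hk, kZ, kN⟩ := hC.lift hg
    set s := siegel Q z (-(u₀ : V)) hQz hu₀ with hs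
    have kO : k ∈ O Q := hC.hHO hk
    have k1 : k * t = t * k := hC.central tO kO tZ tN kZ
    have e1 : k * c * k⁻¹ * c⁻¹ = k * s * k⁻¹ * s⁻¹ := by
      have k2 : t * k⁻¹ = k⁻¹ * t := ((show Commute k t from k1).inv_left).symm
      rw [e, mul_inv_rev]
      calc k * (s * t) * k⁻¹ * (t⁻¹ * s⁻¹) = k * s * (t * k⁻¹) * t⁻¹ * s⁻¹ := by group
        _ = k * s * k⁻¹ * s⁻¹ := by rw [k2]; group
    have hmem : k * s * k⁻¹ * s⁻¹ ∈ H := by
      rw [← e1]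
      exact H.mul_mem (H.mul_mem (H.mul_mem hk hc) (H.inv_mem hk)) (H.inv_mem hc)
    have g1 : k z = z := kZ z hz
    have g3 : polar Q z (k (-(u₀ : V))) = 0 := by
      nth_rewrite 1 [← g1]
      rw [polar_map kO]
      exact hu₀
    have g4 : k * s * k⁻¹ = siegel Q z (k (-(u₀ : V))) hQz g3 := by
      have hz' : Q (k z) = 0 := by rw [g1]; exact hQz
      have hw' : polar Q (k z) (k (-(u₀ : V))) = 0 := by rw [g1]; exact g3
      rw [hs, siegel_conj kO hQz hu₀ hz' hw']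
      congr 1
    have g5 : s⁻¹ = siegel Q z (-(-(u₀ : V))) hQz (by rw [polar_neg_right, hu₀, neg_zero]) :=
      siegel_inv hQz hu₀ _
    have g6 : polar Q z (k (-(u₀ : V)) + -(-(u₀ : V))) = 0 := by
      rw [polar_add_right, g3, polar_neg_right, hu₀]; simp
    rw [g4, g5, siegel_mul hQz g3 _ g6] at hmem
    have g7 : Has Q H z (k (-(u₀ : V)) + -(-(u₀ : V))) := ⟨hQz, g6, hmem⟩
    have g8 : Has Q H z (k (u₀ : V) - (g u₀ : V)) := hC.has_zz h (kN u₀) hz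
    exact (g7.add g8).congr rfl (by rw [map_neg]; abel)
  -- singular vectors
  have hsing : ∀ a : N, res Q N a = 0 → Has Q H z (a : V) := by
    intro a ha
    by_cases ha0 : a = 0
    · subst ha0
      exact has_zero (hC.sing z hz)
    · obtain ⟨a', hyp⟩ := Cfsg.Agent.LieClassical.OrthTrans.exists_hyp hG.nondeg ha ha0
      obtain ⟨w, w', hw, haw, haw', -, -⟩ := hG.exists_hyp2 hyp
      have h1 := key w _ (siegel_mem_E ha haw')
      refine h1.congr rfl ?_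
      rw [siegel_apply, haw, hw.pair']
      simp
  obtain ⟨x, y, hyp⟩ := hG.exists_hyp
  refine sing_induction hyp (P := fun u : N => Has Q H z (u : V)) ?_ hsing u
  intro a c ha hc
  exact ha.add hc

/-- **All the Siegel transformations attached to `Z × Z^⊥`.** -/
theorem Conf.has_perp (hC : Conf Q H Z N) (h : ∀ (u : N) (z : Z), Phi H (r1 Q u z)) {z x : V}
    (hz : z ∈ Z) (hx : ∀ z ∈ Z, polar Q z x = 0) : Has Q H z x := by
  obtain ⟨z', hz', n, hn, rfl⟩ := hC.dec x hx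
  exact (hC.has_zz h hz' hz).add (hC.has_zn h hz ⟨n, hn⟩)

end Cfsg.Agent.H925.Ext
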