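import Cfsg.Agent.H925.NatIso
import Cfsg.Agent.H905.DCWrap
import Cfsg.Agent.H915.LD

/-!
# Identification of linear groups with natural modules (helper925)

`P ≤ GL(ι, F)` a core (`H915.LD.Core`) with `P / scalars ≃ T₀`, `π : 𝔾 → T₀` a central extension with a root group datum
and a module `ψ : 𝔾 → Mat(ν, K)` natural at `o`. If every module of dimension `|ι|` of a perfect central
`p'`-extension of `𝔾` is natural at `o` in the sense of dimensions, then `P` is the group `ψ(𝔾)` up to a homomorphism of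
fields and a change of the basis.

* `commutator_commutator` : the derived group of a central extension of a perfect group is perfect;
* **`exists_cov`** : the common perfect cover `Y` of `P` and `𝔾` with its root group datum; `cov_irr`, `cov_nt`;
* **`identify_cov`**, **`identify`** : `∃ σ : K →+* F, θ, A ∈ P ↔ ∃ g, ∀ v, θ ((ψ g)^σ v) = A θ v`;
* **`identify_equiv`** : `σ` is an isomorphism.
-/

set_option autoImplicit false
set_option linter.unusedSectionVars false

namespace Cfsg.Agent.H925.Nat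

open CoxeterSystem Cfsg.Agent.ChevalleyStructure.CoxeterGeom Cfsg.Agent.Tits.Roots Cfsg.Agent.Tits.Core
  Cfsg.Agent.Tits.Exchange Cfsg.Agent.Nodes.Reps Cfsg.Agent.Nodes.BNOf Cfsg.Agent.Nodes.StabComb
  Cfsg.Agent.Nodes.Bruhat Cfsg.Agent.Nodes.OppDec Cfsg.Agent.Nodes.RGDLib Cfsg.Agent.Omega.CR
  Cfsg.Agent.Omega.FOne.Lift.Sd Cfsg.Agent.H911 Cfsg.Agent.H905.Md Cfsg.Agent.Nodes.RGDLift Cfsg.Agent.H915.LD
open Cfsg Cfsg.Geo
open scoped MatrixGroups Matrix commutatorElement

universe u v w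

/-! ### central extensions of perfect groups -/

section perf

variable {E Q : Type*} [Group E] [Group Q]

theorem commutator_le_of_sup {H N : Subgroup E} (hN : N ≤ Subgroup.center E) (h : H ⊔ N = ⊤) : commutator E ≤ ⁅H, H⁆ := by
  rw [commutator_def, Subgroup.commutator_le]
  have hdec : ∀ g : E, ∃ a ∈ H, ∃ z ∈ N, a * z = g := by
    intro g
    have hg : g ∈ H ⊔ N := by rw [h]; trivial
    have hNn : N.Normal := ⟨fun z hz g => by
      rw [(Subgroup.mem_center_iff.1 (hN hz) g), mul_inv_cancel_right]; exact hz⟩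
    exact Subgroup.mem_sup_of_normal_right.1 hg
  intro a _ b _
  obtain ⟨a, ha, z, hz, rfl⟩ := hdec a
  obtain ⟨b, hb, w, hw, rfl⟩ := hdec b
  have hz' := Subgroup.mem_center_iff.1 (hN hz)
  have hw' := Subgroup.mem_center_iff.1 (hN hw)
  have e : ⁅a * z, b * w⁆ = ⁅a, b⁆ := by
    rw [commutatorElement_def, commutatorElement_def, mul_inv_rev, mul_inv_rev]
    have e1 : a * z * (b * w) * (z⁻¹ * a⁻¹) * (w⁻¹ * b⁻¹) = a * (z * (b * w) * z⁻¹) * a⁻¹ * (w⁻¹ * b⁻¹) := by group
    rw [e1, ← hz' (b * w), mul_inv_cancel_right]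
    have e2 : a * (b * w) * a⁻¹ * (w⁻¹ * b⁻¹) = a * b * (w * a⁻¹ * w⁻¹) * b⁻¹ := by group
    rw [e2, ← hw' a⁻¹, mul_inv_cancel_right]
  rw [e]
  exact Subgroup.commutator_mem_commutator ha hb

theorem map_commutator_top {f : E →* Q} (hs : Function.Surjective f) : (commutator E).map f = commutator Q := by
  rw [commutator_def, Subgroup.map_commutator, ← MonoidHom.range_eq_map, MonoidHom.range_eq_top.2 hs, commutator_def]

/-- the derived group of a central extension of a perfect group -/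
theorem commutator_commutator {f : E →* Q} (hs : Function.Surjective f) (hk : f.ker ≤ Subgroup.center E)
    (hQ : commutator Q = ⊤) : commutator ↥(commutator E) = ⊤ := by
  have h1 := map_commutator_top hs
  rw [hQ] at h1
  have h2 : commutator E ⊔ f.ker = ⊤ := by
    rw [← Subgroup.comap_map_eq, h1, Subgroup.comap_top]
  have h3 := commutator_le_of_sup hk h2
  exact Five.commutator_top (le_antisymm (Subgroup.commutator_le_left _ _) h3)

theorem restr_surjective {f : E →* Q} (hs : Function.Surjective f) (hQ : commutator Q = ⊤) :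
    Function.Surjective (f.comp (commutator E).subtype) := by
  intro q
  have h1 : q ∈ (commutator E).map f := by rw [map_commutator_top hs, hQ]; trivial
  obtain ⟨y, hy, e⟩ := h1
  exact ⟨⟨y, hy⟩, e⟩

end perf

/-! ### transfer along an extension -/

section transfer

variable {I W Y Y' : Type*} [Fintype I] [DecidableEq I] [Group W] [Finite W] [Group Y] [Finite Y] [Group Y']
  {M : CoxeterMatrix I} {cs : CoxeterSystem M W} {A : I → I → ℤ} {h : IsCartan M A} {p : ℕ} [Fact p.Prime]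
  {T' : Subgroup Y'} {n' : I → Y'} {X' : (I → ℤ) → Subgroup Y'}

theorem map_Sup_lft_le (f : Y →* Y') (S : Set (I → ℤ)) :
    (RGD.Sup (fun x => lft p f (X' x)) S).map f ≤ RGD.Sup X' S := by
  unfold RGD.Sup
  rw [Subgroup.map_iSup]
  exact iSup_mono fun z => map_lft_le p f (X' z.1)

variable {K : Type*} [Field K] {ν : Type*} [Fintype ν] [DecidableEq ν] {f : Y →* Y'} {n : I → Y}

theorem NatAt.comap {ψ : Y' →* Matrix ν ν K} {o : I} {b : ν → K} (H : NatAt T' n' X' (lin ψ) o b)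
    (hn : ∀ i, f (n i) = n' i) :
    NatAt (T'.comap f) n (fun x => lft p f (X' x)) (lin (ψ.comp f)) o b where
  c0 := H.c0
  fix i x hx := H.fix i _ (map_lft_le p f _ (Subgroup.mem_map_of_mem f hx))
  tor t ht := H.tor _ ht
  neg i hi x hx := H.neg i hi _ (map_lft_le p f _ (Subgroup.mem_map_of_mem f hx))
  ind a ha := H.ind a (by rw [← hn o]; exact ha)
  up x hx := by
    obtain ⟨a, ha⟩ := H.up _ (map_lft_le p f _ (Subgroup.mem_map_of_mem f hx))
    rw [← hn o] at ha
    exact ⟨a, ha⟩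

end transfer

/-! ### the identification -/

section ident

variable {F : Type u} [Field F] [Finite F] {ι : Type} [Fintype ι] [DecidableEq ι] {P : Subgroup (GL ι F)}

/-- matrices of the elements of `P` -/
def matP (P : Subgroup (GL ι F)) : P →* Matrix ι ι F := (Units.coeHom _).comp P.subtype

theorem matP_apply (P : Subgroup (GL ι F)) (g : P) : matP P g = ((g : GL ι F) : Matrix ι ι F) := rfl

/-- **A common perfect cover of `P` and `𝔾`, with its root group datum.** -/
theorem exists_cov (hC : Core P) {𝔾 : Type v} [Group 𝔾] [Finite 𝔾] {p : ℕ} [hp : Fact p.Prime] [hcF : CharP F p]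
    {I W : Type} [Fintype I] [DecidableEq I] [Group W] [Finite W] {M : CoxeterMatrix I} {cs : CoxeterSystem M W}
    {A : I → I → ℤ} {h : IsCartan M A} {T : Subgroup 𝔾} {n : I → 𝔾} {X : (I → ℤ) → Subgroup 𝔾}
    (R : RGD cs h p T n X) (hG : G1 cs h X = ⊤) (hperf : commutator 𝔾 = ⊤) {T₀ : Type*} [Group T₀] {π : 𝔾 →* T₀}
    (hπ : Function.Surjective π) (Φ : Soc P ≃* T₀) :
    ∃ (Y : Type (max u v)) (_ : Group Y) (_ : Finite Y) (f : Y →* 𝔾) (g : Y →* P) (n₁ : I → Y),
      Function.Surjective f ∧ Function.Surjective g ∧ f.ker ≤ Subgroup.center Y ∧ (Nat.card f.ker).Coprime p ∧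
      commutator Y = ⊤ ∧ (∀ i, f (n₁ i) = n i) ∧ (∀ y, prj Φ (g y) = π (f y)) ∧
      RGD cs h p (T.comap f) n₁ (fun x => lft p f (X x)) ∧ G1 cs h (fun x => lft p f (X x)) = ⊤ := by
  classical
  have hfin : Finite P := inferInstance
  have hne := hC.nonempty
  -- the fibre product
  let E : Subgroup (P × 𝔾) :=
    MonoidHom.eqLocus ((prj Φ).comp (MonoidHom.fst P 𝔾)) (π.comp (MonoidHom.snd P 𝔾))
  let f0 : E →* 𝔾 := (MonoidHom.snd P 𝔾).comp E.subtype
  let g0 : E →* P := (MonoidHom.fst P 𝔾).comp E.subtype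
  have hf0 : Function.Surjective f0 := by
    intro y
    obtain ⟨a, ha⟩ := prj_surjective Φ (π y)
    exact ⟨⟨(a, y), ha⟩, rfl⟩
  have hg0 : Function.Surjective g0 := by
    intro a
    obtain ⟨y, hy⟩ := hπ (prj Φ a)
    exact ⟨⟨(a, y), hy.symm⟩, rfl⟩
  have hker : ∀ x : E, f0 x = 1 → (x : P × 𝔾).1 ∈ (scalars ι F).subgroupOf P := by
    intro x hx
    have h1 : prj Φ (x : P × 𝔾).1 = π (x : P × 𝔾).2 := x.2
    have h2 : (x : P × 𝔾).2 = 1 := hx
    rw [h2, map_one] at h1
    rw [← prj_ker Φ, MonoidHom.mem_ker]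
    exact h1
  have hcen : f0.ker ≤ Subgroup.center E := by
    intro x hx
    rw [Subgroup.mem_center_iff]
    intro y
    have h1 := hker x hx
    have h2 : (x : P × 𝔾).2 = 1 := hx
    apply Subtype.ext
    apply Prod.ext
    · exact Subgroup.mem_center_iff.1 (subgroupOf_scalars_le P h1) _
    · change (y : P × 𝔾).2 * (x : P × 𝔾).2 = (x : P × 𝔾).2 * (y : P × 𝔾).2
      rw [h2, mul_one, one_mul]
  have hPc : commutator P = ⊤ := hC.commutator_top
  -- the perfect extension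
  have hY := commutator_commutator hf0 hcen hperf
  let f : ↥(commutator E) →* 𝔾 := f0.comp (commutator E).subtype
  let g : ↥(commutator E) →* P := g0.comp (commutator E).subtype
  have hf : Function.Surjective f := restr_surjective hf0 hperf
  have hg : Function.Surjective g := restr_surjective hg0 hPc
  have hfk : f.ker ≤ Subgroup.center ↥(commutator E) := by
    intro x hx
    rw [Subgroup.mem_center_iff]
    intro y
    have h1 : (x : E) ∈ f0.ker := hx
    exact Subtype.ext (Subgroup.mem_center_iff.1 (hcen h1) y)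
  have hfp : (Nat.card f.ker).Coprime p := by
    refine Nat.Coprime.coprime_dvd_left ?_ (card_scalars_coprime (p := p) P)
    refine Subgroup.card_dvd_of_injective ((g.comp f.ker.subtype).codRestrict ((scalars ι F).subgroupOf P)
      (fun x => hker _ x.2)) ?_
    intro x y e
    have e1 : ((x : ↥(commutator E)) : E).1.1 = ((y : ↥(commutator E)) : E).1.1 :=
      congrArg (fun z : (scalars ι F).subgroupOf P => (z : P)) e
    have e2 : ((x : ↥(commutator E)) : E).1.2 = 1 := x.2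
    have e3 : ((y : ↥(commutator E)) : E).1.2 = 1 := y.2
    exact Subtype.ext (Subtype.ext (Subtype.ext (Prod.ext e1 (e2.trans e3.symm))))
  obtain ⟨n₁, hn₁, R₁, hG₁⟩ := H905.DC.exists_rgd_lift hY hfk hfp hf R hG
  exact ⟨↥(commutator E), inferInstance, inferInstance, f, g, n₁, hf, hg, hfk, hfp, hY, hn₁, fun y => (y : E).2, R₁, hG₁⟩

section cov

variable {Y : Type*} [Group Y] [Finite Y] {g : Y →* P} {p : ℕ} [hp : Fact p.Prime]
    {I W : Type} [Fintype I] [DecidableEq I] [Group W] [Finite W] {M : CoxeterMatrix I} {cs : CoxeterSystem M W}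
    {A : I → I → ℤ} {h : IsCartan M A} {T : Subgroup Y} {X : (I → ℤ) → Subgroup Y}

/-- the module of a cover is irreducible -/
theorem cov_irr (hC : Core P) (hg : Function.Surjective g) (hG : G1 cs h X = ⊤) (L : Submodule F (ι → F))
    (hL : Ivt (lin ((matP P).comp g)) (GG cs h T X) L) : L = ⊥ ∨ L = ⊤ := by
  have hGG : GG cs h T X = ⊤ := by
    rw [eq_top_iff, ← hG]
    exact le_sup_right
  refine hC.absIrred.1 L ?_
  rintro _ ⟨a, ha, rfl⟩ _ ⟨v, hv, rfl⟩
  obtain ⟨y, hy⟩ := hg ⟨a, ha⟩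
  have h1 := hL y (by rw [hGG]; trivial) v hv
  rw [lin_apply, MonoidHom.comp_apply, matP_apply, hy] at h1
  rw [Matrix.toLin'_apply]
  exact h1

omit [Finite Y] in
/-- and not trivial -/
theorem cov_nt (hC : Core P) (hg : Function.Surjective g) :
    ∃ (y : Y) (v : ι → F), lin ((matP P).comp g) y v ≠ v := by
  by_contra hcon
  push Not at hcon
  apply hC.nonabelian
  have h1 : ∀ a : P, a = 1 := by
    intro a
    obtain ⟨y, rfl⟩ := hg a
    apply Subtype.ext
    apply Units.ext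
    have h2 := hcon y
    apply Matrix.toLin'.injective
    ext1 i
    ext1
    simp only [LinearMap.comp_apply]
    have h3 := h2 (Pi.single i 1)
    rw [lin_apply, MonoidHom.comp_apply, matP_apply] at h3
    simpa using h3
  exact ⟨⟨fun x y => by
    induction x using QuotientGroup.induction_on with
    | H x =>
      induction y using QuotientGroup.induction_on with
      | H y => rw [h1 x, h1 y]⟩⟩

end cov

/-- **The identification for a cover.** -/
theorem identify_cov (hC : Core P) {𝔾 : Type v} [Group 𝔾] {K : Type w} [Field K] [Finite K]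
    {ν : Type*} [Fintype ν] [DecidableEq ν] {p : ℕ} [hp : Fact p.Prime] [hcF : CharP F p] [hcK : CharP K p] {I W : Type}
    [Fintype I] [DecidableEq I] [Group W] [Finite W] {M : CoxeterMatrix I} {cs : CoxeterSystem M W} {A : I → I → ℤ}
    {h : IsCartan M A} {T : Subgroup 𝔾} {n : I → 𝔾} {X : (I → ℤ) → Subgroup 𝔾} (R : RGD cs h p T n X)
    {Y : Type*} [Group Y] [Finite Y] {f : Y →* 𝔾} {g : Y →* P} {n₁ : I → Y} (hf : Function.Surjective f)
    (hg : Function.Surjective g) (hfk : f.ker ≤ Subgroup.center Y) (hfp : (Nat.card f.ker).Coprime p)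
    (hn₁ : ∀ i, f (n₁ i) = n i) (R₁ : RGD cs h p (T.comap f) n₁ (fun x => lft p f (X x)))
    (hG₁ : G1 cs h (fun x => lft p f (X x)) = ⊤)
    {ψ : 𝔾 →* Matrix ν ν K} (hsN : Submodule.span K (Set.range ψ) = ⊤) {o : I} {b : ν → K}
    (HN : NatAt T n X (lin ψ) o b) (hbU : b ∈ fx (lin ψ) (RGD.Sup X (RGD.Pos cs h)))
    (hsurj : ∀ a : K, ∃ x ∈ X (sr o), lin ψ x (lin ψ (n o) b) = lin ψ (n o) b + a • b)
    (hJ : ∀ i, i ∈ Jx cs h (fun x => lft p f (X x)) (lin ((matP P).comp g)) ↔ i ≠ o)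
    (hD : Module.finrank F (D cs h (fun x => lft p f (X x)) (lin ((matP P).comp g))) = 1)
    (hL : Module.finrank F (Le cs h (T.comap f) (fun x => lft p f (X x)) (lin ((matP P).comp g)) {o}) ≤ 2) :
    ∃ (σ : K →+* F) (θ : (ν → F) ≃ₗ[F] (ι → F)), ∀ A : GL ι F,
      A ∈ P ↔ ∃ g : 𝔾, ∀ v, θ (((ψ g).map σ) *ᵥ v) = (A : Matrix ι ι F) *ᵥ θ v := by
  classical
  have HN₁ := HN.comap (p := p) (f := f) hn₁
  have hb₁ : b ∈ fx (lin (ψ.comp f)) (RGD.Sup (fun x => lft p f (X x)) (RGD.Pos cs h)) := by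
    intro x hx
    exact hbU _ (map_Sup_lft_le f _ (Subgroup.mem_map_of_mem f hx))
  have hs₁ : ∀ a : K, ∃ x ∈ lft p f (X (sr o)), lin (ψ.comp f) x (lin (ψ.comp f) (n₁ o) b) =
      lin (ψ.comp f) (n₁ o) b + a • b := by
    intro a
    obtain ⟨x, hx, e⟩ := hsurj a
    have h1 : x ∈ (lft p f (X (sr o))).map f := by rw [map_lft hfk hfp hf (R.pgrp o)]; exact hx
    obtain ⟨y, hy, rfl⟩ := h1
    refine ⟨y, hy, ?_⟩
    rw [← hn₁ o] at e
    exact e
  have hsp₁ : Submodule.span K (Set.range (ψ.comp f)) = ⊤ := by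
    rw [← hsN]
    congr 1
    ext m
    constructor
    · rintro ⟨y, rfl⟩
      exact ⟨f y, rfl⟩
    · rintro ⟨y, rfl⟩
      obtain ⟨z, rfl⟩ := hf y
      exact ⟨z, rfl⟩
  have hφ : ∀ y, ((matP P).comp g) y = ((g y : GL ι F) : Matrix ι ι F) := fun _ => rfl
  have hirr := cov_irr (T := T.comap f) hC hg hG₁
  have hnV : Nontrivial (ι → F) := by
    obtain ⟨y, v, hv⟩ := cov_nt hC hg
    exact nontrivial_of_ne _ _ hv
  obtain ⟨⟨c, hcD⟩, hc0, hc1⟩ := finrank_eq_one_iff'.1 hD
  have hc0' : c ≠ 0 := fun h0 => hc0 (Subtype.ext h0)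
  have hDs : D cs h (fun x => lft p f (X x)) (lin ((matP P).comp g)) = Submodule.span F {c} := by
    apply le_antisymm
    · intro v hv
      obtain ⟨a, ha⟩ := hc1 ⟨v, hv⟩
      rw [Submodule.mem_span_singleton]
      exact ⟨a, congrArg Subtype.val ha⟩
    · rw [Submodule.span_singleton_le_iff_mem]
      exact hcD
  have HV := natAt_of_dim R₁ hirr hc0' hDs hJ hL
  have hp2 : (2 : F) ≠ 0 ∨ ∀ a : K, ∃ c, c * c = a := by
    by_cases h2 : (2 : F) = 0
    · right
      have hch : CharP F 2 := CharTwo.of_one_ne_zero_of_two_eq_zero one_ne_zero h2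
      have hp2 : p = 2 := CharP.eq F hcF hch
      subst hp2
      intro a
      have h4 : Function.Injective (frobenius K 2) := frobenius_inj K 2
      obtain ⟨c, hc⟩ := (Finite.injective_iff_surjective.1 h4) a
      rw [frobenius_def, pow_two] at hc
      exact ⟨c, hc⟩
    · exact Or.inl h2
  obtain ⟨σ, θ, hθ⟩ := nat_iso R₁ hG₁ hsp₁ hirr HN₁ HV hb₁ hcD hs₁ hp2
  refine ⟨σ, θ, fun A => ⟨fun hA => ?_, fun ⟨y, hy⟩ => ?_⟩⟩
  · obtain ⟨y, hy⟩ := hg ⟨A, hA⟩
    refine ⟨f y, fun v => ?_⟩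
    have h1 := hθ y v
    rw [hφ, hy] at h1
    exact h1
  · obtain ⟨z, rfl⟩ := hf y
    have h1 : A = ((g z : P) : GL ι F) := by
      apply Units.ext
      apply Matrix.toLin'.injective
      refine LinearMap.ext fun w => ?_
      obtain ⟨v, rfl⟩ := θ.surjective w
      rw [Matrix.toLin'_apply, Matrix.toLin'_apply, ← hy v, ← hφ, ← hθ z v]
      rfl
    rw [h1]
    exact (g z).2

/-- **The identification.** -/
theorem identify (hC : Core P) {𝔾 : Type v} [Group 𝔾] [Finite 𝔾] {K : Type w} [Field K] [Finite K]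
    {ν : Type*} [Fintype ν] [DecidableEq ν] {p : ℕ} [hp : Fact p.Prime] [hcF : CharP F p] [hcK : CharP K p] {I W : Type}
    [Fintype I] [DecidableEq I] [Group W] [Finite W] {M : CoxeterMatrix I} {cs : CoxeterSystem M W} {A : I → I → ℤ}
    {h : IsCartan M A} {T : Subgroup 𝔾} {n : I → 𝔾} {X : (I → ℤ) → Subgroup 𝔾} (R : RGD cs h p T n X)
    (hG : G1 cs h X = ⊤) (hperf : commutator 𝔾 = ⊤) {T₀ : Type*} [Group T₀] {π : 𝔾 →* T₀}
    (hπ : Function.Surjective π) (Φ : Soc P ≃* T₀)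
    {ψ : 𝔾 →* Matrix ν ν K} (hsN : Submodule.span K (Set.range ψ) = ⊤) {o : I} {b : ν → K}
    (HN : NatAt T n X (lin ψ) o b) (hbU : b ∈ fx (lin ψ) (RGD.Sup X (RGD.Pos cs h)))
    (hsurj : ∀ a : K, ∃ x ∈ X (sr o), lin ψ x (lin ψ (n o) b) = lin ψ (n o) b + a • b)
    (hsmall : ∀ {Y : Type (max u v)} [Group Y] [Finite Y] {T : Subgroup Y} {n : I → Y} {X : (I → ℤ) → Subgroup Y}
      (_ : RGD cs h p T n X) {ρ : Y →* Module.End F (ι → F)}
      (_ : ∀ L : Submodule F (ι → F), Ivt ρ (GG cs h T X) L → L = ⊥ ∨ L = ⊤) (_ : G1 cs h X = ⊤)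
      (_ : ∃ (g : Y) (v : ι → F), ρ g v ≠ v),
      (∀ i, i ∈ Jx cs h X ρ ↔ i ≠ o) ∧ Module.finrank F (D cs h X ρ) = 1 ∧
        Module.finrank F (Le cs h T X ρ {o}) ≤ 2) :
    ∃ (σ : K →+* F) (θ : (ν → F) ≃ₗ[F] (ι → F)), ∀ A : GL ι F,
      A ∈ P ↔ ∃ g : 𝔾, ∀ v, θ (((ψ g).map σ) *ᵥ v) = (A : Matrix ι ι F) *ᵥ θ v := by
  obtain ⟨Y, _, _, f, g, n₁, hf, hg, hfk, hfp, hY, hn₁, -, R₁, hG₁⟩ := exists_cov hC R hG hperf hπ Φ
  obtain ⟨hJ, hD, hL⟩ := hsmall R₁ (cov_irr hC hg hG₁) hG₁ (cov_nt hC hg)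
  exact identify_cov hC R hf hg hfk hfp hn₁ R₁ hG₁ hsN HN hbU hsurj hJ hD hL

/-- the homomorphism of the fields is an isomorphism -/
theorem identify_surj (hC : Core P) {𝔾 : Type*} {K : Type*} [Field K] {ν : Type*} [Fintype ν] [DecidableEq ν]
    {ψ : 𝔾 → Matrix ν ν K} {σ : K →+* F} {θ : (ν → F) ≃ₗ[F] (ι → F)}
    (h : ∀ A : GL ι F, A ∈ P ↔ ∃ g : 𝔾, ∀ v, θ (((ψ g).map σ) *ᵥ v) = (A : Matrix ι ι F) *ᵥ θ v) :
    Function.Surjective σ := by
  classical
  by_contra hns
  apply hC.no_subfield σ.fieldRange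
  · intro htop
    apply hns
    intro a
    have : a ∈ σ.fieldRange := by rw [htop]; trivial
    exact this
  have hcard : Fintype.card ν = Fintype.card ι := by
    have := LinearEquiv.finrank_eq θ
    rwa [Module.finrank_fintype_fun_eq_card, Module.finrank_fintype_fun_eq_card] at this
  let e : ν ≃ ι := Fintype.equivOfCardEq hcard
  let τ : (ι → F) ≃ₗ[F] (ι → F) := θ.symm.trans (LinearEquiv.funCongrLeft F F e.symm)
  have hτ : ∀ v i, τ v i = θ.symm v (e.symm i) := fun _ _ => rfl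
  have h1 : LinearMap.toMatrix' (τ : (ι → F) →ₗ[F] (ι → F)) * LinearMap.toMatrix' (τ.symm : (ι → F) →ₗ[F] (ι → F)) = 1 := by
    rw [← LinearMap.toMatrix'_comp, LinearEquiv.comp_coe, LinearEquiv.symm_trans_self]
    exact LinearMap.toMatrix'_one
  have h2 : LinearMap.toMatrix' (τ.symm : (ι → F) →ₗ[F] (ι → F)) * LinearMap.toMatrix' (τ : (ι → F) →ₗ[F] (ι → F)) = 1 := by
    rw [← LinearMap.toMatrix'_comp, LinearEquiv.comp_coe, LinearEquiv.self_trans_symm]
    exact LinearMap.toMatrix'_one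
  refine ⟨⟨_, _, h1, h2⟩, ?_⟩
  rintro _ ⟨A, hA, rfl⟩ i j
  obtain ⟨g, hg⟩ := (h A).1 hA
  refine ⟨ψ g (e.symm i) (e.symm j), ?_⟩
  have h3 : LinearMap.toMatrix' (τ : (ι → F) →ₗ[F] (ι → F)) * (A : Matrix ι ι F) *
      LinearMap.toMatrix' (τ.symm : (ι → F) →ₗ[F] (ι → F)) =
      LinearMap.toMatrix' ((τ : (ι → F) →ₗ[F] (ι → F)) ∘ₗ Matrix.toLin' (A : Matrix ι ι F) ∘ₗ
        (τ.symm : (ι → F) →ₗ[F] (ι → F))) := by
    rw [LinearMap.toMatrix'_comp, LinearMap.toMatrix'_comp, LinearMap.toMatrix'_toLin', mul_assoc]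
  refine Eq.trans ?_ (congrFun (congrFun h3.symm i) j)
  rw [LinearMap.toMatrix'_apply]
  simp only [LinearMap.comp_apply, LinearEquiv.coe_coe, Matrix.toLin'_apply]
  rw [hτ]
  have h4 : τ.symm (Pi.single j 1) = θ (Pi.single (e.symm j) 1) := by
    rw [LinearEquiv.symm_apply_eq]
    funext k
    rw [hτ, LinearEquiv.symm_apply_apply]
    by_cases hk : k = j
    · subst hk; simp
    · rw [Pi.single_eq_of_ne hk, Pi.single_eq_of_ne (fun h5 => hk (e.symm.injective h5))]
  rw [h4, ← hg, LinearEquiv.symm_apply_apply, Matrix.mulVec_single_one]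
  rfl

/-- **The identification**, with an isomorphism of the fields. -/
theorem ringEquiv_of_surj {K : Type*} [Field K] (σ : K →+* F) (h : Function.Surjective σ) :
    ∃ τ : K ≃+* F, (τ : K →+* F) = σ := ⟨RingEquiv.ofBijective σ ⟨σ.injective, h⟩, rfl⟩

end ident

end Cfsg.Agent.H925.Nat
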