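import Cfsg.Agent.H925.NatCover
import Cfsg.Agent.H925.NatDim
import Cfsg.Agent.H925.NatFrame
import Cfsg.Agent.Nodes.WittInst
import Cfsg.Agent.H919.AschBurnside

/-!
# Linear groups of classical type of rank `4, 5, 6` in the defining characteristic (helper925)

* `span_of_absIrr` : the matrices of an absolutely irreducible group span the matrix algebra;
* `G1_eq_top_of_map` : generation by the root groups, for a perfect central extension;
* **`identify_C`** : `P / scalars ≃ T₀`, `T₀` modelled on a Witt frame of rank `4, 5, 6`, `|ι| ≤ 12` : `P` is the group of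
  isometries up to an isomorphism of the fields and a change of the basis;
* **`identify_D`** : the same for `PΩ⁺`, rank `5, 6`.
-/

set_option autoImplicit false
set_option linter.unusedSectionVars false

namespace Cfsg.Agent.H925.Nat

open CoxeterSystem Cfsg.Agent.ChevalleyStructure.CoxeterGeom Cfsg.Agent.Tits.Roots Cfsg.Agent.Tits.Core
  Cfsg.Agent.Nodes.Reps Cfsg.Agent.Nodes.BNOf Cfsg.Agent.Nodes.Bruhat Cfsg.Agent.Nodes.RGDLib
open Cfsg.Agent.Nodes Cfsg.Agent.Nodes.WittRoot Cfsg.Agent.Nodes.WittRGD Cfsg.Agent.Nodes.WittAll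
open Cfsg.Agent.TitsThree.Siegel Cfsg.Agent.TitsThree.SiegelGen Cfsg.Agent.TitsThree.WittFrame Cfsg.Agent.TitsThree.FrameCN
  Cfsg.Agent.TitsThree.WBridge Cfsg.Agent.TitsThree.KSideO
open Cfsg.Agent.H915.LD Cfsg.Agent.H911
open Cfsg Cfsg.Geo
open scoped MatrixGroups Matrix

universe u

/-! ### spanning and generation -/

section basics

theorem span_of_absIrr {K : Type*} [Field K] {ν : Type} [Fintype ν] [DecidableEq ν] {G : Type*} [Group G]
    {ψ : G →* Matrix ν ν K} {S : Set (Matrix ν ν K)} (hS : S ⊆ Set.range ψ) (h : ActsAbsolutelyIrreducibly S) :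
    Submodule.span K (Set.range ψ) = ⊤ := by
  have h1 := H919.adjoin_eq_top_of_absIrr h
  have h2 : Algebra.adjoin K (Set.range ψ) = ⊤ := by
    rw [eq_top_iff, ← h1]
    exact Algebra.adjoin_mono hS
  have h3 : Subalgebra.toSubmodule (Algebra.adjoin K (Set.range ψ)) = Submodule.span K (Set.range ψ) := by
    rw [Algebra.adjoin_eq_span]
    congr 1
    have h4 : Submonoid.closure (Set.range ψ) = MonoidHom.mrange ψ := by
      rw [← MonoidHom.coe_mrange, Submonoid.closure_eq]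
    rw [h4, MonoidHom.coe_mrange]
  rw [← h3, h2]
  exact Algebra.top_toSubmodule

variable {I W Y Y' : Type*} [Fintype I] [DecidableEq I] [Group W] [Group Y] [Group Y']
  {M : CoxeterMatrix I} {cs : CoxeterSystem M W} {A : I → I → ℤ} {h : IsCartan M A}
  {X : (I → ℤ) → Subgroup Y}

theorem G1_eq_top_of_map (hperf : commutator Y = ⊤) {f : Y →* Y'} (hf : f.ker ≤ Subgroup.center Y)
    (hG : G1 cs h (fun x => (X x).map f) = ⊤) : G1 cs h X = ⊤ := by
  refine H905.DC.eq_top_of_sup_center hperf hf ?_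
  have h1 : (G1 cs h X).map f = ⊤ := by
    rw [← hG]
    unfold G1 RGD.Sup
    rw [Subgroup.map_iSup]
  rw [← Subgroup.comap_map_eq, h1, Subgroup.comap_top]

end basics

/-! ### type `B_n` -/

section C

variable {F : Type u} [Field F] [Finite F] {ι : Type} [Fintype ι] [DecidableEq ι] {P : Subgroup (GL ι F)}

theorem model_surjective {K : Type*} [Field K] {V : Type*} [AddCommGroup V] [Module K V] {H : HForm K V} {n : ℕ}
    {Fr : Frame H (Fin n)} {T₀ : Type*} [Group T₀] (M : Model Fr T₀) (hn : 0 < n) : Function.Surjective M.φ := by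
  rw [← MonoidHom.range_eq_top]
  exact M.gen ⟨0, hn⟩ _ (fun i j _ t => ⟨⟨_, rfl⟩, ⟨_, rfl⟩⟩) fun q => ⟨⟨_, rfl⟩, ⟨_, rfl⟩⟩

theorem identify_C (hC : Core P) {K : Type} [Field K] [Finite K] {ν : Type} [Fintype ν] [DecidableEq ν]
    {H : HForm K (ν → K)} {n : ℕ} {Fr : Frame H (Fin n)} {T₀ : Type*} [Group T₀] (M : Model Fr T₀) {p : ℕ}
    [Fact p.Prime] [CharP F p] [CharP K p] (hA : AmbT Fr p M.I) {p0 : Fr.Adm} (hp0 : p0.c ≠ 0)
    (hn : n = 4 ∨ n = 5 ∨ n = 6) (hperf : commutator ↥M.I = ⊤)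
    (hsN : Submodule.span K (Set.range (mt M.I)) = ⊤) (hι : Fintype.card ι ≤ 12) (e : Soc P ≃* T₀) :
    ∃ (τ : K ≃+* F) (θ : (ν → F) ≃ₗ[F] (ι → F)), ∀ A : GL ι F,
      A ∈ P ↔ ∃ g : M.I, ∀ v, θ (((mt M.I g).map (τ : K →+* F)) *ᵥ v) = (A : Matrix ι ι F) *ᵥ θ v := by
  have hfin : Finite ((ν → K) ≃ₗ[K] (ν → K)) :=
    Finite.of_injective (fun g : (ν → K) ≃ₗ[K] (ν → K) => (g : (ν → K) → (ν → K))) DFunLike.coe_injective
  have hWf : Finite (CoxeterMatrix.B n).Group := TypeC.finite_W (CoxeterMatrix.B n).toCoxeterSystem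
  have hsur := model_surjective M (by omega)
  have hR := rgd_restrict (WittAll.rgdC hA hp0 (CoxeterMatrix.B n).toCoxeterSystem) M.I (fun x _ => hA.rg_le x)
    (fun i => WittAll.nn_mem hA p0 i)
  have hG : G1 (CoxeterMatrix.B n).toCoxeterSystem (TypeC.isCartan n)
      (fun x => (WittRoot.rg Fr x).subgroupOf M.I) = ⊤ :=
    G1_eq_top_of_map hperf (WittAll.ker_le_center M) (WittModel.G1_eq_top M (by omega) _)
  have key : ∃ (σ : K →+* F) (θ : (ν → F) ≃ₗ[F] (ι → F)), ∀ A : GL ι F,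
      A ∈ P ↔ ∃ g : M.I, ∀ v, θ (((mt M.I g).map σ) *ᵥ v) = (A : Matrix ι ι F) *ᵥ θ v := by
    rcases hn with rfl | rfl | rfl
    · refine identify (o := (0 : Fin 4)) hC hR hG hperf hsur e hsN
        (natAt_C hA hp0 (by omega) rfl (CoxeterMatrix.B 4).toCoxeterSystem)
        (fixC (by omega) rfl (CoxeterMatrix.B 4).toCoxeterSystem) (surjC hA hp0 (by omega) rfl) ?_
      intro Y _ _ T n X R ρ hirr hG1 hnt
      have : Nontrivial (ι → F) := by
        obtain ⟨g, v, hv⟩ := hnt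
        exact nontrivial_of_ne _ _ hv
      exact small_B4 R hirr hG1 (by rwa [Module.finrank_fintype_fun_eq_card]) hnt
    · refine identify (o := (0 : Fin 5)) hC hR hG hperf hsur e hsN
        (natAt_C hA hp0 (by omega) rfl (CoxeterMatrix.B 5).toCoxeterSystem)
        (fixC (by omega) rfl (CoxeterMatrix.B 5).toCoxeterSystem) (surjC hA hp0 (by omega) rfl) ?_
      intro Y _ _ T n X R ρ hirr hG1 hnt
      have : Nontrivial (ι → F) := by
        obtain ⟨g, v, hv⟩ := hnt
        exact nontrivial_of_ne _ _ hv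
      exact small_B5 R hirr hG1 (by rwa [Module.finrank_fintype_fun_eq_card]) hnt
    · refine identify (o := (0 : Fin 6)) hC hR hG hperf hsur e hsN
        (natAt_C hA hp0 (by omega) rfl (CoxeterMatrix.B 6).toCoxeterSystem)
        (fixC (by omega) rfl (CoxeterMatrix.B 6).toCoxeterSystem) (surjC hA hp0 (by omega) rfl) ?_
      intro Y _ _ T n X R ρ hirr hG1 hnt
      have : Nontrivial (ι → F) := by
        obtain ⟨g, v, hv⟩ := hnt
        exact nontrivial_of_ne _ _ hv
      exact small_B6 R hirr hG1 (by rwa [Module.finrank_fintype_fun_eq_card]) hnt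
  obtain ⟨σ, θ, hθ⟩ := key
  obtain ⟨τ, rfl⟩ := ringEquiv_of_surj σ (identify_surj hC hθ)
  exact ⟨τ, θ, hθ⟩

end C

/-! ### type `D_n` -/

section D

variable {F : Type u} [Field F] [Finite F] {ι : Type} [Fintype ι] [DecidableEq ι] {P : Subgroup (GL ι F)}

open Cfsg.Agent.LieClassical.OrthCore Cfsg.Agent.LieClassical.OrthTrans Cfsg.Agent.Nodes.WittInst

theorem identify_D (hC : Core P) {K : Type} [Field K] [Finite K] {ν : Type} [Fintype ν] [DecidableEq ν]
    {Q : QuadraticForm K (ν → K)} {n : ℕ} {T₀ : Type*} [Group T₀] (W : WFrame (PO Q) (n + 2)) (hG : Good Q)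
    {φ : E Q →* T₀} (hφ : Function.Surjective φ) {p : ℕ}
    [Fact p.Prime] [CharP F p] [CharP K p] (hA : WittRoot.Amb (toFrame W) (E Q)) (h0 : ∀ q : (toFrame W).Adm, q = 1)
    (hn : n = 3 ∨ n = 4)
    (hsN : Submodule.span K (Set.range (mt (E Q))) = ⊤) (hι : Fintype.card ι ≤ 12) (e : Soc P ≃* T₀) :
    ∃ (τ : K ≃+* F) (θ : (ν → F) ≃ₗ[F] (ι → F)), ∀ A : GL ι F,
      A ∈ P ↔ ∃ g : E Q, ∀ v, θ (((mt (E Q) g).map (τ : K →+* F)) *ᵥ v) = (A : Matrix ι ι F) *ᵥ θ v := by
  have hfin : Finite ((ν → K) ≃ₗ[K] (ν → K)) :=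
    Finite.of_injective (fun g : (ν → K) ≃ₗ[K] (ν → K) => (g : (ν → K) → (ν → K))) DFunLike.coe_injective
  have hWf : Finite (TypeD.M n).Group := TypeD.finite_W (TypeD.M n).toCoxeterSystem
  have hR := rgd_restrict (rgdD hA h0 (TypeD.M n).toCoxeterSystem (p := p))
    (E Q) (fun x _ => rgD_le _ hA x) (fun i => WittRGDD.nn_mem hA i)
  have hperf : commutator ↥(E Q) = ⊤ := Five.commutator_top hG.E_perfect
  have hG1 : G1 (TypeD.M n).toCoxeterSystem (TypeD.isCartan n)
      (fun x => (WittRGDD.rg (toFrame W) x).subgroupOf (E Q)) = ⊤ := by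
    have h1 := G1D_eq_top W (MonoidHom.id (E Q)) Function.surjective_id h0 (TypeD.M n).toCoxeterSystem
    rw [← h1]
    congr 1
    funext x
    exact (Subgroup.map_id _).symm
  have key : ∃ (σ : K →+* F) (θ : (ν → F) ≃ₗ[F] (ι → F)), ∀ A : GL ι F,
      A ∈ P ↔ ∃ g : E Q, ∀ v, θ (((mt (E Q) g).map σ) *ᵥ v) = (A : Matrix ι ι F) *ᵥ θ v := by
    rcases hn with rfl | rfl
    · refine identify (o := (0 : Fin 5)) hC hR hG1 hperf hφ e hsN
        (natAt_D hA (by omega) rfl (TypeD.M 3).toCoxeterSystem)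
        (fixD (by omega) rfl (TypeD.M 3).toCoxeterSystem) (surjD hA rfl) ?_
      intro Y _ _ T n X R ρ hirr hG1 hnt
      have : Nontrivial (ι → F) := by
        obtain ⟨g, v, hv⟩ := hnt
        exact nontrivial_of_ne _ _ hv
      exact small_D5 R hirr hG1 (by rwa [Module.finrank_fintype_fun_eq_card]) hnt
    · refine identify (o := (0 : Fin 6)) hC hR hG1 hperf hφ e hsN
        (natAt_D hA (by omega) rfl (TypeD.M 4).toCoxeterSystem)
        (fixD (by omega) rfl (TypeD.M 4).toCoxeterSystem) (surjD hA rfl) ?_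
      intro Y _ _ T n X R ρ hirr hG1 hnt
      have : Nontrivial (ι → F) := by
        obtain ⟨g, v, hv⟩ := hnt
        exact nontrivial_of_ne _ _ hv
      exact small_D6 R hirr hG1 (by rwa [Module.finrank_fintype_fun_eq_card]) hnt
  obtain ⟨σ, θ, hθ⟩ := key
  obtain ⟨τ, rfl⟩ := ringEquiv_of_surj σ (identify_surj hC hθ)
  exact ⟨τ, θ, hθ⟩

end D

end Cfsg.Agent.H925.Nat
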