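import Cfsg.Agent.H925.NatTwo
import Cfsg.Agent.H905.MdH

/-!
# Natural modules (helper925)

* `natAt_of_dim` : `J = {o}ᶜ`, `V^U = ⟨c⟩`, `dim Le {o} ≤ 2` implies `NatAt`;
* **`nat_iso`** : `N` over `K` absolutely irreducible, natural at `o` with `X_o ≃ K`, `V` over `F` irreducible and natural
  at `o` : there are `σ : K → F` and an isomorphism `N^σ ≃ V`.
-/

set_option autoImplicit false
set_option linter.unusedSectionVars false

namespace Cfsg.Agent.H925.Nat

open CoxeterSystem Cfsg.Agent.ChevalleyStructure.CoxeterGeom Cfsg.Agent.Tits.Roots Cfsg.Agent.Tits.Core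
  Cfsg.Agent.Tits.Exchange Cfsg.Agent.Nodes.Reps Cfsg.Agent.Nodes.BNOf Cfsg.Agent.Nodes.StabComb
  Cfsg.Agent.Nodes.Bruhat Cfsg.Agent.Nodes.OppDec Cfsg.Agent.Nodes.RGDLib Cfsg.Agent.Omega.CR
  Cfsg.Agent.Omega.FOne.Lift.Sd Cfsg.Agent.H911 Cfsg.Agent.H905.Md

variable {I W Y : Type*} [Fintype I] [DecidableEq I] [Group W] [Group Y] {M : CoxeterMatrix I}
  {cs : CoxeterSystem M W} {A : I → I → ℤ} {h : IsCartan M A} {p : ℕ} {T : Subgroup Y} {n : I → Y}
  {X : (I → ℤ) → Subgroup Y}

section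

variable {k V : Type*} [Field k] [AddCommGroup V] [Module k V]
variable (R : RGD cs h p T n X) [Finite Y] [Finite W] [Fact p.Prime] [CharP k p]
  {ρ : Y →* Module.End k V} [FiniteDimensional k V] [Nontrivial V]
  (hirr : ∀ L : Submodule k V, Ivt ρ (GG cs h T X) L → L = ⊥ ∨ L = ⊤)
include R hirr

theorem natAt_of_dim {o : I} {c : V} (hc0 : c ≠ 0) (hD : D cs h X ρ = Submodule.span k {c})
    (hJ : ∀ i, i ∈ Jx cs h X ρ ↔ i ≠ o) (hL : Module.finrank k (Le cs h T X ρ {o}) ≤ 2) :
    NatAt T n X ρ o c := by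
  have hcD : c ∈ D cs h X ρ := by rw [hD]; exact Submodule.mem_span_singleton_self c
  have ind : ∀ a : k, ρ (n o) c ≠ a • c := by
    intro a ha
    have ho : o ∉ Jx cs h X ρ := fun h1 => (hJ o).1 h1 rfl
    apply ho
    intro x hx v hv
    rw [hD] at hv
    obtain ⟨r, rfl⟩ := Submodule.mem_span_singleton.1 hv
    have ha0 : a ≠ 0 := by
      rintro rfl
      apply hc0
      have h2 : c = ρ (n o)⁻¹ (ρ (n o) c) := (rho_inv_rho ρ _ _).symm
      rw [h2, ha, zero_smul, map_zero]
    have h1 : ρ (n o)⁻¹ c = a⁻¹ • c := inv_eig ρ ha0 ha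
    have e : x = n o * ((n o)⁻¹ * x * n o) * (n o)⁻¹ := by group
    rw [map_smul]
    congr 1
    rw [e, rho_mul, rho_mul, h1, map_smul, X_fix R ρ hcD o (conj_n_pos' R hx), map_smul, ha, smul_smul,
      inv_mul_cancel₀ ha0, one_smul]
  refine ⟨hc0, fun i x hx => X_fix R ρ hcD i hx, fun t ht => ?_, fun i hi x hx => (hJ i).2 hi x hx c hcD, ind, ?_⟩
  · have h1 := D_ivt R hirr t ht c hcD
    rw [hD] at h1
    obtain ⟨a, ha⟩ := Submodule.mem_span_singleton.1 h1
    exact ⟨a, ha.symm⟩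
  · intro x hx
    have hcL : c ∈ Le cs h T X ρ {o} := D_le_Le R {o} hcD
    have hc'L : ρ (n o) c ∈ Le cs h T X ρ {o} := Ivt_Le R {o} _ (n_mem_LJ R rfl) c hcL
    have hxL : ρ x (ρ (n o) c) ∈ Le cs h T X ρ {o} := Ivt_Le R {o} _ (X_le_LJ (sr_mem_Roots o) hx) _ hc'L
    -- `Le {o} = ⟨c, n_o c⟩`
    have hli : LinearIndependent k ![c, ρ (n o) c] := by
      rw [LinearIndependent.pair_iff]
      intro s t hst
      have ht : t = 0 := by
        by_contra ht
        apply ind (-(t⁻¹ * s))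
        have h1 : t • ρ (n o) c = -(s • c) := by rw [eq_neg_iff_add_eq_zero, add_comm]; exact hst
        rw [neg_smul, mul_smul, ← smul_neg, ← h1, smul_smul, inv_mul_cancel₀ ht, one_smul]
      refine ⟨?_, ht⟩
      rw [ht, zero_smul, add_zero] at hst
      exact (smul_eq_zero.1 hst).resolve_right hc0
    have hsp : Submodule.span k (Set.range ![c, ρ (n o) c]) = Le cs h T X ρ {o} := by
      apply Submodule.eq_of_le_of_finrank_le
      · rw [Submodule.span_le]
        rintro _ ⟨j, rfl⟩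
        fin_cases j
        · exact hcL
        · exact hc'L
      · rw [finrank_span_eq_card hli, Fintype.card_fin]
        exact hL
    rw [← hsp, Matrix.range_cons, Matrix.range_cons, Matrix.range_empty, Set.union_empty,
      Set.singleton_union, Submodule.mem_span_pair] at hxL
    obtain ⟨α, β, hαβ⟩ := hxL
    -- the eigenvalue is one
    have hpow : ∀ m : ℕ, ∃ γ : k, ρ (x ^ m) (ρ (n o) c) = γ • c + β ^ m • ρ (n o) c := by
      intro m
      induction m with
      | zero => exact ⟨0, by rw [pow_zero, pow_zero, map_one, Module.End.one_apply, zero_smul, one_smul, zero_add]⟩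
      | succ m ih =>
        obtain ⟨γ, hγ⟩ := ih
        refine ⟨γ + β ^ m * α, ?_⟩
        rw [pow_succ', rho_mul, hγ, map_add, map_smul, map_smul, X_fix R ρ hcD o hx, ← hαβ, smul_add, smul_smul,
          smul_smul, add_smul, pow_succ, ← add_assoc]
    obtain ⟨m, hm⟩ := (IsPGroup.iff_orderOf.1 (R.pgrp o)) ⟨x, hx⟩
    have hxm : x ^ p ^ m = 1 := by
      have h1 := pow_orderOf_eq_one (⟨x, hx⟩ : X (sr o))
      rw [hm] at h1
      exact congrArg Subtype.val h1
    obtain ⟨γ, hγ⟩ := hpow (p ^ m)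
    rw [hxm, map_one, Module.End.one_apply] at hγ
    have hβ : β ^ p ^ m = 1 := by
      by_contra hne
      apply ind ((1 - β ^ p ^ m)⁻¹ * γ)
      have h1 : (1 - β ^ p ^ m) • ρ (n o) c = γ • c := by
        rw [sub_smul, one_smul, sub_eq_iff_eq_add]
        exact hγ
      rw [mul_smul, ← h1, smul_smul, inv_mul_cancel₀ (sub_ne_zero.2 (Ne.symm hne)), one_smul]
    have : ExpChar k p := ExpChar.prime Fact.out
    have hβ1 : β = 1 := by
      have h1 := (ExpChar.pow_prime_pow_mul_eq_one_iff p m 1 β).1 (by rw [mul_one]; exact hβ)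
      rwa [pow_one] at h1
    exact ⟨α, by rw [← hαβ, hβ1, one_smul, add_comm]⟩

/-- `Zi` holds at the nodes `i ≠ o` -/
theorem zi_ne {o : I} {c : V} (H : NatAt T n X ρ o c) (hD : D cs h X ρ = Submodule.span k {c}) {i : I}
    (hi : i ≠ o) : Zi cs h n X ρ i := by
  classical
  intro v hv
  have hiJ : i ∈ Jx cs h X ρ := by
    intro x hx w hw
    rw [hD] at hw
    obtain ⟨a, rfl⟩ := Submodule.mem_span_singleton.1 hw
    rw [map_smul, H.neg i hi x hx]
  have h1 := n_D R hirr hiJ hv
  letI := Fintype.ofFinite (X (sr i))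
  rw [Ti_apply, sg_def]
  have h2 : ∀ x : X (sr i), ρ (x : Y) (ρ (n i) v) = ρ (n i) v := fun x => X_fix R ρ h1 i x.2
  rw [Finset.sum_congr rfl fun x _ => h2 x, Finset.sum_const, Finset.card_univ, ← Nat.card_eq_fintype_card,
    ← Nat.cast_smul_eq_nsmul k]
  have h3 : p ∣ Nat.card (X (sr i)) := by
    rcases (R.pgrp i).card_eq_or_dvd with h4 | h4
    · exact absurd (Subgroup.card_eq_one.1 h4) (X_ne_bot R (isRoot_sr cs h i))
    · exact h4
  rw [(CharP.cast_eq_zero_iff k p _).2 h3, zero_smul]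

omit hirr [FiniteDimensional k V] [Nontrivial V] in
/-- `Zi` at the node `o` -/
theorem zi_o {o : I} {c : V} (H : NatAt T n X ρ o c) (hD : D cs h X ρ = Submodule.span k {c})
    [Fintype (X (sr o))] {f : X (sr o) → k} (hf : ∀ x : X (sr o), ρ (x : Y) (ρ (n o) c) = ρ (n o) c + f x • c) :
    Zi cs h n X ρ o ↔ ∑ x, f x = 0 := by
  have h3 : p ∣ Nat.card (X (sr o)) := by
    rcases (R.pgrp o).card_eq_or_dvd with h4 | h4
    · exact absurd (Subgroup.card_eq_one.1 h4) (X_ne_bot R (isRoot_sr cs h o))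
    · exact h4
  have h5 : Ti n X ρ o c = (∑ x, f x) • c := by
    rw [Ti_apply, sg_def, Finset.sum_congr rfl fun x _ => hf x, Finset.sum_add_distrib, Finset.sum_const,
      Finset.card_univ, ← Nat.card_eq_fintype_card, ← Nat.cast_smul_eq_nsmul k,
      (CharP.cast_eq_zero_iff k p _).2 h3, zero_smul, zero_add, Finset.sum_smul]
  constructor
  · intro h6
    have h7 := h6 c (by
      change c ∈ D cs h X ρ
      rw [hD]; exact Submodule.mem_span_singleton_self c)
    rw [h5] at h7
    exact (smul_eq_zero.1 h7).resolve_right H.c0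
  · intro h6 v hv
    change v ∈ D cs h X ρ at hv
    rw [hD] at hv
    obtain ⟨a, rfl⟩ := Submodule.mem_span_singleton.1 hv
    rw [map_smul, h5, h6, zero_smul, smul_zero]

end

/-! ### twisting by a homomorphism of fields -/

section tw

variable {K k : Type*} [Field K] [Field k] {ν : Type*} [Fintype ν] [DecidableEq ν]

/-- the twist -/
def twr (σ : K →+* k) (φ : Y →* Matrix ν ν K) : Y →* Matrix ν ν k := (σ.mapMatrix (m := ν)).toMonoidHom.comp φ

theorem twr_apply (σ : K →+* k) (φ : Y →* Matrix ν ν K) (g : Y) : twr σ φ g = (φ g).map σ := rfl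

/-- the semilinear map -/
def svr (σ : K →+* k) (v : ν → K) : ν → k := fun i => σ (v i)

omit [Fintype ν] [DecidableEq ν] in
theorem svr_add (σ : K →+* k) (v w : ν → K) : svr σ (v + w) = svr σ v + svr σ w := funext fun _ => map_add σ _ _

omit [Fintype ν] [DecidableEq ν] in
theorem svr_smul (σ : K →+* k) (a : K) (v : ν → K) : svr σ (a • v) = σ a • svr σ v := funext fun _ => map_mul σ _ _

omit [Fintype ν] [DecidableEq ν] in
theorem svr_inj (σ : K →+* k) {v w : ν → K} (h : svr σ v = svr σ w) : v = w :=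
  funext fun i => σ.injective (congrFun h i)

omit [Fintype ν] [DecidableEq ν] in
theorem svr_zero (σ : K →+* k) : svr σ (0 : ν → K) = 0 := funext fun _ => map_zero σ

theorem lin_twr (σ : K →+* k) (φ : Y →* Matrix ν ν K) (g : Y) (v : ν → K) :
    lin (twr σ φ) g (svr σ v) = svr σ (lin φ g v) := by
  rw [lin_apply, lin_apply, twr_apply]
  funext i
  simp only [Matrix.mulVec, dotProduct, Matrix.map_apply, svr, map_sum, map_mul]

theorem irr_of_span {φ : Y →* Matrix ν ν K} (hs : Submodule.span K (Set.range φ) = ⊤) (σ : K →+* k)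
    (L : Submodule k (ν → k)) (hL : ∀ g, ∀ v ∈ L, lin (twr σ φ) g v ∈ L) : L = ⊥ ∨ L = ⊤ := by
  have key : ∀ M : Matrix ν ν K, ∀ v ∈ L, (M.map σ).mulVec v ∈ L := by
    intro M
    have hM : M ∈ Submodule.span K (Set.range φ) := by rw [hs]; trivial
    induction hM using Submodule.span_induction with
    | mem x hx =>
      obtain ⟨g, rfl⟩ := hx
      intro v hv
      have := hL g v hv
      rwa [lin_apply] at this
    | zero =>
      intro v _
      have h1 : (0 : Matrix ν ν K).map σ = 0 := by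
        ext i j
        simp
      rw [h1, Matrix.zero_mulVec]
      exact L.zero_mem
    | add x y _ _ hx hy =>
      intro v hv
      rw [Matrix.map_add _ (map_add _), Matrix.add_mulVec]
      exact L.add_mem (hx v hv) (hy v hv)
    | smul a x _ hx =>
      intro v hv
      have h1 : (a • x).map σ = σ a • x.map σ := by
        ext i j
        simp
      rw [h1, Matrix.smul_mulVec]
      exact L.smul_mem _ (hx v hv)
  rcases eq_or_ne L ⊥ with h0 | h0
  · exact Or.inl h0
  · right
    obtain ⟨v, hv, hv0⟩ := (Submodule.ne_bot_iff _).1 h0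
    obtain ⟨i, hi⟩ : ∃ i, v i ≠ 0 := by
      by_contra hcon
      push Not at hcon
      exact hv0 (funext hcon)
    have hsingle : ∀ j, (Pi.single j 1 : ν → k) ∈ L := by
      intro j
      have h1 := L.smul_mem (v i)⁻¹ (key (Matrix.single j i 1) v hv)
      convert h1 using 1
      funext l
      have h2 : (Matrix.single j i (1 : K)).map σ = Matrix.single j i (1 : k) := by
        ext a b
        simp [Matrix.single, Matrix.map_apply, apply_ite σ]
      rw [h2, Matrix.single_mulVec]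
      by_cases hl : l = j
      · subst hl
        simp [hi]
      · simp [hl]
    rw [eq_top_iff]
    intro w _
    rw [← Finset.univ_sum_single w]
    refine L.sum_mem fun j _ => ?_
    have h1 := L.smul_mem (w j) (hsingle j)
    rwa [← Pi.single_smul, smul_eq_mul, mul_one] at h1

theorem NatAt.twist {φ : Y →* Matrix ν ν K} {o : I} {b : ν → K} (H : NatAt T n X (lin φ) o b) (σ : K →+* k) :
    NatAt T n X (lin (twr σ φ)) o (svr σ b) where
  c0 h0 := H.c0 (svr_inj σ (h0.trans (svr_zero σ).symm))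
  fix i x hx := by rw [lin_twr, H.fix i x hx]
  tor t ht := by
    obtain ⟨a, ha⟩ := H.tor t ht
    exact ⟨σ a, by rw [lin_twr, ha, svr_smul]⟩
  neg i hi x hx := by rw [lin_twr, H.neg i hi x hx]
  ind a ha := by
    rw [lin_twr] at ha
    obtain ⟨j, hj⟩ : ∃ j, b j ≠ 0 := by
      by_contra hcon
      push Not at hcon
      exact H.c0 (funext hcon)
    have h1 : σ (lin φ (n o) b j) = a * σ (b j) := congrFun ha j
    apply H.ind (lin φ (n o) b j / b j)
    apply svr_inj σ
    rw [ha, svr_smul]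
    congr 1
    rw [map_div₀, h1, mul_div_assoc, div_self ((map_ne_zero σ).2 hj), mul_one]
  up x hx := by
    obtain ⟨a, ha⟩ := H.up x hx
    exact ⟨σ a, by rw [lin_twr, lin_twr, ha, svr_add, svr_smul]⟩

end tw

/-! ### the isomorphism -/

section iso

variable {K F : Type*} [Field K] [Field F] {ν ι : Type*} [Fintype ν] [DecidableEq ν] [Fintype ι] [DecidableEq ι]

/-- **Two modules natural at the node `o` are isomorphic up to a homomorphism of the fields.** -/
theorem nat_iso (R : RGD cs h p T n X) [Finite Y] [Finite W] [Fact p.Prime] [CharP F p] (hG : G1 cs h X = ⊤)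
    {φN : Y →* Matrix ν ν K} {φV : Y →* Matrix ι ι F} (hsN : Submodule.span K (Set.range φN) = ⊤)
    (hirr : ∀ L : Submodule F (ι → F), Ivt (lin φV) (GG cs h T X) L → L = ⊥ ∨ L = ⊤)
    {o : I} {b : ν → K} {c : ι → F} (HN : NatAt T n X (lin φN) o b) (HV : NatAt T n X (lin φV) o c)
    (hbU : b ∈ fx (lin φN) (RGD.Sup X (RGD.Pos cs h))) (hcU : c ∈ fx (lin φV) (RGD.Sup X (RGD.Pos cs h)))
    (hsurj : ∀ a : K, ∃ x ∈ X (sr o), lin φN x (lin φN (n o) b) = lin φN (n o) b + a • b)
    (hp : (2 : F) ≠ 0 ∨ ∀ a : K, ∃ c, c * c = a) :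
    ∃ (σ : K →+* F) (θ : (ν → F) ≃ₗ[F] (ι → F)), ∀ g v, θ (((φN g).map σ).mulVec v) = (φV g).mulVec (θ v) := by
  classical
  obtain ⟨σ, μ, hμ, hup, hdn⟩ := exists_sigma R HN HV hsurj hp
  have hGG : GG cs h T X = ⊤ := by
    rw [eq_top_iff, ← hG]
    exact le_sup_right
  have Hσ := HN.twist σ
  have hirrN : ∀ L : Submodule F (ν → F), Ivt (lin (twr σ φN)) (GG cs h T X) L → L = ⊥ ∨ L = ⊤ := fun L hL =>
    irr_of_span hsN σ L fun g v hv => hL g (by rw [hGG]; trivial) v hv
  have hbσ : svr σ b ∈ fx (lin (twr σ φN)) (RGD.Sup X (RGD.Pos cs h)) := fun g hg => by rw [lin_twr, hbU g hg]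
  have : Nontrivial (ν → F) := nontrivial_of_ne _ _ Hσ.c0
  have : Nontrivial (ι → F) := nontrivial_of_ne _ _ HV.c0
  have hchi : ∀ t : Y, ∃ a : K, t ∈ T → lin φN t b = a • b := by
    intro t
    by_cases ht : t ∈ T
    · obtain ⟨a, ha⟩ := HN.tor t ht
      exact ⟨a, fun _ => ha⟩
    · exact ⟨0, fun h => absurd h ht⟩
  choose χ hχ using hchi
  have hχN : ∀ t ∈ T, lin (twr σ φN) t (svr σ b) = σ (χ t) • svr σ b := fun t ht => by
    rw [lin_twr, hχ t ht, svr_smul]
  have hχV : ∀ t ∈ T, lin φV t c = σ (χ t) • c := fun t ht => chi_all R hG HN HV hup hμ hdn ht (hχ t ht)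
  have hDN := fx_eq_span R (lin (twr σ φN)) hirrN hbσ Hσ.c0 (χ := fun t => σ (χ t)) hχN
  have hDV := fx_eq_span R (lin φV) hirr hcU HV.c0 (χ := fun t => σ (χ t)) hχV
  letI := Fintype.ofFinite (X (sr o))
  choose f hf using fun x : X (sr o) => HN.up x x.2
  have hz : ∀ i, Zi cs h n X (lin (twr σ φN)) i ↔ Zi cs h n X (lin φV) i := by
    intro i
    by_cases hi : i = o
    · subst hi
      rw [zi_o R Hσ hDN (f := fun x => σ (f x)) (fun x => by rw [lin_twr, lin_twr, hf, svr_add, svr_smul]),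
        zi_o R HV hDV (f := fun x => μ * σ (f x)) (fun x => hup x x.2 _ (hf x)), ← Finset.mul_sum]
      exact ⟨fun h1 => by rw [h1, mul_zero], fun h1 => (mul_eq_zero.1 h1).resolve_left hμ⟩
    · exact iff_of_true (zi_ne R hirrN Hσ hDN hi) (zi_ne R hirr HV hDV hi)
  obtain ⟨θ, hθ⟩ := iso_of_char R (lin (twr σ φN)) (lin φV) hirrN hirr hbσ Hσ.c0 hcU HV.c0
    (χ := fun t => σ (χ t)) hχN hχV hz
  refine ⟨σ, θ, fun g v => ?_⟩
  have := hθ g (by rw [hGG]; trivial) v
  rw [lin_apply, lin_apply, twr_apply] at this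
  exact this

end iso

end Cfsg.Agent.H925.Nat
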