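import Cfsg.Agent.H925.NatFam
import Cfsg.Agent.H905.MdG

/-!
# `dim V^U = 1` for modules with `J = {o}ᶜ` (helper925)

* `char_D` : if `J = {o}ᶜ` then every element of `T` acts on `V^U` as an element of `T_o = ⟨X_o, X_{-o}⟩ ∩ T`;
* **`finrank_D_one`** : if moreover `T_o` is commutative and the module is absolutely irreducible, `dim V^U = 1`;
* `comm_of_cyclic` : commutativity along a central extension of a cyclic group;
* **`cyclicC`** : the rank one torus at the first node of a Witt frame is cyclic.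
-/

set_option autoImplicit false
set_option linter.unusedSectionVars false

namespace Cfsg.Agent.H925.Nat

open CoxeterSystem Cfsg.Agent.ChevalleyStructure.CoxeterGeom Cfsg.Agent.Tits.Roots Cfsg.Agent.Tits.Core
  Cfsg.Agent.Tits.Exchange Cfsg.Agent.Nodes.Reps Cfsg.Agent.Nodes.BNOf Cfsg.Agent.Nodes.StabComb
  Cfsg.Agent.Nodes.Bruhat Cfsg.Agent.Nodes.OppDec Cfsg.Agent.Nodes.RGDLib Cfsg.Agent.Omega.CR
  Cfsg.Agent.Omega.FOne.Lift.Sd Cfsg.Agent.H911 Cfsg.Agent.H905.Md Cfsg.Agent.Nodes.RGDLift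
open Cfsg Cfsg.Geo
open scoped MatrixGroups Matrix

/-! ### central extensions of cyclic groups -/

section cyc

variable {Y Y' : Type*} [Group Y] [Group Y'] {f : Y →* Y'}

theorem comm_of_cyclic (hf : Function.Surjective f) (hk : f.ker ≤ Subgroup.center Y) {C : Subgroup Y'} (hC : IsCyclic C)
    {s t : Y} (hs : f s ∈ C) (ht : f t ∈ C) : s * t = t * s := by
  obtain ⟨⟨c, hc⟩, hgen⟩ := hC
  obtain ⟨d, rfl⟩ := hf c
  have key : ∀ x : Y, f x ∈ C → ∃ (m : ℤ) (z : Y), z ∈ Subgroup.center Y ∧ x = d ^ m * z := by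
    intro x hx
    obtain ⟨m, hm⟩ := Subgroup.mem_zpowers_iff.1 (hgen ⟨f x, hx⟩)
    have hm' : f d ^ m = f x := congrArg Subtype.val hm
    refine ⟨m, (d ^ m)⁻¹ * x, hk ?_, by group⟩
    rw [MonoidHom.mem_ker, map_mul, map_inv, map_zpow, hm', inv_mul_cancel]
  obtain ⟨a, z, hz, rfl⟩ := key s hs
  obtain ⟨b, w, hw, rfl⟩ := key t ht
  have hz' := Subgroup.mem_center_iff.1 hz
  have hw' := Subgroup.mem_center_iff.1 hw
  calc d ^ a * z * (d ^ b * w) = d ^ a * (z * d ^ b) * w := by group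
    _ = d ^ a * (d ^ b * z) * w := by rw [hz']
    _ = d ^ b * (d ^ a * z) * w := by group
    _ = d ^ b * (w * (d ^ a * z)) := by rw [← hw', mul_assoc]
    _ = d ^ b * w * (d ^ a * z) := by group

end cyc

/-! ### the action of the torus on `V^U` -/

section one

variable {I W Y : Type*} [Fintype I] [DecidableEq I] [Group W] [Group Y] {M : CoxeterMatrix I}
  {cs : CoxeterSystem M W} {A : I → I → ℤ} {h : IsCartan M A} {p : ℕ} {T : Subgroup Y} {n : I → Y}
  {X : (I → ℤ) → Subgroup Y}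

/-- the rank one torus -/
def T1 (T : Subgroup Y) (X : (I → ℤ) → Subgroup Y) (i : I) : Subgroup Y := (X (sr i) ⊔ X (-sr i)) ⊓ T

section

variable {k V : Type*} [Field k] [AddCommGroup V] [Module k V] (R : RGD cs h p T n X) [Finite Y] [Finite W]
  [Fact p.Prime] [CharP k p] {ρ : Y →* Module.End k V} [FiniteDimensional k V] [Nontrivial V]
  (hirr : ∀ L : Submodule k V, Ivt ρ (GG cs h T X) L → L = ⊥ ∨ L = ⊤)
include R hirr

/-- the action of `T` on `V^U` is that of `T_o` -/
theorem char_D (hG : G1 cs h X = ⊤) {o : I} (hJ : ∀ i, i ≠ o → ∀ x ∈ X (-sr i), ∀ v ∈ D cs h X ρ, ρ x v = v) {t : Y}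
    (ht : t ∈ T) : ∃ s ∈ T1 T X o, ∀ v ∈ D cs h X ρ, ρ t v = ρ s v := by
  have hDT : ∀ s ∈ T, ∀ v ∈ D cs h X ρ, ρ s v ∈ D cs h X ρ := fun s hs v hv => D_ivt R hirr s hs v hv
  let S : Subgroup Y :=
    { carrier := {t | t ∈ T ∧ ∃ s ∈ T1 T X o, ∀ v ∈ D cs h X ρ, ρ t v = ρ s v}
      one_mem' := ⟨one_mem _, 1, one_mem _, fun _ _ => rfl⟩
      mul_mem' := by
        rintro a b ⟨haT, s, hs, ha⟩ ⟨hbT, u, hu, hb⟩
        refine ⟨mul_mem haT hbT, s * u, mul_mem hs hu, fun v hv => ?_⟩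
        rw [rho_mul, rho_mul, hb v hv, ha _ (hDT u hu.2 v hv)]
      inv_mem' := by
        rintro a ⟨haT, s, hs, ha⟩
        refine ⟨inv_mem haT, s⁻¹, inv_mem hs, fun v hv => ?_⟩
        have h1 := ha _ (hDT s⁻¹ (inv_mem hs.2) v hv)
        have h2 : ρ s (ρ s⁻¹ v) = v := by rw [← rho_mul, mul_inv_cancel, rho_one]
        rw [h2] at h1
        conv_lhs => rw [← h1]
        exact rho_inv_rho ρ a _ }
  have hle : (⨆ i, (X (sr i) ⊔ X (-sr i)) ⊓ T) ≤ S := by
    refine iSup_le fun i => ?_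
    intro x hx
    by_cases hi : i = o
    · subst hi
      exact ⟨hx.2, x, hx, fun _ _ => rfl⟩
    · refine ⟨hx.2, 1, one_mem _, fun v hv => ?_⟩
      have h1 : X (sr i) ⊔ X (-sr i) ≤
          ({ carrier := {g | ρ g v = v}
             one_mem' := rho_one ρ _
             mul_mem' := by
               intro a b (ha : ρ a _ = _) (hb : ρ b _ = _)
               change ρ (a * b) _ = _
               rw [rho_mul, hb, ha]
             inv_mem' := by
               intro a (ha : ρ a _ = _)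
               change ρ a⁻¹ _ = _
               conv_lhs => rw [← ha]
               exact rho_inv_rho ρ a _ } : Subgroup Y) := by
        refine sup_le ?_ ?_
        · intro g hg
          exact hv g (RGD.le_Sup (S := RGD.Pos cs h) ⟨isRoot_sr cs h i, sr_nonneg i⟩ hg)
        · intro g hg
          exact hJ i hi g hg v hv
      have h2 : ρ x v = v := h1 hx.1
      rw [h2, rho_one]
  exact (hle (T_le_iSup R hG ht)).2

theorem comm_D (hG : G1 cs h X = ⊤) {o : I} (hJ : ∀ i, i ≠ o → ∀ x ∈ X (-sr i), ∀ v ∈ D cs h X ρ, ρ x v = v)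
    (ho : ∀ s ∈ T1 T X o, ∀ t ∈ T1 T X o, s * t = t * s) {s t : Y} (hs : s ∈ T) (ht : t ∈ T) {v : V}
    (hv : v ∈ D cs h X ρ) : ρ s (ρ t v) = ρ t (ρ s v) := by
  obtain ⟨s', hs', es⟩ := char_D R hirr hG hJ hs
  obtain ⟨t', ht', et⟩ := char_D R hirr hG hJ ht
  have hDT : ∀ s ∈ T, ∀ v ∈ D cs h X ρ, ρ s v ∈ D cs h X ρ := fun s hs v hv => D_ivt R hirr s hs v hv
  rw [et v hv, es v hv, es _ (hDT t' ht'.2 v hv), et _ (hDT s' hs'.2 v hv), ← rho_mul, ← rho_mul, ho s' hs' t' ht']

/-- over an algebraically closed field -/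
theorem exists_chi_D [IsAlgClosed k]
    (hT : ∀ s ∈ T, ∀ t ∈ T, ∀ v ∈ fx ρ (RGD.Sup X (RGD.Pos cs h)), ρ s (ρ t v) = ρ t (ρ s v)) :
    ∃ c ∈ fx ρ (RGD.Sup X (RGD.Pos cs h)), c ≠ 0 ∧ ∃ χ : Y → k, ∀ t ∈ T, ρ t c = χ t • c := by
  have h1 := simp_fx R ρ hirr
  set S := fx ρ (RGD.Sup X (RGD.Pos cs h)) with hS
  obtain ⟨c, hc, hc0⟩ := (Submodule.ne_bot_iff _).1 h1.ne
  refine ⟨c, hc, hc0, ?_⟩
  have hsc : ∀ t ∈ T, ∃ a : k, ∀ v ∈ S, ρ t v = a • v := by
    intro t ht
    have hne : Nontrivial S := ⟨⟨⟨c, hc⟩, 0, fun e => hc0 (congrArg Subtype.val e)⟩⟩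
    obtain ⟨a, ha⟩ := Module.End.exists_eigenvalue ((ρ t).restrict (fun v hv => h1.inv t ht v hv) : Module.End k S)
    obtain ⟨w, hw⟩ := ha.exists_hasEigenvector
    refine ⟨a, ?_⟩
    have h2 : LinearMap.ker (ρ t - a • LinearMap.id) ⊓ S = S := by
      refine (h1.simple _ inf_le_right ?_).resolve_left ?_
      · intro s hs v hv
        refine ⟨?_, h1.inv s hs v hv.2⟩
        have h3 : ρ t v - a • v = 0 := hv.1
        change ρ t (ρ s v) - a • ρ s v = 0
        rw [hT t ht s hs v hv.2, sub_eq_zero.1 h3, map_smul, sub_self]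
      · intro e
        have h3 : (w : V) ∈ LinearMap.ker (ρ t - a • LinearMap.id) ⊓ S := by
          refine ⟨?_, w.2⟩
          change ρ t (w : V) - a • (w : V) = 0
          have h4 := congrArg Subtype.val (Module.End.mem_eigenspace_iff.1 hw.1)
          rw [sub_eq_zero]
          exact h4
        rw [e, Submodule.mem_bot] at h3
        exact hw.2 (Subtype.ext h3)
    intro v hv
    rw [← h2] at hv
    exact sub_eq_zero.1 hv.1
  choose! χ hχ using hsc
  exact ⟨χ, fun t ht => hχ t ht c hc⟩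

end

/-! ### descent to the ground field -/

variable {F : Type*} [Field F] {ι : Type} [Fintype ι] [DecidableEq ι] {P : Subgroup (GL ι F)}

/-- **`dim V^U = 1`.** -/
theorem finrank_D_one (R : RGD cs h p T n X) [Finite Y] [Finite W] [Fact p.Prime] [CharP F p] [Nonempty ι]
    (hG : G1 cs h X = ⊤) {φ : Y →* GL ι F} (hφ : φ.range = P) (hP : ActsAbsolutelyIrreducibly (matrixSet P))
    {o : I} (hJ : ∀ i, i ≠ o → i ∈ Jx cs h X (lin ((Units.coeHom (Matrix ι ι F)).comp φ)))
    (ho : ∀ s ∈ T1 T X o, ∀ t ∈ T1 T X o, s * t = t * s) :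
    Module.finrank F (D cs h X (lin ((Units.coeHom (Matrix ι ι F)).comp φ))) = 1 := by
  classical
  have hGG : GG cs h T X = ⊤ := by
    rw [eq_top_iff, ← hG]
    exact le_sup_right
  have hchar : CharP (AlgebraicClosure F) p := charP_of_injective_algebraMap (algebraMap F _).injective p
  set ρ₀ := lin ((Units.coeHom (Matrix ι ι F)).comp φ) with hρ₀
  have hirr₀ : ∀ L : Submodule F (ι → F), Ivt ρ₀ (GG cs h T X) L → L = ⊥ ∨ L = ⊤ := by
    intro L hL
    refine hP.1 L ?_
    rintro _ ⟨a, ha, rfl⟩ _ ⟨v, hv, rfl⟩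
    rw [SetLike.mem_coe, ← hφ] at ha
    obtain ⟨y, rfl⟩ := ha
    rw [Matrix.toLin'_apply]
    exact hL y (by rw [hGG]; trivial) v hv
  have hirr : ∀ L : Submodule (AlgebraicClosure F) (ι → AlgebraicClosure F), Ivt (lin (acRep φ)) (GG cs h T X) L →
      L = ⊥ ∨ L = ⊤ := fun L hL => acRep_irr hφ (H920.span_eq_top hP) hGG L hL
  -- the embedding
  let em : (ι → F) → (ι → AlgebraicClosure F) := fun v i => algebraMap F (AlgebraicClosure F) (v i)
  have hem : ∀ (y : Y) (v : ι → F), lin (acRep φ) y (em v) = em (ρ₀ y v) := by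
    intro y v
    rw [lin_apply, acRep_apply, hρ₀, lin_apply]
    funext i
    change (((φ y : Matrix ι ι F).map (algebraMap F (AlgebraicClosure F))) *ᵥ
      ((algebraMap F (AlgebraicClosure F)) ∘ v)) i = algebraMap F (AlgebraicClosure F) (((φ y : Matrix ι ι F) *ᵥ v) i)
    rw [RingHom.map_mulVec]
  have hem0 : ∀ v, em v = 0 → v = 0 := by
    intro v hv
    funext i
    have := congrFun hv i
    change algebraMap F (AlgebraicClosure F) (v i) = 0 at this
    rw [map_eq_zero] at this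
    exact this
  have hemD : ∀ v ∈ D cs h X ρ₀, em v ∈ D cs h X (lin (acRep φ)) := by
    intro v hv g hg
    rw [hem, hv g hg]
  have hnt : Nontrivial (ι → F) := inferInstance
  obtain ⟨v₀, hv₀, hv₀0⟩ := (Submodule.ne_bot_iff _).1 (simp_fx R ρ₀ hirr₀).ne
  -- the negative simple root groups fix `V^U` over the closure
  have hJk : ∀ i, i ≠ o → ∀ x ∈ X (-sr i), ∀ v ∈ D cs h X (lin (acRep φ)), lin (acRep φ) x v = v := by
    intro i hi
    have h1 : D cs h X (lin (acRep φ)) ⊓ fx (lin (acRep φ)) (X (-sr i)) = D cs h X (lin (acRep φ)) := by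
      refine ((simp_fx R (lin (acRep φ)) hirr).simple _ inf_le_left ?_).resolve_left ?_
      · refine Ivt.inf (D_ivt R hirr) (fx_Ivt ?_)
        intro t ht
        rw [mem_normalizer_iff_cj]
        exact R.tor _ (isRoot_sr cs h i).neg t ht
      · intro hbot
        have h2 : em v₀ ∈ D cs h X (lin (acRep φ)) ⊓ fx (lin (acRep φ)) (X (-sr i)) :=
          ⟨hemD v₀ hv₀, fun x hx => by rw [hem, hJ i hi x hx v₀ hv₀]⟩
        have h3 : em v₀ ∈ (⊥ : Submodule (AlgebraicClosure F) (ι → AlgebraicClosure F)) := hbot ▸ h2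
        exact hv₀0 (hem0 _ ((Submodule.mem_bot _).1 h3))
    intro x hx v hv
    rw [← h1] at hv
    exact hv.2 x hx
  obtain ⟨c, hc, hc0, χ, hχ⟩ := exists_chi_D R hirr fun s hs t ht v hv => comm_D R hirr hG hJk ho hs ht hv
  have hsp := fx_eq_span R (lin (acRep φ)) hirr hc hc0 hχ
  rw [finrank_eq_one_iff']
  refine ⟨⟨v₀, hv₀⟩, fun h0 => hv₀0 (congrArg Subtype.val h0), ?_⟩
  rintro ⟨w, hw⟩
  have e0 : em v₀ ∈ Submodule.span (AlgebraicClosure F) {c} := hsp ▸ hemD v₀ hv₀
  have e1 : em w ∈ Submodule.span (AlgebraicClosure F) {c} := hsp ▸ hemD w hw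
  obtain ⟨a, ha⟩ := Submodule.mem_span_singleton.1 e0
  obtain ⟨b, hb⟩ := Submodule.mem_span_singleton.1 e1
  have ha0 : a ≠ 0 := by
    rintro rfl
    rw [zero_smul] at ha
    exact hv₀0 (hem0 _ ha.symm)
  obtain ⟨i, hi⟩ : ∃ i, v₀ i ≠ 0 := by
    by_contra hcon
    push Not at hcon
    exact hv₀0 (funext hcon)
  refine ⟨w i / v₀ i, ?_⟩
  apply Subtype.ext
  funext j
  change w i / v₀ i * v₀ j = w j
  apply (algebraMap F (AlgebraicClosure F)).injective
  have f1 : ∀ l, algebraMap F (AlgebraicClosure F) (v₀ l) = a * c l := fun l => (congrFun ha l).symm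
  have f2 : ∀ l, algebraMap F (AlgebraicClosure F) (w l) = b * c l := fun l => (congrFun hb l).symm
  have hci : c i ≠ 0 := by
    intro h0
    have := f1 i
    rw [h0, mul_zero, map_eq_zero] at this
    exact hi this
  rw [map_mul, map_div₀, f1, f1, f2, f2]
  field_simp

end one

/-! ### Witt frames -/

section frame

open Cfsg.Agent.Nodes Cfsg.Agent.Nodes.Comb Cfsg.Agent.Nodes.WittRoot Cfsg.Agent.Nodes.WittAll
open Cfsg.Agent.TitsThree Cfsg.Agent.TitsThree.Siegel Cfsg.Agent.TitsThree.WittFrame Cfsg.Agent.TitsThree.WittWeyl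
open Cfsg.Agent.Nodes.TypeC
open Cfsg.Agent.Nodes.WittRGD (Tor mem_Tor not_prop b_ne_zero rg_sr)

variable {F : Type*} [Field F] {V : Type*} [AddCommGroup V] [Module F V] {H : HForm F V} {n : ℕ}
  {Fr : Frame H (Fin n)}

theorem eq_one_of_fixV (hV0 : ∀ v, (∀ x, H.h v (Fr.b x) = 0) → v ∈ Fr.V0) {g : V ≃ₗ[F] V}
    (hb : ∀ x, g (Fr.b x) = Fr.b x) (h0 : ∀ w ∈ Fr.V0, g w = w) : g = 1 := by
  ext v
  set u : V := ∑ x, (H.h v (Fr.b (neg x)) * (Fr.η (neg x))⁻¹) • Fr.b x with hu
  have h1 : v - u ∈ Fr.V0 := by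
    apply hV0
    intro y
    rw [H.sub_left, sub_eq_zero]
    have h2 : H.h u (Fr.b y) = ∑ x, (H.h v (Fr.b (neg x)) * (Fr.η (neg x))⁻¹) * H.h (Fr.b x) (Fr.b y) := by
      rw [hu]
      have : ∀ (s : Finset (Fin n × Bool)) (f : Fin n × Bool → F), H.h (∑ x ∈ s, f x • Fr.b x) (Fr.b y) =
          ∑ x ∈ s, f x * H.h (Fr.b x) (Fr.b y) := by
        intro s f
        induction s using Finset.induction_on with
        | empty => simp [H.zero_left]
        | insert a s ha ih => rw [Finset.sum_insert ha, Finset.sum_insert ha, H.add_left, H.smul_left, ih]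
      exact this _ _
    rw [h2, Finset.sum_eq_single (neg y)]
    · rw [WittFrame.neg_neg, Fr.hb_neg_self]
      have := Fr.η_ne y
      field_simp
    · intro x _ hx
      rw [Fr.hb_ne, mul_zero]
      rintro rfl
      exact hx (WittFrame.neg_neg x).symm
    · intro h; exact absurd (Finset.mem_univ _) h
  have h2 : g u = u := by
    rw [hu, map_sum]
    exact Finset.sum_congr rfl fun x _ => by rw [map_smul, hb]
  have h3 : v = (v - u) + u := by abel
  change g v = v
  rw [h3, map_add, h0 _ h1, h2]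

/-- determinant one on `⟨b (i,true), b (j,true)⟩`, trivial on the complement -/
def SLf (Fr : Frame H (Fin n)) (i j : Fin n) : Subgroup (V ≃ₗ[F] V) where
  carrier := {g | (∃ a b c d : F, a * d - b * c = 1 ∧ g (Fr.b (i, true)) = a • Fr.b (i, true) + c • Fr.b (j, true) ∧
    g (Fr.b (j, true)) = b • Fr.b (i, true) + d • Fr.b (j, true)) ∧ (∀ z : Fin n × Bool, z.1 ≠ i → z.1 ≠ j →
      g (Fr.b z) = Fr.b z) ∧ ∀ w ∈ Fr.V0, g w = w}
  one_mem' := ⟨⟨1, 0, 0, 1, by ring, by simp, by simp⟩, fun _ _ _ => rfl, fun _ _ => rfl⟩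
  mul_mem' := by
    rintro g g' ⟨⟨a, b, c, d, h1, h2, h3⟩, h4, h5⟩ ⟨⟨a', b', c', d', h1', h2', h3'⟩, h4', h5'⟩
    refine ⟨⟨a * a' + b * c', a * b' + b * d', c * a' + d * c', c * b' + d * d', ?_, ?_, ?_⟩, ?_, ?_⟩
    · linear_combination (a' * d' - b' * c') * h1 + h1'
    · change g (g' _) = _
      rw [h2', map_add, map_smul, map_smul, h2, h3]
      module
    · change g (g' _) = _
      rw [h3', map_add, map_smul, map_smul, h2, h3]
      module
    · intro z hz hz'
      change g (g' _) = _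
      rw [h4' z hz hz', h4 z hz hz']
    · intro w hw
      change g (g' _) = _
      rw [h5' w hw, h5 w hw]
  inv_mem' := by
    rintro g ⟨⟨a, b, c, d, h1, h2, h3⟩, h4, h5⟩
    refine ⟨⟨d, -b, -c, a, by linear_combination h1, ?_, ?_⟩, ?_, ?_⟩
    · change g.symm _ = _
      rw [LinearEquiv.symm_apply_eq, map_add, map_smul, map_smul, h2, h3]
      have : (1 : F) • Fr.b (i, true) = (a * d - b * c) • Fr.b (i, true) := by rw [h1]
      rw [one_smul] at this
      conv_lhs => rw [this]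
      module
    · change g.symm _ = _
      rw [LinearEquiv.symm_apply_eq, map_add, map_smul, map_smul, h2, h3]
      have : (1 : F) • Fr.b (j, true) = (a * d - b * c) • Fr.b (j, true) := by rw [h1]
      rw [one_smul] at this
      conv_lhs => rw [this]
      module
    · intro z hz hz'
      change g.symm _ = _
      rw [LinearEquiv.symm_apply_eq, h4 z hz hz']
    · intro w hw
      change g.symm _ = _
      rw [LinearEquiv.symm_apply_eq, h5 w hw]

theorem X_mem_SLf {i j : Fin n} (hij : i ≠ j) (t : F) : Fr.X (i, true) (j, false) t ∈ SLf Fr i j := by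
  have hne : ((i, true) : Fin n × Bool).1 ≠ ((j, false) : Fin n × Bool).1 := hij
  refine ⟨⟨1, t, 0, 1, by ring, ?_, ?_⟩, ?_, ?_⟩
  · rw [X_apply_of_ne Fr hne, one_smul, zero_smul, add_zero]
    · intro h1
      have := congrArg Prod.snd h1
      simp [neg] at this
    · intro h1
      have : i = j := congrArg Prod.fst h1
      exact hij this
  · have := X_apply_neg Fr hne t
    rw [show neg ((j, false) : Fin n × Bool) = (j, true) from rfl] at this
    rw [this, one_smul, add_comm]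
  · intro z hz hz'
    exact X_apply_of_ne Fr hne (fun h1 => hz (congrArg Prod.fst h1)) (fun h1 => hz' (congrArg Prod.fst h1)) t
  · intro w hw
    exact X_apply_V0 Fr hne hw t

theorem X_mem_SLf' {i j : Fin n} (hij : i ≠ j) (t : F) : Fr.X (i, false) (j, true) t ∈ SLf Fr i j := by
  have hne : ((i, false) : Fin n × Bool).1 ≠ ((j, true) : Fin n × Bool).1 := hij
  refine ⟨⟨1, 0, -(H.ε⁻¹ * Fr.η (i, false) * Fr.η (j, true) * H.σ t), 1, by ring, ?_, ?_⟩, ?_, ?_⟩
  · have := X_apply_neg' Fr hne t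
    rw [show neg ((i, false) : Fin n × Bool) = (i, true) from rfl] at this
    rw [this, one_smul, neg_smul, sub_eq_add_neg]
  · rw [X_apply_of_ne Fr hne, one_smul, zero_smul, zero_add]
    · intro h1
      have : j = i := congrArg Prod.fst h1
      exact hij this.symm
    · intro h1
      have := congrArg Prod.snd h1
      simp [neg] at this
  · intro z hz hz'
    exact X_apply_of_ne Fr hne (fun h1 => hz (congrArg Prod.fst h1)) (fun h1 => hz' (congrArg Prod.fst h1)) t
  · intro w hw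
    exact X_apply_V0 Fr hne hw t

/-- **The torus of `SLf` is cyclic.** -/
theorem cyclic_SLf [Finite V] (hV0 : ∀ v, (∀ x, H.h v (Fr.b x) = 0) → v ∈ Fr.V0) {G0 : Subgroup (V ≃ₗ[F] V)}
    (hiso : ∀ g ∈ G0, H.IsIso g) {i j : Fin n} (hij : i ≠ j) {C : Subgroup (V ≃ₗ[F] V)} (hC : C ≤ SLf Fr i j ⊓ Tor Fr G0) :
    IsCyclic C := by
  have hfin : Finite (V ≃ₗ[F] V) := Finite.of_injective (fun g : V ≃ₗ[F] V => (g : V → V)) DFunLike.coe_injective
  have key : ∀ g : C, ∃ a : F, g.1 (Fr.b (i, true)) = a • Fr.b (i, true) := by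
    intro g
    obtain ⟨l, -, e⟩ := ((hC g.2).2).2 (i, true)
    exact ⟨l, e⟩
  choose χ hχ using key
  have hb := b_ne_zero (Fr := Fr) (i, true)
  have hinj : ∀ a a' : F, a • Fr.b (i, true) = a' • Fr.b (i, true) → a = a' := fun a a' h1 => smul_left_injective F hb h1
  let Ξ : C →* F :=
    { toFun := χ
      map_one' := hinj _ _ (by rw [← hχ 1, one_smul]; rfl)
      map_mul' := fun g g' => hinj _ _ (by
        rw [← hχ (g * g')]
        change g.1 (g'.1 _) = _
        rw [hχ g', map_smul, hχ g, smul_smul, mul_comm]) }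
  refine isCyclic_of_injective_ringHom Ξ ?_
  rw [injective_iff_map_eq_one]
  intro g hg
  have e0 : g.1 (Fr.b (i, true)) = Fr.b (i, true) := by
    have h1 := hχ g
    rw [show χ g = 1 from hg, one_smul] at h1
    exact h1
  obtain ⟨⟨⟨a, b, c, d, h1, h2, h3⟩, h4, h5⟩, hT⟩ := hC g.2
  -- the eigenvalue on `b (j, true)` is one
  have e1 : g.1 (Fr.b (j, true)) = Fr.b (j, true) := by
    obtain ⟨l, hl, e⟩ := hT.2 (j, true)
    have hc : ∀ α β : F, H.h (α • Fr.b (i, true) + β • Fr.b (j, true)) (Fr.b (neg (i, true))) =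
        α * Fr.η (neg (i, true)) := by
      intro α β
      rw [H.add_left, H.smul_left, H.smul_left, Fr.hb_self_neg, Fr.hb_ne, mul_zero, add_zero]
      intro h6
      exact hij (congrArg Prod.fst h6)
    have hd : ∀ α β : F, H.h (α • Fr.b (i, true) + β • Fr.b (j, true)) (Fr.b (neg (j, true))) =
        β * Fr.η (neg (j, true)) := by
      intro α β
      rw [H.add_left, H.smul_left, H.smul_left, Fr.hb_self_neg, Fr.hb_ne, mul_zero, zero_add]
      intro h6
      exact hij (congrArg Prod.fst h6).symm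
    have f1 := hc a c
    have f2 := hd a c
    rw [← h2, e0] at f1 f2
    have f3 := hc 1 0
    have f4 := hd 1 0
    rw [one_smul, zero_smul, add_zero] at f3 f4
    have ha : a = 1 := by
      have h6 : a * Fr.η (neg (i, true)) = 1 * Fr.η (neg (i, true)) := by rw [← f1, f3]
      exact mul_right_cancel₀ (Fr.η_ne _) h6
    have hc0 : c = 0 := by
      have h6 : c * Fr.η (neg (j, true)) = 0 * Fr.η (neg (j, true)) := by rw [← f2, f4]
      exact mul_right_cancel₀ (Fr.η_ne _) h6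
    have hd1 : d = 1 := by rw [ha, hc0] at h1; linear_combination h1
    have f5 := hc b d
    rw [← h3, e] at f5
    have f6 := hc 0 l
    rw [zero_smul, zero_add] at f6
    have hb0 : b = 0 := by
      have h6 : b * Fr.η (neg (i, true)) = 0 * Fr.η (neg (i, true)) := by rw [← f5]; exact f6
      exact mul_right_cancel₀ (Fr.η_ne _) h6
    rw [h3, hb0, hd1, zero_smul, one_smul, zero_add]
  -- and on the opposite vectors
  have e2 : ∀ x : Fin n × Bool, g.1 (Fr.b x) = Fr.b x → g.1 (Fr.b (neg x)) = Fr.b (neg x) := by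
    intro x hx
    obtain ⟨l, hl, e⟩ := hT.2 (neg x)
    have h6 := hiso _ hT.1 (Fr.b x) (Fr.b (neg x))
    rw [hx, e, H.smul_right, id, Fr.hb_self_neg] at h6
    have h7 : H.σ l * Fr.η (neg x) = 1 * Fr.η (neg x) := by rw [h6, one_mul]
    have h8 : H.σ l = H.σ 1 := by rw [mul_right_cancel₀ (Fr.η_ne _) h7, map_one]
    rw [e, H.σ.injective h8, one_smul]
    rfl
  apply Subtype.ext
  refine eq_one_of_fixV hV0 ?_ h5
  rintro ⟨z, s⟩
  by_cases hz : z = i
  · subst hz
    cases s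
    · exact e2 (z, true) e0
    · exact e0
  · by_cases hz' : z = j
    · subst hz'
      cases s
      · exact e2 (z, true) e1
      · exact e1
    · exact h4 _ hz hz'

/-- **The rank one torus at the first node of a cover is commutative.** -/
theorem T1_comm_C [Finite V] (hV0 : ∀ v, (∀ x, H.h v (Fr.b x) = 0) → v ∈ Fr.V0) {G0 : Subgroup (V ≃ₗ[F] V)}
    (hiso : ∀ g ∈ G0, H.IsIso g) (hn : 1 < n) {o : Fin n} (ho : (o : ℕ) = 0) {p : ℕ} {Y : Type*} [Group Y] {f : Y →* G0}
    (hf : Function.Surjective f) (hk : f.ker ≤ Subgroup.center Y) {s t : Y}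
    (hs : s ∈ T1 (((Tor Fr G0).subgroupOf G0).comap f) (fun x => lft p f ((WittRoot.rg Fr x).subgroupOf G0)) o)
    (ht : t ∈ T1 (((Tor Fr G0).subgroupOf G0).comap f) (fun x => lft p f ((WittRoot.rg Fr x).subgroupOf G0)) o) :
    s * t = t * s := by
  have h1 : (o : ℕ) + 1 < n := by omega
  set j : Fin n := ⟨(o : ℕ) + 1, h1⟩ with hj
  have hoj : o ≠ j := by
    intro h2
    have := congrArg Fin.val h2
    simp [hj] at this
  have hnx : nx o = (j, false) := by
    unfold nx
    simp [h1, hj]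
  have hcyc : IsCyclic ↥(SLf Fr o j ⊓ Tor Fr G0) := cyclic_SLf hV0 hiso hoj le_rfl
  have hcyc' : IsCyclic ↥((SLf Fr o j ⊓ Tor Fr G0).subgroupOf G0) := by
    refine isCyclic_of_injective ((G0.subtype.comp ((SLf Fr o j ⊓ Tor Fr G0).subgroupOf G0).subtype).codRestrict
      (SLf Fr o j ⊓ Tor Fr G0) (fun x => x.2)) ?_
    intro x y e
    have e1 := congrArg (fun z : ↥(SLf Fr o j ⊓ Tor Fr G0) => (z : V ≃ₗ[F] V)) e
    exact Subtype.ext (Subtype.ext e1)
  have hmem : ∀ x, x ∈ T1 (((Tor Fr G0).subgroupOf G0).comap f)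
      (fun x => lft p f ((WittRoot.rg Fr x).subgroupOf G0)) o → f x ∈ (SLf Fr o j ⊓ Tor Fr G0).subgroupOf G0 := by
    intro x hx
    refine ⟨?_, hx.2⟩
    have h2 : (lft p f ((WittRoot.rg Fr (sr o)).subgroupOf G0) ⊔ lft p f ((WittRoot.rg Fr (-sr o)).subgroupOf G0)) ≤
        ((SLf Fr o j).subgroupOf G0).comap f := by
      refine sup_le ?_ ?_
      · rw [← Subgroup.map_le_iff_le_comap]
        refine (map_lft_le p f _).trans ?_
        intro g hg
        rw [Subgroup.mem_subgroupOf, rg_sr, hnx, PG_ne Fr (show ((o, true) : Fin n × Bool).1 ≠ (j, false).1 from hoj)] at hg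
        obtain ⟨t, ht⟩ := hg
        rw [Subgroup.mem_subgroupOf, ht]
        exact X_mem_SLf hoj t
      · rw [← Subgroup.map_le_iff_le_comap]
        refine (map_lft_le p f _).trans ?_
        intro g hg
        rw [Subgroup.mem_subgroupOf, WittRGD.rg_neg_sr, hnx,
          show ng ((o, true) : Fin n × Bool) = (o, false) from rfl, show ng ((j, false) : Fin n × Bool) = (j, true) from rfl,
          PG_ne Fr (show ((o, false) : Fin n × Bool).1 ≠ (j, true).1 from hoj)] at hg
        obtain ⟨t, ht⟩ := hg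
        rw [Subgroup.mem_subgroupOf, ht]
        exact X_mem_SLf' hoj t
    exact h2 hx.1
  exact comm_of_cyclic hf hk hcyc' (hmem s hs) (hmem t ht)

end frame

end Cfsg.Agent.H925.Nat
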