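import Cfsg.Agent.H925.NatOne
import Cfsg.Agent.H925.NatMain

/-!
# Classical groups of rank three and `PΩ⁺_8` in the defining characteristic, the natural node (helper925)

`P ≤ GL(ι, F)` a core (`H915.LD.Core`), `char F = char K = p`, `|ι| ≤ 12`. For a perfect central cover `Y` of `P` and of
the group `G(K)`, with `J` the set of the nodes `i` with `X_{-i}` trivial on `V^U`:

* `dim_words'` : the lower bound with all edges;
* **`nat_C3`**, **`nat_D4`** : if `J = {0}ᶜ` then `P` is the natural group;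
* **`psp_three`**, **`po_odd_three`**, **`po_minus_three`**, **`po_plus_four`** : the cover together with
  "`J = {0}ᶜ` implies `CjOf _ P`".
-/

set_option autoImplicit false
set_option linter.unusedSectionVars false
set_option linter.style.longLine false

namespace Cfsg.Agent.H925.Nat

open CoxeterSystem Cfsg.Agent.ChevalleyStructure.CoxeterGeom Cfsg.Agent.Tits.Roots Cfsg.Agent.Tits.Core
  Cfsg.Agent.Tits.Exchange Cfsg.Agent.Nodes.Reps Cfsg.Agent.Nodes.BNOf Cfsg.Agent.Nodes.StabComb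
  Cfsg.Agent.Nodes.Bruhat Cfsg.Agent.Nodes.OppDec Cfsg.Agent.Nodes.RGDLib Cfsg.Agent.Omega.CR
  Cfsg.Agent.Omega.FOne.Lift.Sd Cfsg.Agent.H911 Cfsg.Agent.H905.Md Cfsg.Agent.H905.DC Cfsg.Agent.Nodes.RGDLift
open Cfsg Cfsg.Geo
open scoped MatrixGroups Matrix

universe u v

/-! ### dimensions -/

section dims

variable {I W Y : Type*} [Fintype I] [DecidableEq I] [Group W] [Group Y] {M : CoxeterMatrix I}
  {cs : CoxeterSystem M W} {A : I → I → ℤ} {h : IsCartan M A} {p : ℕ} {T : Subgroup Y} {n : I → Y}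
  {X : (I → ℤ) → Subgroup Y} {k V : Type*} [Field k] [AddCommGroup V] [Module k V]
variable (R : RGD cs h p T n X) [Finite Y] [Finite W] [Fact p.Prime] [CharP k p]
  {ρ : Y →* Module.End k V} [FiniteDimensional k V] [Nontrivial V]
  (hirr : ∀ L : Submodule k V, Ivt ρ (GG cs h T X) L → L = ⊥ ∨ L = ⊤)
include R hirr

theorem dim_words' {i : I} (hi : i ∉ Jx cs h X ρ) (L : List (List I)) (hL : (L.map (cf A i)).Nodup)
    (E : List (List I)) (hE : (E.map (fun ω => (rf A i ω, cf A i ω.reverse)) ++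
      E.map (fun ω => (-rf A i ω, cf A i (i :: ω.reverse)))).Nodup) :
    L.length * Module.finrank k (D cs h X ρ) + E.length * Module.finrank k (Io cs h T X ρ i) ≤
      Module.finrank k V := by
  have h1 := dim_ge R hirr (α := Fin L.length) (β := Fin E.length) (fun a => (cs.wordProd (L.get a))⁻¹) (by
    intro a b hab h0
    rw [inv_inv] at h0
    have h2 := co_mul_left cs h hi h0 (cs.wordProd (L.get b))
    rw [inv_mul_cancel_right, co_wordProd, co_wordProd] at h2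
    apply hab
    have h3 := List.nodup_iff_injective_get.1 hL
    have h4 : (⟨a, by rw [List.length_map]; exact a.2⟩ : Fin (L.map (cf A i)).length) =
        ⟨b, by rw [List.length_map]; exact b.2⟩ := by
      apply h3
      simpa using h2
    have h5 := congrArg Fin.val h4
    exact Fin.ext h5) (fun b => cs.wordProd (E.get b)) (fun _ => i) (by
    intro a b hab h0
    have hE1 := (List.nodup_append.1 hE).1
    have hE2 := (List.nodup_append.1 hE).2.2
    rcases h0 with ⟨h2, h3⟩ | ⟨h2, h3⟩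
    · rw [rep_wordProd_sr, rep_wordProd_sr] at h2
      have h4 := co_mul_left cs h hi h3 (cs.wordProd (E.get b))⁻¹
      rw [mul_inv_cancel_right, ← cs.wordProd_reverse, ← cs.wordProd_reverse, co_wordProd, co_wordProd] at h4
      apply hab
      have h5 := List.nodup_iff_injective_get.1 hE1
      have h6 : (⟨a, by rw [List.length_map]; exact a.2⟩ :
          Fin (E.map (fun ω => (rf A i ω, cf A i ω.reverse))).length) =
          ⟨b, by rw [List.length_map]; exact b.2⟩ := by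
        apply h5
        simp only [List.get_eq_getElem, List.getElem_map]
        exact Prod.ext h2 h4
      have h7 := congrArg Fin.val h6
      exact Fin.ext h7
    · rw [rep_wordProd_sr, rep_wordProd_sr] at h2
      have h4 := co_mul_left cs h hi h3 (cs.wordProd (i :: (E.get b).reverse))
      have e : (cs.wordProd (E.get a))⁻¹ * (cs.wordProd (E.get b) * cs.simple i) * cs.wordProd (i :: (E.get b).reverse) =
          cs.wordProd (E.get a).reverse := by
        rw [cs.wordProd_cons, cs.wordProd_reverse, cs.wordProd_reverse]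
        have : cs.simple i * cs.simple i = 1 := cs.simple_mul_simple_self i
        calc (cs.wordProd (E.get a))⁻¹ * (cs.wordProd (E.get b) * cs.simple i) *
              (cs.simple i * (cs.wordProd (E.get b))⁻¹)
            = (cs.wordProd (E.get a))⁻¹ * (cs.wordProd (E.get b) * (cs.simple i * cs.simple i) *
              (cs.wordProd (E.get b))⁻¹) := by group
          _ = (cs.wordProd (E.get a))⁻¹ := by rw [this, mul_one, mul_inv_cancel, mul_one]
      rw [e, co_wordProd, co_wordProd] at h4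
      refine hE2 _ (List.mem_map_of_mem (f := fun ω => (rf A i ω, cf A i ω.reverse)) (List.get_mem E a)) _
        (List.mem_map_of_mem (f := fun ω => (-rf A i ω, cf A i (i :: ω.reverse))) (List.get_mem E b)) ?_
      exact Prod.ext h2 h4)
  rw [Finset.sum_const, Finset.card_univ, Fintype.card_fin, Fintype.card_fin, smul_eq_mul] at h1
  exact h1

theorem one_le_D : 1 ≤ Module.finrank k (D cs h X ρ) := by
  rw [Nat.one_le_iff_ne_zero]
  intro h0
  exact (simp_fx R ρ hirr).ne (Submodule.finrank_eq_zero.1 h0)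

end dims

/-- Cartan matrix -/
def mAB3 : Fin 3 → Fin 3 → ℤ := ![![2, -1, 0], ![-1, 2, -2], ![0, -1, 2]]

theorem mAB3_eq : (Nodes.TypeC.A 3) = mAB3 := by
  funext i j
  rw [Nodes.TypeC.A_apply]
  revert i j
  decide +kernel

section

variable {W Y : Type*} [Group W] [Group Y] {cs : CoxeterSystem (CoxeterMatrix.B 3) W} {p : ℕ} {T : Subgroup Y} {n : Fin 3 → Y}
  {X : (Fin 3 → ℤ) → Subgroup Y} {k V : Type*} [Field k] [AddCommGroup V] [Module k V]

theorem le_B3 (R : RGD cs (Nodes.TypeC.isCartan 3) p T n X) [Finite Y] [Finite W] [Fact p.Prime] [CharP k p]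
    {ρ : Y →* Module.End k V} [FiniteDimensional k V] [Nontrivial V]
    (hirr : ∀ L : Submodule k V, Ivt ρ (GG cs (Nodes.TypeC.isCartan 3) T X) L → L = ⊥ ∨ L = ⊤)
    (hn : Module.finrank k V ≤ 12) (h0 : (0 : Fin 3) ∉ Jx cs (Nodes.TypeC.isCartan 3) X ρ)
    (hD : Module.finrank k (D cs (Nodes.TypeC.isCartan 3) X ρ) = 1) :
    Module.finrank k (Le cs (Nodes.TypeC.isCartan 3) T X ρ {0}) ≤ 2 := by
  have h1 := dim_words' R hirr h0 [[], [0], [0, 1], [0, 1, 2], [0, 1, 2, 1], [0, 1, 2, 1, 0]]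
    (by rw [mAB3_eq]; decide +kernel)
    [[], [1], [0, 1], [2, 1], [2, 0, 1], [1, 2, 1], [1, 2, 0, 1], [0, 1, 2, 1], [0, 1, 2, 0, 1], [2, 1, 2, 0, 1],
      [2, 0, 1, 2, 0, 1], [1, 2, 0, 1, 2, 0, 1]]
    (by rw [mAB3_eq]; decide +kernel)
  have h7 := finrank_Io R hirr (ρ := ρ) 0
  simp only [List.length_cons, List.length_nil] at h1
  omega

end

/-- Cartan matrix -/
def mAD4 : Fin 4 → Fin 4 → ℤ := ![![2, -1, 0, 0], ![-1, 2, -1, -1], ![0, -1, 2, 0], ![0, -1, 0, 2]]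

theorem mAD4_eq : (Nodes.TypeD.A 2) = mAD4 := by
  funext i j
  rw [Nodes.TypeD.A_apply]
  revert i j
  decide +kernel

section

variable {W Y : Type*} [Group W] [Group Y] {cs : CoxeterSystem (Nodes.TypeD.M 2) W} {p : ℕ} {T : Subgroup Y} {n : Fin 4 → Y}
  {X : (Fin 4 → ℤ) → Subgroup Y} {k V : Type*} [Field k] [AddCommGroup V] [Module k V]

theorem le_D4 (R : RGD cs (Nodes.TypeD.isCartan 2) p T n X) [Finite Y] [Finite W] [Fact p.Prime] [CharP k p]
    {ρ : Y →* Module.End k V} [FiniteDimensional k V] [Nontrivial V]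
    (hirr : ∀ L : Submodule k V, Ivt ρ (GG cs (Nodes.TypeD.isCartan 2) T X) L → L = ⊥ ∨ L = ⊤)
    (hn : Module.finrank k V ≤ 12) (h0 : (0 : Fin 4) ∉ Jx cs (Nodes.TypeD.isCartan 2) X ρ) :
    Module.finrank k (D cs (Nodes.TypeD.isCartan 2) X ρ) = 1 ∧
      Module.finrank k (Le cs (Nodes.TypeD.isCartan 2) T X ρ {0}) ≤ 2 := by
  have h1 := dim_words' R hirr h0 [[], [0], [0, 1], [0, 1, 2], [0, 1, 3], [0, 1, 2, 3], [0, 1, 2, 3, 1], [0, 1, 2, 3, 1, 0]]
    (by rw [mAD4_eq]; decide +kernel) [[], [1], [0, 1], [2, 1], [3, 1]] (by rw [mAD4_eq]; decide +kernel)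
  have h2 := one_le_D R hirr
  have h7 := finrank_Io R hirr (ρ := ρ) 0
  simp only [List.length_cons, List.length_nil] at h1
  omega

end

/-! ### identification -/

section ident

open Cfsg.Agent.Nodes Cfsg.Agent.Nodes.WittRoot Cfsg.Agent.Nodes.WittRGD Cfsg.Agent.Nodes.WittAll
open Cfsg.Agent.TitsThree.Siegel Cfsg.Agent.TitsThree.SiegelGen Cfsg.Agent.TitsThree.WittFrame Cfsg.Agent.TitsThree.FrameCN
  Cfsg.Agent.TitsThree.WBridge Cfsg.Agent.TitsThree.KSideO
open Cfsg.Agent.H915.LD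

variable {F : Type u} [Field F] [Finite F] {ι : Type} [Fintype ι] [DecidableEq ι] {P : Subgroup (GL ι F)}

/-- the root group datum of a model -/
theorem rgdM {K : Type} [Field K] [Finite K] {ν : Type} [Fintype ν] [DecidableEq ν]
    {H : HForm K (ν → K)} {n : ℕ} {Fr : Frame H (Fin n)} {G0 : Subgroup ((ν → K) ≃ₗ[K] (ν → K))} {p : ℕ}
    [Fact p.Prime] [CharP K p] (hA : AmbT Fr p G0) {p0 : Fr.Adm} (hp0 : p0.c ≠ 0) :
    RGD (CoxeterMatrix.B n).toCoxeterSystem (TypeC.isCartan n) p ((Tor Fr G0).subgroupOf G0)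
      (fun i => (⟨WittRGD.nn Fr p0 i, WittAll.nn_mem hA p0 i⟩ : G0)) (fun x => (WittRoot.rg Fr x).subgroupOf G0) :=
  rgd_restrict (WittAll.rgdC hA hp0 (CoxeterMatrix.B n).toCoxeterSystem) G0 (fun x _ => hA.rg_le x)
    (fun i => WittAll.nn_mem hA p0 i)

theorem G1M {K : Type} [Field K] [Finite K] {ν : Type} [Fintype ν] [DecidableEq ν]
    {H : HForm K (ν → K)} {n : ℕ} {Fr : Frame H (Fin n)} {T₀ : Type*} [Group T₀] (M : Model Fr T₀) (hn : 0 < n)
    (hperf : commutator ↥M.I = ⊤) :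
    G1 (CoxeterMatrix.B n).toCoxeterSystem (TypeC.isCartan n) (fun x => (WittRoot.rg Fr x).subgroupOf M.I) = ⊤ :=
  G1_eq_top_of_map hperf (WittAll.ker_le_center M) (WittModel.G1_eq_top M hn _)

/-- **Rank three, `J = {0}ᶜ`.** -/
theorem nat_C3 (hC : Core P) {K : Type} [Field K] [Finite K] {ν : Type} [Fintype ν] [DecidableEq ν]
    {H : HForm K (ν → K)} {Fr : Frame H (Fin 3)} {G0 : Subgroup ((ν → K) ≃ₗ[K] (ν → K))} {p : ℕ}
    [Fact p.Prime] [CharP F p] [CharP K p] (hA : AmbT Fr p G0) {p0 : Fr.Adm} (hp0 : p0.c ≠ 0)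
    (hsN : Submodule.span K (Set.range (mt G0)) = ⊤) (hι : Fintype.card ι ≤ 12)
    {Y : Type*} [Group Y] [Finite Y] {f : Y →* G0} {g : Y →* P} {n₁ : Fin 3 → Y} (hf : Function.Surjective f)
    (hg : Function.Surjective g) (hfk : f.ker ≤ Subgroup.center Y) (hfp : (Nat.card f.ker).Coprime p)
    (hn₁ : ∀ i, f (n₁ i) = ⟨WittRGD.nn Fr p0 i, WittAll.nn_mem hA p0 i⟩)
    (R₁ : RGD (CoxeterMatrix.B 3).toCoxeterSystem (TypeC.isCartan 3) p (((Tor Fr G0).subgroupOf G0).comap f) n₁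
      (fun x => lft p f ((WittRoot.rg Fr x).subgroupOf G0)))
    (hG₁ : G1 (CoxeterMatrix.B 3).toCoxeterSystem (TypeC.isCartan 3)
      (fun x => lft p f ((WittRoot.rg Fr x).subgroupOf G0)) = ⊤)
    (hJ : ∀ i, i ∈ Jx (CoxeterMatrix.B 3).toCoxeterSystem (TypeC.isCartan 3)
      (fun x => lft p f ((WittRoot.rg Fr x).subgroupOf G0)) (lin ((matP P).comp g)) ↔ i ≠ 0) :
    ∃ (τ : K ≃+* F) (θ : (ν → F) ≃ₗ[F] (ι → F)), ∀ A : GL ι F,
      A ∈ P ↔ ∃ g : G0, ∀ v, θ (((mt G0 g).map (τ : K →+* F)) *ᵥ v) = (A : Matrix ι ι F) *ᵥ θ v := by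
  have hfin : Finite ((ν → K) ≃ₗ[K] (ν → K)) :=
    Finite.of_injective (fun g : (ν → K) ≃ₗ[K] (ν → K) => (g : (ν → K) → (ν → K))) DFunLike.coe_injective
  have hWf : Finite (CoxeterMatrix.B 3).Group := TypeC.finite_W (CoxeterMatrix.B 3).toCoxeterSystem
  have hne := hC.nonempty
  have hirr := cov_irr (T := ((Tor Fr G0).subgroupOf G0).comap f) hC hg hG₁
  have hnV : Nontrivial (ι → F) := inferInstance
  have hD : Module.finrank F (D (CoxeterMatrix.B 3).toCoxeterSystem (TypeC.isCartan 3)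
      (fun x => lft p f ((WittRoot.rg Fr x).subgroupOf G0)) (lin ((matP P).comp g))) = 1 := by
    refine finrank_D_one (φ := P.subtype.comp g) (P := P) R₁ hG₁ ?_ hC.absIrred (o := 0) (fun i hi => (hJ i).2 hi) ?_
    · rw [MonoidHom.range_comp, MonoidHom.range_eq_top.2 hg, ← MonoidHom.range_eq_map, Subgroup.range_subtype]
    · intro s hs t ht
      exact T1_comm_C hA.V0 hA.iso (by omega) rfl hf hfk hs ht
  have h0 : (0 : Fin 3) ∉ Jx (CoxeterMatrix.B 3).toCoxeterSystem (TypeC.isCartan 3)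
      (fun x => lft p f ((WittRoot.rg Fr x).subgroupOf G0)) (lin ((matP P).comp g)) := fun h => (hJ 0).1 h rfl
  have hL := le_B3 R₁ hirr (by rwa [Module.finrank_fintype_fun_eq_card]) h0 hD
  obtain ⟨σ, θ, hθ⟩ := identify_cov (o := (0 : Fin 3)) hC (rgdM hA hp0) hf hg hfk hfp hn₁ R₁ hG₁ hsN
    (natAt_C hA hp0 (by omega) rfl (CoxeterMatrix.B 3).toCoxeterSystem)
    (fixC (by omega) rfl (CoxeterMatrix.B 3).toCoxeterSystem) (surjC hA hp0 (by omega) rfl) hJ hD hL
  obtain ⟨τ, rfl⟩ := ringEquiv_of_surj σ (identify_surj hC hθ)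
  exact ⟨τ, θ, hθ⟩

/-- **Type `D_4`, `J = {0}ᶜ`.** -/
theorem nat_D4 (hC : Core P) {K : Type} [Field K] [Finite K] {ν : Type} [Fintype ν] [DecidableEq ν]
    {H : HForm K (ν → K)} {Fr : Frame H (Fin (2 + 2))} {G0 : Subgroup ((ν → K) ≃ₗ[K] (ν → K))} {p : ℕ}
    [Fact p.Prime] [CharP F p] [CharP K p] (hA : WittRoot.Amb Fr G0) (h0 : ∀ q : Fr.Adm, q = 1)
    (hle : ∀ x, WittRGDD.rg Fr x ≤ G0) (hsN : Submodule.span K (Set.range (mt G0)) = ⊤) (hι : Fintype.card ι ≤ 12)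
    {Y : Type*} [Group Y] [Finite Y] {f : Y →* G0} {g : Y →* P} {n₁ : Fin (2 + 2) → Y} (hf : Function.Surjective f)
    (hg : Function.Surjective g) (hfk : f.ker ≤ Subgroup.center Y) (hfp : (Nat.card f.ker).Coprime p)
    (hn₁ : ∀ i, f (n₁ i) = ⟨WittRGDD.nn Fr i, WittRGDD.nn_mem hA i⟩)
    (R₁ : RGD (TypeD.M 2).toCoxeterSystem (TypeD.isCartan 2) p (((Tor Fr G0).subgroupOf G0).comap f) n₁
      (fun x => lft p f ((WittRGDD.rg Fr x).subgroupOf G0)))
    (hG₁ : G1 (TypeD.M 2).toCoxeterSystem (TypeD.isCartan 2)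
      (fun x => lft p f ((WittRGDD.rg Fr x).subgroupOf G0)) = ⊤)
    (hJ : ∀ i, i ∈ Jx (TypeD.M 2).toCoxeterSystem (TypeD.isCartan 2)
      (fun x => lft p f ((WittRGDD.rg Fr x).subgroupOf G0)) (lin ((matP P).comp g)) ↔ i ≠ 0) :
    ∃ (τ : K ≃+* F) (θ : (ν → F) ≃ₗ[F] (ι → F)), ∀ A : GL ι F,
      A ∈ P ↔ ∃ g : G0, ∀ v, θ (((mt G0 g).map (τ : K →+* F)) *ᵥ v) = (A : Matrix ι ι F) *ᵥ θ v := by
  have hfin : Finite ((ν → K) ≃ₗ[K] (ν → K)) :=
    Finite.of_injective (fun g : (ν → K) ≃ₗ[K] (ν → K) => (g : (ν → K) → (ν → K))) DFunLike.coe_injective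
  have hWf : Finite (TypeD.M 2).Group := TypeD.finite_W (TypeD.M 2).toCoxeterSystem
  have hne := hC.nonempty
  have hirr := cov_irr (T := ((Tor Fr G0).subgroupOf G0).comap f) hC hg hG₁
  have hnV : Nontrivial (ι → F) := inferInstance
  obtain ⟨hD, hL⟩ := le_D4 R₁ hirr (by rwa [Module.finrank_fintype_fun_eq_card]) fun h => (hJ 0).1 h rfl
  have hR := rgd_restrict (rgdD hA h0 (TypeD.M 2).toCoxeterSystem (p := p))
    G0 (fun x _ => hle x) (fun i => WittRGDD.nn_mem hA i)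
  obtain ⟨σ, θ, hθ⟩ := identify_cov (o := (0 : Fin (2 + 2))) hC hR hf hg hfk hfp hn₁ R₁ hG₁ hsN
    (natAt_D hA (by omega) rfl (TypeD.M 2).toCoxeterSystem)
    (fixD (by omega) rfl (TypeD.M 2).toCoxeterSystem) (surjD hA rfl) hJ hD hL
  obtain ⟨τ, rfl⟩ := ringEquiv_of_surj σ (identify_surj hC hθ)
  exact ⟨τ, θ, hθ⟩

end ident

/-! ### covers -/

section cv

open Cfsg.Agent.H915.LD

/-- a common perfect cover of a linear group `P` and of a group with a root group datum -/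
structure Cv {F : Type*} [Field F] {ι : Type} [Fintype ι] [DecidableEq ι] (P : Subgroup (GL ι F))
    {𝔾 : Type*} [Group 𝔾] {I W : Type} [Fintype I] [DecidableEq I] [Group W] {M : CoxeterMatrix I}
    (cs : CoxeterSystem M W) {A : I → I → ℤ} (h : IsCartan M A) (p : ℕ) (T : Subgroup 𝔾) (n : I → 𝔾)
    (X : (I → ℤ) → Subgroup 𝔾) (Y : Type*) [Group Y] where
  /-- the map to `𝔾` -/
  f : Y →* 𝔾
  /-- the map to `P` -/
  g : Y →* P
  /-- representatives -/
  n₁ : I → Y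
  surj_f : Function.Surjective f
  surj_g : Function.Surjective g
  ker : f.ker ≤ Subgroup.center Y
  cop : (Nat.card f.ker).Coprime p
  perf : commutator Y = ⊤
  n_eq : ∀ i, f (n₁ i) = n i
  rgd : RGD cs h p (T.comap f) n₁ (fun x => lft p f (X x))
  gen : G1 cs h (fun x => lft p f (X x)) = ⊤

/-- the nodes with `X_{-i}` trivial on `V^U` -/
def Cv.J {F : Type*} [Field F] {ι : Type} [Fintype ι] [DecidableEq ι] {P : Subgroup (GL ι F)}
    {𝔾 : Type*} [Group 𝔾] {I W : Type} [Fintype I] [DecidableEq I] [Group W] {M : CoxeterMatrix I}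
    {cs : CoxeterSystem M W} {A : I → I → ℤ} {h : IsCartan M A} {p : ℕ} {T : Subgroup 𝔾} {n : I → 𝔾}
    {X : (I → ℤ) → Subgroup 𝔾} {Y : Type*} [Group Y] (C : Cv P cs h p T n X Y) : Set I :=
  Jx cs h (fun x => lft p C.f (X x)) (lin ((matP P).comp C.g))

theorem exists_cv {F : Type u} [Field F] [Finite F] {ι : Type} [Fintype ι] [DecidableEq ι] {P : Subgroup (GL ι F)}
    (hC : Core P) {𝔾 : Type v} [Group 𝔾] [Finite 𝔾] {p : ℕ} [hp : Fact p.Prime] [hcF : CharP F p]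
    {I W : Type} [Fintype I] [DecidableEq I] [Group W] [Finite W] {M : CoxeterMatrix I} {cs : CoxeterSystem M W}
    {A : I → I → ℤ} {h : IsCartan M A} {T : Subgroup 𝔾} {n : I → 𝔾} {X : (I → ℤ) → Subgroup 𝔾}
    (R : RGD cs h p T n X) (hG : G1 cs h X = ⊤) (hperf : commutator 𝔾 = ⊤) {T₀ : Type*} [Group T₀] {π : 𝔾 →* T₀}
    (hπ : Function.Surjective π) (Φ : Soc P ≃* T₀) :
    ∃ (Y : Type (max u v)) (_ : Group Y) (_ : Finite Y) (C : Cv P cs h p T n X Y), ∀ y, prj Φ (C.g y) = π (C.f y) := by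
  obtain ⟨Y, hY1, hY2, f, g, n₁, hf, hg, hfk, hfp, hY, hn₁, hc, R₁, hG₁⟩ := exists_cov hC R hG hperf hπ Φ
  exact ⟨Y, hY1, hY2, ⟨f, g, n₁, hf, hg, hfk, hfp, hY, hn₁, R₁, hG₁⟩, hc⟩

end cv

end Cfsg.Agent.H925.Nat
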