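import Cfsg.Agent.H925.NatTor
import Cfsg.Agent.H905.MdC

/-!
# Modules which are natural at one node (helper925)

`R : RGD cs h p T n X`; `NatAt o c` : `c` is fixed by all `X_i` and by `X_{-i}`, `i ≠ o`, is an eigenvector of `T`, and
`⟨c, n_o c⟩` is a natural module for the node `o`.

* `exists_sigma` : two such modules over `K` and `k`, the first one with `X_o ≃ K`: there is `σ : K → k` and `μ ≠ 0`
  such that the parameters of `X_o`, `X_{-o}` are related by `μ σ(a)`, `μ⁻¹ σ(a)`;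
* **`chi_all`** : the characters of the torus are related by `σ`.
-/

set_option autoImplicit false
set_option linter.unusedSectionVars false

namespace Cfsg.Agent.H925.Nat

open CoxeterSystem Cfsg.Agent.ChevalleyStructure.CoxeterGeom Cfsg.Agent.Tits.Roots Cfsg.Agent.Tits.Core
  Cfsg.Agent.Tits.Exchange Cfsg.Agent.Nodes.Reps Cfsg.Agent.Nodes.BNOf Cfsg.Agent.Nodes.StabComb
  Cfsg.Agent.Nodes.Bruhat Cfsg.Agent.Nodes.OppDec Cfsg.Agent.Nodes.RGDLib Cfsg.Agent.Omega.CR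

/-! ### ring homomorphisms -/

section field

variable {K k : Type*} [Field K] [Field k]

/-- an additive map with `σ(a² b) = σ(a)² σ(b)` and `σ(1) = 1` is multiplicative -/
theorem mul_of_sq {s : K → k} (hadd : ∀ a b, s (a + b) = s a + s b) (h1 : s 1 = 1)
    (hsq : ∀ a b, s (a * a * b) = s a * s a * s b) (hp : (2 : k) ≠ 0 ∨ ∀ a : K, ∃ c, c * c = a) (a b : K) :
    s (a * b) = s a * s b := by
  rcases hp with h2 | hs
  · have e1 := hsq (a + 1) b
    have e2 := hsq a b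
    have e3 : (a + 1) * (a + 1) * b = a * a * b + (a * b + a * b) + b := by ring
    rw [e3, hadd, hadd, hadd, hadd, h1, e2] at e1
    have e4 : (2 : k) * (s (a * b)) = 2 * (s a * s b) := by linear_combination e1
    exact mul_left_cancel₀ h2 e4
  · obtain ⟨c, rfl⟩ := hs a
    have e1 := hsq c 1
    rw [mul_one, h1, mul_one] at e1
    rw [hsq, e1]

end field

variable {I W Y : Type*} [Fintype I] [DecidableEq I] [Group W] [Group Y] {M : CoxeterMatrix I}
  {cs : CoxeterSystem M W} {A : I → I → ℤ} {h : IsCartan M A} {p : ℕ} {T : Subgroup Y} {n : I → Y}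
  {X : (I → ℤ) → Subgroup Y}

/-! ### decompositions in rank one -/

section decomp

variable (R : RGD cs h p T n X)
include R

theorem conj_n_neg {o : I} {x : Y} (hx : x ∈ X (sr o)) : n o * x * (n o)⁻¹ ∈ X (-sr o) := by
  have := R.conj_mem (rp_simple cs R.nsys o) (isRoot_sr cs h o) hx
  rwa [rep_simple_sr] at this

theorem conj_n_neg' {o : I} {x : Y} (hx : x ∈ X (sr o)) : (n o)⁻¹ * x * n o ∈ X (-sr o) := by
  have := R.conj_mem' (rp_simple cs R.nsys o) (isRoot_sr cs h o) hx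
  rwa [cs.inv_simple, rep_simple_sr] at this

theorem conj_n_pos' {o : I} {x : Y} (hx : x ∈ X (-sr o)) : (n o)⁻¹ * x * n o ∈ X (sr o) := by
  have := R.conj_mem' (rp_simple cs R.nsys o) (isRoot_sr cs h o).neg hx
  rwa [cs.inv_simple, map_neg, rep_simple_sr, neg_neg] at this

theorem conj_n_T {o : I} {t : Y} (ht : t ∈ T) : (n o)⁻¹ * t * n o ∈ T := by
  have h3 := inv_mem (R.nsys.norm o)
  have h4 := (Subgroup.mem_normalizer_iff.1 h3 t).1 ht
  rwa [inv_inv] at h4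

theorem decomp {o : I} {x : Y} (hx : x ∈ X (sr o)) (hx1 : x ≠ 1) :
    ∃ y₁ ∈ X (-sr o), ∃ t ∈ T, ∃ y₂ ∈ X (-sr o), x = y₁ * t * n o * y₂ := by
  have h1 : n o * x * (n o)⁻¹ ≠ 1 := by
    intro h0
    apply hx1
    have e : x = (n o)⁻¹ * (n o * x * (n o)⁻¹) * n o := by group
    rw [e, h0]; group
  obtain ⟨a, ha, t, ht, b, hb, e⟩ := R.rk1 o _ (conj_n_neg R hx) h1
  refine ⟨(n o)⁻¹ * a * n o, conj_n_neg' R ha, (n o)⁻¹ * t * n o, conj_n_T R ht, (n o)⁻¹ * b * n o,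
    conj_n_neg' R hb, ?_⟩
  have e1 : x = (n o)⁻¹ * (n o * x * (n o)⁻¹) * n o := by group
  rw [e1, e]; group

theorem conj_T {o : I} {t z : Y} (ht : t ∈ T) (hz : z ∈ X (sr o)) : t * z * t⁻¹ ∈ X (sr o) := by
  rw [← R.tor _ (isRoot_sr cs h o) t ht]
  exact conj_mem_cj.2 hz

end decomp

/-! ### modules natural at a node -/

section

variable {k V : Type*} [Field k] [AddCommGroup V] [Module k V]

theorem inv_eig (ρ : Y →* Module.End k V) {t : Y} {v : V} {q : k} (hq : q ≠ 0) (e : ρ t v = q • v) :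
    ρ t⁻¹ v = q⁻¹ • v := by
  have h2 : ρ t⁻¹ (ρ t v) = q • ρ t⁻¹ v := by rw [e, map_smul]
  rw [rho_inv_rho] at h2
  conv_rhs => rw [h2]
  rw [smul_smul, inv_mul_cancel₀ hq, one_smul]

/-- natural at `o` -/
structure NatAt (T : Subgroup Y) (n : I → Y) (X : (I → ℤ) → Subgroup Y) (ρ : Y →* Module.End k V) (o : I) (c : V) :
    Prop where
  c0 : c ≠ 0
  fix : ∀ i, ∀ x ∈ X (sr i), ρ x c = c
  tor : ∀ t ∈ T, ∃ a : k, ρ t c = a • c
  neg : ∀ i, i ≠ o → ∀ x ∈ X (-sr i), ρ x c = c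
  ind : ∀ a : k, ρ (n o) c ≠ a • c
  up : ∀ x ∈ X (sr o), ∃ a : k, ρ x (ρ (n o) c) = ρ (n o) c + a • c

namespace NatAt

variable {ρ : Y →* Module.End k V} {o : I} {c : V} (H : NatAt T n X ρ o c)
include H

theorem c'0 : ρ (n o) c ≠ 0 := by
  intro h0
  apply H.ind 0
  rw [h0, zero_smul]

theorem eq_of {α β α' β' : k} (e : α • c + β • ρ (n o) c = α' • c + β' • ρ (n o) c) : α = α' ∧ β = β' := by
  have h1 : β = β' := by
    by_contra hne
    apply H.ind ((β - β')⁻¹ * (α' - α))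
    have h2 : (β - β') • ρ (n o) c = (α' - α) • c := by
      rw [sub_smul, sub_smul, sub_eq_sub_iff_add_eq_add]
      rw [add_comm (β • _), e, add_comm]
    rw [mul_smul, ← h2, smul_smul, inv_mul_cancel₀ (sub_ne_zero.2 hne), one_smul]
  refine ⟨?_, h1⟩
  rw [h1] at e
  exact smul_left_injective k H.c0 (add_right_cancel e)

theorem smul_inj {α β : k} (e : α • c = β • c) : α = β := smul_left_injective k H.c0 e

variable (R : RGD cs h p T n X)
include R

theorem n2 : ∃ e : k, e ≠ 0 ∧ ρ (n o) (ρ (n o) c) = e • c := by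
  obtain ⟨e, he⟩ := H.tor _ (R.sq_mem_T o)
  refine ⟨e, ?_, by rw [← rho_mul]; exact he⟩
  intro h0
  apply H.c0
  have h1 : c = ρ (n o * n o)⁻¹ (ρ (n o * n o) c) := (rho_inv_rho ρ _ _).symm
  rw [h1, he, h0, zero_smul, map_zero]

theorem tor' {t : Y} (ht : t ∈ T) : ∃ a : k, a ≠ 0 ∧ ρ t (ρ (n o) c) = a • ρ (n o) c := by
  obtain ⟨a, ha⟩ := H.tor _ (conj_n_T R (o := o) ht)
  have e : ρ t (ρ (n o) c) = a • ρ (n o) c := by
    rw [← rho_mul]
    have e1 : t * n o = n o * ((n o)⁻¹ * t * n o) := by group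
    rw [e1, rho_mul, ha, map_smul]
  refine ⟨a, ?_, e⟩
  intro h0
  apply H.c'0
  have h1 : ρ (n o) c = ρ t⁻¹ (ρ t (ρ (n o) c)) := (rho_inv_rho ρ _ _).symm
  rw [h1, e, h0, zero_smul, map_zero]

theorem down_fix {y : Y} (hy : y ∈ X (-sr o)) : ρ y (ρ (n o) c) = ρ (n o) c := by
  rw [← rho_mul]
  have e1 : y * n o = n o * ((n o)⁻¹ * y * n o) := by group
  rw [e1, rho_mul, H.fix o _ (conj_n_pos' R hy)]

theorem down {y : Y} (hy : y ∈ X (-sr o)) : ∃ b : k, ρ y c = c + b • ρ (n o) c := by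
  obtain ⟨e, he0, he⟩ := H.n2 R
  obtain ⟨a, ha⟩ := H.up _ (conj_n_pos' R hy)
  -- `n⁻¹ c = e⁻¹ n c`
  have h1 : ρ (n o)⁻¹ c = e⁻¹ • ρ (n o) c := by
    have h2 : ρ (n o)⁻¹ (ρ (n o) (ρ (n o) c)) = e • ρ (n o)⁻¹ c := by rw [he, map_smul]
    rw [rho_inv_rho] at h2
    rw [h2, smul_smul, inv_mul_cancel₀ he0, one_smul]
  refine ⟨e⁻¹ * a, ?_⟩
  have e1 : y = n o * ((n o)⁻¹ * y * n o) * (n o)⁻¹ := by group
  conv_lhs => rw [e1]
  rw [rho_mul, rho_mul, h1, map_smul, ha, map_smul, map_add, map_smul, he, smul_add, smul_smul, smul_smul,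
    inv_mul_cancel₀ he0, one_smul]

/-- the relations of a decomposition -/
theorem rel {x y₁ t y₂ : Y} (hx : x ∈ X (sr o)) (hy₁ : y₁ ∈ X (-sr o)) (_ht : t ∈ T) (hy₂ : y₂ ∈ X (-sr o))
    (e : x = y₁ * t * n o * y₂) {f g a a' ε : k} (hf : ρ x (ρ (n o) c) = ρ (n o) c + f • c)
    (hg : ρ y₁ c = c + g • ρ (n o) c) (ha : ρ t c = a • c) (ha' : ρ t (ρ (n o) c) = a' • ρ (n o) c)
    (hε : ρ (n o) (ρ (n o) c) = ε • c) : f = ε * a ∧ f * g = 1 ∧ a' = -g := by
  have h1 : ρ x (ρ (n o) c) = (ε * a) • c + (ε * a * g) • ρ (n o) c := by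
    rw [e, rho_mul, H.down_fix R hy₂, rho_mul, rho_mul, hε, map_smul, ha, map_smul, map_smul, hg]
    simp only [smul_add, smul_smul]
    rw [mul_assoc]
  rw [hf] at h1
  have h2 : f • c + (1 : k) • ρ (n o) c = (ε * a) • c + (ε * a * g) • ρ (n o) c := by
    rw [← h1, one_smul, add_comm]
  obtain ⟨h3, h4⟩ := H.eq_of h2
  obtain ⟨b, hb⟩ := H.down R hy₂
  have h5 : ρ x c = (b * ε * a) • c + (a' + b * ε * a * g) • ρ (n o) c := by
    rw [e, rho_mul, hb, rho_mul, rho_mul, map_add, map_smul, hε, map_add, map_smul, map_smul, ha, ha', map_add,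
      map_smul, map_smul, map_smul, map_smul, hg, H.down_fix R hy₁]
    simp only [smul_add, smul_smul, add_smul]
    have e1 : b * (ε * a) = b * ε * a := by ring
    have e2 : b * (ε * (a * g)) = b * ε * a * g := by ring
    rw [e1, e2]
    abel
  rw [H.fix o x hx] at h5
  have h6 : (1 : k) • c + (0 : k) • ρ (n o) c = (b * ε * a) • c + (a' + b * ε * a * g) • ρ (n o) c := by
    rw [← h5, one_smul, zero_smul, add_zero]
  obtain ⟨h7, h8⟩ := H.eq_of h6
  refine ⟨h3, by rw [h3]; exact h4.symm, ?_⟩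
  rw [← h7, one_mul] at h8
  linear_combination -h8

/-- the parameters of the two root groups -/
theorem rel' {u a t b : Y} (_ha : a ∈ X (sr o)) (ht : t ∈ T) (hb : b ∈ X (sr o))
    (e : u = a * t * n o * b) {f g : k} (hf : ρ a (ρ (n o) c) = ρ (n o) c + f • c)
    (hg : ρ u c = c + g • ρ (n o) c) : f * g = 1 := by
  obtain ⟨τ, -, hτ⟩ := H.tor' R ht
  have h1 : ρ u c = (τ * f) • c + τ • ρ (n o) c := by
    rw [e, rho_mul, H.fix o b hb, rho_mul, rho_mul, hτ, map_smul, hf, smul_add, smul_smul, add_comm]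
  have h2 : (1 : k) • c + g • ρ (n o) c = (τ * f) • c + τ • ρ (n o) c := by
    rw [← h1, hg, one_smul]
  obtain ⟨h3, h4⟩ := H.eq_of h2
  rw [h4, h3, mul_comm]

omit R in
theorem up_mul {x y : Y} (hx : x ∈ X (sr o)) {f g : k} (hf : ρ x (ρ (n o) c) = ρ (n o) c + f • c)
    (hg : ρ y (ρ (n o) c) = ρ (n o) c + g • c) : ρ (x * y) (ρ (n o) c) = ρ (n o) c + (f + g) • c := by
  rw [rho_mul, hg, map_add, hf, map_smul, H.fix o x hx, add_smul, add_assoc]

omit R in
theorem up_uniq {x : Y} {f g : k} (hf : ρ x (ρ (n o) c) = ρ (n o) c + f • c)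
    (hg : ρ x (ρ (n o) c) = ρ (n o) c + g • c) : f = g := by
  rw [hf] at hg
  exact H.smul_inj (add_left_cancel hg)

omit R in
theorem down_uniq {x : Y} {f g : k} (hf : ρ x c = c + f • ρ (n o) c) (hg : ρ x c = c + g • ρ (n o) c) : f = g := by
  rw [hf] at hg
  exact smul_left_injective k H.c'0 (add_left_cancel hg)

/-- conjugation -/
theorem conj {t z : Y} (_hz : ρ z c = c) {f a a' : k} (hf : ρ z (ρ (n o) c) = ρ (n o) c + f • c)
    (ha : ρ t c = a • c) (ha' : ρ t (ρ (n o) c) = a' • ρ (n o) c) (ha0 : a' ≠ 0) :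
    ρ (t * z * t⁻¹) (ρ (n o) c) = ρ (n o) c + (a'⁻¹ * a * f) • c := by
  have h1 : ρ t⁻¹ (ρ (n o) c) = a'⁻¹ • ρ (n o) c := inv_eig ρ ha0 ha'
  rw [rho_mul, h1, rho_mul, map_smul, hf, map_smul, map_add, ha', map_smul, ha, smul_add, smul_smul, smul_smul,
    smul_smul, inv_mul_cancel₀ ha0, one_smul]
  congr 2; ring

theorem f_ne_zero {x : Y} (hx : x ∈ X (sr o)) (hx1 : x ≠ 1) {f : k}
    (hf : ρ x (ρ (n o) c) = ρ (n o) c + f • c) : f ≠ 0 := by
  obtain ⟨y₁, hy₁, t, ht, y₂, hy₂, e⟩ := decomp R hx hx1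
  obtain ⟨g, hg⟩ := H.down R hy₁
  obtain ⟨a, ha⟩ := H.tor t ht
  obtain ⟨a', -, ha'⟩ := H.tor' R ht
  obtain ⟨ε, -, hε⟩ := H.n2 R
  obtain ⟨-, h2, -⟩ := H.rel R hx hy₁ ht hy₂ e hf hg ha ha' hε
  exact left_ne_zero_of_mul_eq_one h2

end NatAt

end

/-! ### comparison -/

section compare

variable {K N k V : Type*} [Field K] [AddCommGroup N] [Module K N] [Field k] [AddCommGroup V] [Module k V]
  {ρN : Y →* Module.End K N} {ρ : Y →* Module.End k V} {o : I} {b : N} {c : V}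

theorem exists_sigma (R : RGD cs h p T n X) (HN : NatAt T n X ρN o b) (HV : NatAt T n X ρ o c)
    (hsurj : ∀ a : K, ∃ x ∈ X (sr o), ρN x (ρN (n o) b) = ρN (n o) b + a • b)
    (hp : (2 : k) ≠ 0 ∨ ∀ a : K, ∃ c, c * c = a) :
    ∃ (σ : K →+* k) (μ : k), μ ≠ 0 ∧
      (∀ x ∈ X (sr o), ∀ a, ρN x (ρN (n o) b) = ρN (n o) b + a • b →
        ρ x (ρ (n o) c) = ρ (n o) c + (μ * σ a) • c) ∧
      (∀ y ∈ X (-sr o), ∀ a, ρN y b = b + a • ρN (n o) b → ρ y c = c + (μ⁻¹ * σ a) • ρ (n o) c) := by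
  choose x hx hxa using hsurj
  choose f hf using fun a => HV.up (x a) (hx a)
  -- elements of `X_o` are determined by the parameter
  have hinj : ∀ y ∈ X (sr o), ∀ a, ρN y (ρN (n o) b) = ρN (n o) b + a • b → y = x a := by
    intro y hy a hya
    by_contra hne
    have h1 : y * (x a)⁻¹ ≠ 1 := fun h0 => hne (mul_inv_eq_one.1 h0)
    have hinv : ρN (x a)⁻¹ (ρN (n o) b) = ρN (n o) b + (-a) • b := by
      have h2 : ρN (x a)⁻¹ (ρN (x a) (ρN (n o) b)) = ρN (x a)⁻¹ (ρN (n o) b) + a • b := by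
        rw [hxa, map_add, map_smul, HN.fix o _ (inv_mem (hx a))]
      rw [rho_inv_rho] at h2
      rw [neg_smul, ← sub_eq_add_neg, eq_sub_iff_add_eq]
      exact h2.symm
    have h2 := HN.up_mul hy hya hinv
    exact HN.f_ne_zero R (mul_mem hy (inv_mem (hx a))) h1 h2 (by rw [add_neg_cancel])
  have hval : ∀ y ∈ X (sr o), ∀ a, ρN y (ρN (n o) b) = ρN (n o) b + a • b →
      ρ y (ρ (n o) c) = ρ (n o) c + f a • c := by
    intro y hy a hya
    rw [hinj y hy a hya]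
    exact hf a
  have hadd : ∀ a a', f (a + a') = f a + f a' := by
    intro a a'
    have h1 := HN.up_mul (hx a) (hxa a) (hxa a')
    have h2 := hval _ (mul_mem (hx a) (hx a')) _ h1
    exact HV.up_uniq h2 (HV.up_mul (hx a) (hf a) (hf a'))
  have h0 : f 0 = 0 := by
    have := hadd 0 0
    rw [add_zero] at this
    exact left_eq_add.1 this
  have hx1 : ∀ a, a ≠ 0 → x a ≠ 1 := by
    intro a ha h1
    apply ha
    have h2 := hxa a
    rw [h1, map_one, Module.End.one_apply] at h2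
    have h3 : (0 : K) • b = a • b := by rw [zero_smul]; exact left_eq_add.1 h2 |>.symm
    exact (HN.smul_inj h3).symm
  have hne : ∀ a, a ≠ 0 → f a ≠ 0 := fun a ha => HV.f_ne_zero R (hx a) (hx1 a ha) (hf a)
  set μ := f 1 with hμ
  have hμ0 : μ ≠ 0 := hne 1 one_ne_zero
  obtain ⟨εN, -, hεN⟩ := HN.n2 R
  obtain ⟨εV, -, hεV⟩ := HV.n2 R
  -- the decompositions
  have hdec : ∀ a : K, a ≠ 0 → ∃ t ∈ T, ρN t b = (εN⁻¹ * a) • b ∧ ρN t (ρN (n o) b) = (-a⁻¹) • ρN (n o) b ∧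
      ρ t c = (εV⁻¹ * f a) • c ∧ ρ t (ρ (n o) c) = (-(f a)⁻¹) • ρ (n o) c := by
    intro a ha
    obtain ⟨y₁, hy₁, t, ht, y₂, hy₂, e⟩ := decomp R (hx a) (hx1 a ha)
    refine ⟨t, ht, ?_⟩
    obtain ⟨g, hg⟩ := HN.down R hy₁
    obtain ⟨a₁, ha₁⟩ := HN.tor t ht
    obtain ⟨a₂, -, ha₂⟩ := HN.tor' R ht
    obtain ⟨g', hg'⟩ := HV.down R hy₁
    obtain ⟨a₁', ha₁'⟩ := HV.tor t ht
    obtain ⟨a₂', -, ha₂'⟩ := HV.tor' R ht
    obtain ⟨e1, e2, e3⟩ := HN.rel R (hx a) hy₁ ht hy₂ e (hxa a) hg ha₁ ha₂ hεN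
    obtain ⟨e1', e2', e3'⟩ := HV.rel R (hx a) hy₁ ht hy₂ e (hf a) hg' ha₁' ha₂' hεV
    have hN0 : εN ≠ 0 := by
      rintro rfl
      rw [zero_mul] at e1
      exact ha e1
    have hV0 : εV ≠ 0 := by
      rintro rfl
      rw [zero_mul] at e1'
      exact hne a ha e1'
    refine ⟨?_, ?_, ?_, ?_⟩
    · rw [ha₁]; congr 1; rw [e1]; field_simp
    · rw [ha₂]; congr 1; rw [e3, eq_inv_of_mul_eq_one_right e2]
    · rw [ha₁']; congr 1; rw [e1']; field_simp
    · rw [ha₂']; congr 1; rw [e3', eq_inv_of_mul_eq_one_right e2']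
  have hεN0 : εN ≠ 0 := by
    rintro rfl
    obtain ⟨t, ht, h1, -⟩ := hdec 1 one_ne_zero
    rw [inv_zero, zero_mul, zero_smul] at h1
    apply HN.c0
    have h2 : b = ρN t⁻¹ (ρN t b) := (rho_inv_rho ρN _ _).symm
    rw [h2, h1, map_zero]
  have hεV0 : εV ≠ 0 := by
    rintro rfl
    obtain ⟨t, ht, -, -, h1, -⟩ := hdec 1 one_ne_zero
    rw [inv_zero, zero_mul, zero_smul] at h1
    apply HV.c0
    have h2 : c = ρ t⁻¹ (ρ t c) := (rho_inv_rho ρ _ _).symm
    rw [h2, h1, map_zero]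
  -- `f (a² b) μ² = f(a)² f(b)`
  have hsq : ∀ a a', f (a * a * a') = (μ⁻¹ * f a) * (μ⁻¹ * f a) * f a' := by
    intro a a'
    rcases eq_or_ne a 0 with rfl | ha
    · rw [zero_mul, zero_mul, h0]; ring
    obtain ⟨t, ht, t1, t2, t3, t4⟩ := hdec a ha
    obtain ⟨s, hs, s1, s2, s3, s4⟩ := hdec 1 one_ne_zero
    rw [← hμ] at s3 s4
    have u1 : ρN (t * s⁻¹) b = a • b := by
      rw [rho_mul, inv_eig ρN (mul_ne_zero (inv_ne_zero hεN0) one_ne_zero) s1, map_smul, t1, smul_smul]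
      congr 1; field_simp
    have u2 : ρN (t * s⁻¹) (ρN (n o) b) = a⁻¹ • ρN (n o) b := by
      rw [rho_mul, inv_eig ρN (neg_ne_zero.2 (inv_ne_zero one_ne_zero)) s2, map_smul, t2, smul_smul]
      congr 1; field_simp
    have u3 : ρ (t * s⁻¹) c = (μ⁻¹ * f a) • c := by
      rw [rho_mul, inv_eig ρ (mul_ne_zero (inv_ne_zero hεV0) hμ0) s3, map_smul, t3, smul_smul]
      congr 1; field_simp
    have u4 : ρ (t * s⁻¹) (ρ (n o) c) = (μ * (f a)⁻¹) • ρ (n o) c := by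
      rw [rho_mul, inv_eig ρ (neg_ne_zero.2 (inv_ne_zero hμ0)) s4, map_smul, t4, smul_smul]
      congr 1; field_simp
    have hts : t * s⁻¹ ∈ T := mul_mem ht (inv_mem hs)
    have v1 := HN.conj R (HN.fix o _ (hx a')) (hxa a') u1 u2 (inv_ne_zero ha)
    have v2 := HV.conj R (HV.fix o _ (hx a')) (hf a') u3 u4 (mul_ne_zero hμ0 (inv_ne_zero (hne a ha)))
    rw [inv_inv] at v1
    have v3 := hval _ (conj_T R hts (hx a')) _ v1
    have v4 := HV.up_uniq v3 v2
    rw [v4]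
    have := hne a ha
    field_simp
  let σ : K →+* k :=
    { toFun := fun a => μ⁻¹ * f a
      map_one' := by rw [← hμ]; exact inv_mul_cancel₀ hμ0
      map_mul' := by
        refine mul_of_sq (s := fun a => μ⁻¹ * f a) (fun a a' => by rw [hadd, mul_add])
          (by rw [← hμ]; exact inv_mul_cancel₀ hμ0) (fun a a' => ?_) hp
        rw [hsq]; ring
      map_zero' := by rw [h0, mul_zero]
      map_add' := fun a a' => by rw [hadd, mul_add] }
  have hσ : ∀ a, σ a = μ⁻¹ * f a := fun a => rfl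
  refine ⟨σ, μ, hμ0, ?_, ?_⟩
  · intro y hy a hya
    rw [hσ, mul_inv_cancel_left₀ hμ0]
    exact hval y hy a hya
  · intro y hy a hya
    by_cases hy1 : y = 1
    · have ha : a = 0 := by
        rw [hy1, map_one, Module.End.one_apply] at hya
        refine HN.down_uniq (x := 1) ?_ (g := 0) ?_
        · rw [map_one, Module.End.one_apply]; exact hya
        · rw [map_one, Module.End.one_apply, zero_smul, add_zero]
      rw [hy1, ha, map_zero, mul_zero, zero_smul, add_zero, map_one, Module.End.one_apply]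
    obtain ⟨z, hz, t, ht, w, hw, e⟩ := R.rk1 o y hy hy1
    obtain ⟨a', ha'⟩ := HN.up z hz
    have h1 := HN.rel' R hz ht hw e ha' hya
    obtain ⟨g, hg⟩ := HV.down R hy
    have h2 := HV.rel' R hz ht hw e (hval z hz a' ha') hg
    rw [hg]
    congr 2
    have h3 : a' = a⁻¹ := eq_inv_of_mul_eq_one_left h1
    have h4 : g = (f a')⁻¹ := eq_inv_of_mul_eq_one_right h2
    have h5 : σ a' = μ⁻¹ * f a' := hσ a'
    have h6 : σ a' = (σ a)⁻¹ := by rw [h3, map_inv₀]
    have h7 : σ a = (μ⁻¹ * f a')⁻¹ := by rw [← h5, h6, inv_inv]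
    rw [h7, h4, mul_inv, inv_inv, inv_mul_cancel_left₀ hμ0]

/-- the two-dimensional modules of the rank one group -/
theorem two_compare {σ : K →+* k} {μ : k} (R : RGD cs h p T n X) (HN : NatAt T n X ρN o b) (HV : NatAt T n X ρ o c)
    (hup : ∀ x ∈ X (sr o), ∀ a, ρN x (ρN (n o) b) = ρN (n o) b + a • b →
        ρ x (ρ (n o) c) = ρ (n o) c + (μ * σ a) • c) (hμ : μ ≠ 0)
    (hdn : ∀ y ∈ X (-sr o), ∀ a, ρN y b = b + a • ρN (n o) b → ρ y c = c + (μ⁻¹ * σ a) • ρ (n o) c)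
    {s : Y} (hs : s ∈ X (sr o) ⊔ X (-sr o)) (α β : K) : ∃ α' β' : K,
      ρN s (α • b + β • ρN (n o) b) = α' • b + β' • ρN (n o) b ∧
      ρ s (σ α • c + (μ⁻¹ * σ β) • ρ (n o) c) = σ α' • c + (μ⁻¹ * σ β') • ρ (n o) c := by
  have hs' : s ∈ ⨆ q : Bool, cond q (X (sr o)) (X (-sr o)) := by
    rw [← sup_eq_iSup]; exact hs
  revert α β
  refine Subgroup.iSup_induction _ (C := fun s => ∀ α β : K, ∃ α' β' : K,
      ρN s (α • b + β • ρN (n o) b) = α' • b + β' • ρN (n o) b ∧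
      ρ s (σ α • c + (μ⁻¹ * σ β) • ρ (n o) c) = σ α' • c + (μ⁻¹ * σ β') • ρ (n o) c) hs' ?_ ?_ ?_
  · rintro (_ | _) x hx α β
    · obtain ⟨a, ha⟩ := HN.down R (hx : x ∈ X (-sr o))
      refine ⟨α, α * a + β, ?_, ?_⟩
      · rw [map_add, map_smul, map_smul, ha, HN.down_fix R hx, smul_add, smul_smul, add_smul, add_assoc]
      · rw [map_add, map_smul, map_smul, hdn x hx a ha, HV.down_fix R hx, smul_add, smul_smul, map_add, map_mul,
          add_assoc, ← add_smul]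
        congr 2; ring
    · obtain ⟨a, ha⟩ := HN.up x (hx : x ∈ X (sr o))
      refine ⟨α + β * a, β, ?_, ?_⟩
      · rw [map_add, map_smul, map_smul, ha, HN.fix o x hx, smul_add, smul_smul, add_smul]; abel
      · rw [map_add, map_smul, map_smul, hup x hx a ha, HV.fix o x hx, smul_add, smul_smul, map_add, map_mul,
          add_smul]
        have e1 : μ⁻¹ * σ β * (μ * σ a) = σ β * σ a := by field_simp
        rw [e1]; abel
  · intro α β
    exact ⟨α, β, by rw [map_one, Module.End.one_apply], by rw [map_one, Module.End.one_apply]⟩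
  · intro x y hx hy α β
    obtain ⟨α', β', h1, h2⟩ := hy α β
    obtain ⟨α'', β'', h3, h4⟩ := hx α' β'
    exact ⟨α'', β'', by rw [rho_mul, h1, h3], by rw [rho_mul, h2, h4]⟩

/-- **The characters of the torus.** -/
theorem chi_all {σ : K →+* k} {μ : k} (R : RGD cs h p T n X) [Finite Y] [Finite W] (hG : G1 cs h X = ⊤)
    (HN : NatAt T n X ρN o b) (HV : NatAt T n X ρ o c)
    (hup : ∀ x ∈ X (sr o), ∀ a, ρN x (ρN (n o) b) = ρN (n o) b + a • b →
        ρ x (ρ (n o) c) = ρ (n o) c + (μ * σ a) • c) (hμ : μ ≠ 0)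
    (hdn : ∀ y ∈ X (-sr o), ∀ a, ρN y b = b + a • ρN (n o) b → ρ y c = c + (μ⁻¹ * σ a) • ρ (n o) c)
    {t : Y} (ht : t ∈ T) {a : K} (ha : ρN t b = a • b) : ρ t c = σ a • c := by
  have key : ∃ a : K, ρN t b = a • b ∧ ρ t c = σ a • c := by
    refine Subgroup.iSup_induction _ (C := fun t => ∃ a : K, ρN t b = a • b ∧ ρ t c = σ a • c)
      (T_le_iSup R hG ht) ?_ ?_ ?_
    · rintro i s ⟨hs, hsT⟩
      by_cases hi : i = o
      · subst hi
        obtain ⟨a, ha⟩ := HN.tor s hsT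
        obtain ⟨α', β', h1, h2⟩ := two_compare R HN HV hup hμ hdn hs 1 0
        rw [one_smul, zero_smul, add_zero, ha] at h1
        have h3 : a • b + (0 : K) • ρN (n i) b = α' • b + β' • ρN (n i) b := by
          rw [zero_smul, add_zero]; exact h1
        obtain ⟨h4, h5⟩ := HN.eq_of h3
        rw [map_one, one_smul, map_zero, mul_zero, zero_smul, add_zero, ← h4, ← h5, map_zero, mul_zero,
          zero_smul, add_zero] at h2
        exact ⟨a, ha, h2⟩
      · refine ⟨1, ?_, ?_⟩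
        · rw [one_smul]
          have h1 : b ∈ fx ρN (X (sr i) ⊔ X (-sr i)) := by
            rw [H905.Md.fx_sup]
            exact ⟨fun x hx => HN.fix i x hx, fun x hx => HN.neg i hi x hx⟩
          exact h1 s hs
        · rw [map_one, one_smul]
          have h1 : c ∈ fx ρ (X (sr i) ⊔ X (-sr i)) := by
            rw [H905.Md.fx_sup]
            exact ⟨fun x hx => HV.fix i x hx, fun x hx => HV.neg i hi x hx⟩
          exact h1 s hs
    · exact ⟨1, by rw [map_one, Module.End.one_apply, one_smul],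
        by rw [map_one, Module.End.one_apply, map_one, one_smul]⟩
    · rintro x y ⟨a, h1, h2⟩ ⟨a', h3, h4⟩
      refine ⟨a * a', ?_, ?_⟩
      · rw [rho_mul, h3, map_smul, h1, smul_smul, mul_comm]
      · rw [rho_mul, h4, map_smul, h2, smul_smul, map_mul, mul_comm]
  obtain ⟨a', h1, h2⟩ := key
  rw [h2]
  congr 2
  exact HN.smul_inj (h1.symm.trans ha)

end compare

end Cfsg.Agent.H925.Nat
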