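import Cfsg.Agent.H925.OrthDisc
import Cfsg.Agent.H922.OddFrame
import Cfsg.Agent.H922.OddPerp

/-!
# Orthogonal decompositions into hyperbolic planes over small fields, frames over non-prime fields
-/

set_option autoImplicit false
set_option linter.unusedSectionVars false

namespace Cfsg.Agent.H925

open QuadraticMap Matrix

variable {ι : Type} [Fintype ι] [DecidableEq ι] {F : Type*} [Field F]

/-- a nondegenerate plane of plus type is a hyperbolic plane -/
theorem exists_hyp_of_plus {Q : (ι → F) → F} (hQ : Geo.IsNondegenerateQuadraticForm Q) {W : Submodule F (ι → F)}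
    (hW : Geo.IsNondegenerateOn (polar Q) W) (hd : Module.finrank F W = 2) (hp : Geo.IsPlusTypeOn Q W) :
    ∃ x ∈ W, ∃ y ∈ W, Q x = 0 ∧ Q y = 0 ∧ polar Q x y = 1 ∧ (∀ v ∈ W, ∃ a b : F, v = a • x + b • y) ∧
      ∀ a b : F, Q (a • x + b • y) = a * b := by
  obtain ⟨U, hUW, hU, hUd⟩ := hp
  rw [hd] at hUd
  have hU1 : Module.finrank F U = 1 := by omega
  obtain ⟨x, hxU, hx0⟩ : ∃ x ∈ U, x ≠ 0 := by
    apply Submodule.exists_mem_ne_zero_of_ne_bot
    rintro rfl
    rw [finrank_bot] at hU1
    omega
  obtain ⟨w, hwW, hw⟩ := (hW x (hUW hxU) hx0).2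
  have hQx := hU x hxU
  have hbil := hQ.polar_bilinear
  have hsmulQ := hQ.smul
  -- normalise
  obtain ⟨w₁, hw₁W, h1⟩ : ∃ w₁ ∈ W, polar Q x w₁ = 1 :=
    ⟨(polar Q x w)⁻¹ • w, W.smul_mem _ hwW, by rw [hbil.smul_right, inv_mul_cancel₀ hw]⟩
  have hxx : polar Q x x = 0 := by rw [polar_self hQ, hQx, mul_zero]
  set y : ι → F := w₁ + (-Q w₁) • x with hy
  have hyW : y ∈ W := W.add_mem hw₁W (W.smul_mem _ (hUW hxU))
  have hxy : polar Q x y = 1 := by
    rw [hy, hbil.add_right, hbil.smul_right, h1, hxx, mul_zero, add_zero]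
  have hQy : Q y = 0 := by
    rw [hy, Q_add' hQ, hsmulQ, hQx, hbil.smul_right]
    have : polar Q w₁ x = 1 := by rw [Cfsg.Agent.H922.polar_symm]; exact h1
    rw [this]; ring
  have hval : ∀ a b : F, Q (a • x + b • y) = a * b := by
    intro a b
    rw [Q_add' hQ, hsmulQ, hsmulQ, hQx, hQy, hbil.smul_left, hbil.smul_right, hxy]; ring
  refine ⟨x, hUW hxU, y, hyW, hQx, hQy, hxy, ?_, hval⟩
  -- spanning
  have hli : LinearIndependent F ![x, y] := by
    rw [LinearIndependent.pair_iff]
    intro s t hst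
    have e1 : polar Q (s • x + t • y) y = s := by
      have hyy : polar Q y y = 0 := by rw [polar_self hQ, hQy, mul_zero]
      rw [hbil.add_left, hbil.smul_left, hbil.smul_left, hxy, hyy]; ring
    have e2 : polar Q x (s • x + t • y) = t := by
      rw [hbil.add_right, hbil.smul_right, hbil.smul_right, hxy, hxx]; ring
    rw [hst] at e1 e2
    have z1 : polar Q 0 y = 0 := polar_zero_left (qf hQ) y
    have z2 : polar Q x 0 = 0 := polar_zero_right (qf hQ) x
    rw [z1] at e1
    rw [z2] at e2
    exact ⟨e1.symm, e2.symm⟩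
  have hspan : Submodule.span F (Set.range ![x, y]) = W := by
    apply Submodule.eq_of_le_of_finrank_eq
    · rw [Submodule.span_le]
      rintro _ ⟨i, rfl⟩
      fin_cases i
      · exact hUW hxU
      · exact hyW
    · rw [finrank_span_eq_card hli, hd, Fintype.card_fin]
  intro v hv
  rw [← hspan, Matrix.range_cons, Matrix.range_cons, Matrix.range_empty, Set.union_empty] at hv
  obtain ⟨a, b, hab⟩ := Submodule.mem_span_pair.1 hv
  exact ⟨a, b, hab.symm⟩

/-- elements of the stabiliser of a decomposition map members to members -/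
theorem exists_perm_of_mem {t : ℕ} {D : Fin t → Submodule F (ι → F)} {g : GL ι F}
    (hg : g ∈ Geo.decompositionStabilizer D) :
    ∃ σ : Equiv.Perm (Fin t), ∀ i, ∀ v ∈ D i, (g : Matrix ι ι F) *ᵥ v ∈ D (σ i) := by
  obtain ⟨σ, hσ⟩ := hg
  refine ⟨σ, fun i v hv => ?_⟩
  rw [← hσ i]
  exact ⟨v, hv, rfl⟩

/-- a family of nonzero vectors in the members of an independent family has nonzero sum -/
theorem sum_ne_zero_of_indep {t : ℕ} (ht : 0 < t) {D : Fin t → Submodule F (ι → F)} (hD : iSupIndep D)
    {v : Fin t → ι → F} (hv : ∀ i, v i ∈ D i) (hv0 : ∀ i, v i ≠ 0) : ∑ i, v i ≠ 0 := by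
  classical
  intro h
  have hli : LinearIndependent F v := hD.linearIndependent D hv hv0
  have := Fintype.linearIndependent_iff.1 hli (fun _ => 1) (by simpa using h) ⟨0, ht⟩
  exact one_ne_zero this

/-- **q = 2**: a group permuting hyperbolic planes over the field with two elements is reducible -/
theorem not_irreducible_of_plus_two [Fintype F] (hF : Fintype.card F = 2) {Q : (ι → F) → F}
    (hQ : Geo.IsNondegenerateQuadraticForm Q) {t : ℕ} {D : Fin t → Submodule F (ι → F)}
    (hD : Geo.IsOrthogonalMDecomposition Q 2 D) (hp : ∀ i, Geo.IsPlusTypeOn Q (D i)) {H : Subgroup (GL ι F)}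
    (hH : H ≤ Cfsg.isometryGroup F Q) (hHD : H ≤ Geo.decompositionStabilizer D) :
    ¬ Geo.ActsIrreducibly (Geo.matrixSet H) := by
  classical
  intro hirr
  have htwo := hD.decomp.decomp.two_le
  have hcases : ∀ a : F, a = 0 ∨ a = 1 := by
    intro a
    by_contra hcon
    push Not at hcon
    have h3 : ({0, 1, a} : Finset F).card ≤ Fintype.card F := Finset.card_le_univ _
    rw [Finset.card_eq_three.2 ⟨0, 1, a, zero_ne_one, hcon.1.symm, hcon.2.symm, rfl⟩, hF] at h3
    omega
  choose x hx y hy hQx hQy hxy hspan hval using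
    fun i => exists_hyp_of_plus hQ (hD.decomp.nondegenerate i) (hD.decomp.decomp.finrank_eq i) (hp i)
  have huniq : ∀ i, ∀ v ∈ D i, Q v = 1 → v = x i + y i := by
    intro i v hv hQv
    obtain ⟨a, b, rfl⟩ := hspan i v hv
    rw [hval] at hQv
    rcases hcases a with rfl | rfl
    · rw [zero_mul] at hQv; exact absurd hQv zero_ne_one
    · rcases hcases b with rfl | rfl
      · rw [mul_zero] at hQv; exact absurd hQv zero_ne_one
      · rw [one_smul, one_smul]
  have hQv : ∀ i, Q (x i + y i) = 1 := by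
    intro i
    have := hval i 1 1
    rwa [one_smul, one_smul, one_mul] at this
  have hvmem : ∀ i, x i + y i ∈ D i := fun i => (D i).add_mem (hx i) (hy i)
  have hv0 : ∀ i, x i + y i ≠ 0 := by
    intro i h
    have := hQv i
    rw [h, Q_zero hQ] at this
    exact zero_ne_one this
  set v : ι → F := ∑ i, (x i + y i) with hv
  have hv0' : v ≠ 0 := sum_ne_zero_of_indep (by omega) hD.decomp.decomp.indep hvmem hv0
  have hfix : ∀ h ∈ H, (h : Matrix ι ι F) *ᵥ v = v := by
    intro h hh
    obtain ⟨σ, hσ⟩ := exists_perm_of_mem (hHD hh)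
    rw [hv, Matrix.mulVec_sum, ← Equiv.sum_comp σ (fun i => x i + y i)]
    refine Finset.sum_congr rfl fun i _ => ?_
    exact huniq (σ i) _ (hσ i _ (hvmem i)) (by rw [mem_iso_iff.1 (hH hh), hQv])
  have hdim : t * 2 = Fintype.card ι := Cfsg.Agent.H922.mul_eq_card hD.decomp.decomp
  rcases hirr (Submodule.span F {v}) (by
    rintro _ ⟨h, hh, rfl⟩
    rw [Submodule.map_span_le]
    intro w hw
    rw [Set.mem_singleton_iff] at hw
    rw [hw, Matrix.toLin'_apply, hfix h hh]
    exact Submodule.mem_span_singleton_self v) with h | h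
  · exact hv0' (by
      have := Submodule.mem_span_singleton_self (R := F) v
      rwa [h, Submodule.mem_bot] at this)
  · have h1 := finrank_span_singleton (K := F) hv0'
    rw [h, finrank_top, Module.finrank_fintype_fun_eq_card] at h1
    omega

/-- **q = 3**: a group permuting hyperbolic planes over the field with three elements is reducible -/
theorem not_irreducible_of_plus_three [Fintype F] (hF : Fintype.card F = 3) {Q : (ι → F) → F}
    (hQ : Geo.IsNondegenerateQuadraticForm Q) {t : ℕ} {D : Fin t → Submodule F (ι → F)}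
    (hD : Geo.IsOrthogonalMDecomposition Q 2 D) (hp : ∀ i, Geo.IsPlusTypeOn Q (D i)) {H : Subgroup (GL ι F)}
    (hH : H ≤ Cfsg.isometryGroup F Q) (hHD : H ≤ Geo.decompositionStabilizer D) :
    ¬ Geo.ActsIrreducibly (Geo.matrixSet H) := by
  classical
  intro hirr
  have htwo := hD.decomp.decomp.two_le
  choose x hx hQx huniq using
    fun i => Cfsg.Agent.H922.exists_plane_vector hF hQ (hD.decomp.nondegenerate i)
      (hD.decomp.decomp.finrank_eq i) (hp i)
  have hx0 : ∀ i, x i ≠ 0 := by
    intro i h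
    have := hQx i
    rw [h, Q_zero hQ] at this
    exact zero_ne_one this
  have hli : LinearIndependent F x := hD.decomp.decomp.indep.linearIndependent D hx hx0
  have hdim : t * 2 = Fintype.card ι := Cfsg.Agent.H922.mul_eq_card hD.decomp.decomp
  rcases hirr (Submodule.span F (Set.range x)) (by
    rintro _ ⟨h, hh, rfl⟩
    obtain ⟨σ, hσ⟩ := exists_perm_of_mem (hHD hh)
    rw [Submodule.map_span_le]
    rintro _ ⟨i, rfl⟩
    rw [Matrix.toLin'_apply]
    have hmem : x (σ i) ∈ Submodule.span F (Set.range x) := Submodule.subset_span ⟨σ i, rfl⟩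
    rcases huniq (σ i) _ (hσ i _ (hx i)) (by rw [mem_iso_iff.1 (hH hh), hQx]) with h | h
    · rw [h]; exact hmem
    · rw [h]; exact Submodule.neg_mem _ hmem) with h | h
  · have h1 := finrank_span_eq_card hli
    rw [h, finrank_bot, Fintype.card_fin] at h1
    omega
  · have h1 := finrank_span_eq_card hli
    rw [h, finrank_top, Module.finrank_fintype_fun_eq_card, Fintype.card_fin] at h1
    omega

end Cfsg.Agent.H925
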