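import Cfsg.Agent.H925.OrthPlane

/-!
# Orthogonal decompositions into hyperbolic planes over fields with 4 and 5 elements, frames over non-prime fields
-/

set_option autoImplicit false
set_option linter.unusedSectionVars false

namespace Cfsg.Agent.H925

open QuadraticMap Matrix

variable {ι : Type} [Fintype ι] [DecidableEq ι] {F : Type*} [Field F]

/-- a basis as the columns of an invertible matrix -/
theorem exists_GL_of_basis {κ : Type} [Fintype κ] [DecidableEq κ] (b : Module.Basis κ F (ι → F)) :
    ∃ (e : ι ≃ κ) (P : GL ι F), (∀ x : ι → F, (P : Matrix ι ι F) *ᵥ x = ∑ i, x i • b (e i)) ∧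
      ∀ (g : GL ι F) (i j : ι), ((P⁻¹ * g * P : GL ι F) : Matrix ι ι F) i j =
        b.repr ((g : Matrix ι ι F) *ᵥ b (e j)) (e i) := by
  have hcard : Fintype.card ι = Fintype.card κ := by
    rw [← Module.finrank_eq_card_basis b, Module.finrank_fintype_fun_eq_card]
  let e : ι ≃ κ := Fintype.equivOfCardEq hcard
  let b' : Module.Basis ι F (ι → F) := b.reindex e.symm
  let P : GL ι F := (Cfsg.Agent.LieClassical.OrthFinite.glEquiv ι F).symm b'.equivFun.symm
  have hP : ∀ x : ι → F, (P : Matrix ι ι F) *ᵥ x = b'.equivFun.symm x := by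
    intro x
    rw [← glEquiv_apply']
    show (Cfsg.Agent.LieClassical.OrthFinite.glEquiv ι F)
      ((Cfsg.Agent.LieClassical.OrthFinite.glEquiv ι F).symm b'.equivFun.symm) x = _
    rw [MulEquiv.apply_symm_apply]
  have hP' : ∀ v : ι → F, ((P⁻¹ : GL ι F) : Matrix ι ι F) *ᵥ v = b'.equivFun v := by
    intro v
    have h1 : (P : Matrix ι ι F) *ᵥ (b'.equivFun v) = v := by
      rw [hP, LinearEquiv.symm_apply_apply]
    conv_lhs => rw [← h1]
    rw [Matrix.mulVec_mulVec, ← Units.val_mul, inv_mul_cancel, Units.val_one, Matrix.one_mulVec]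
  refine ⟨e, P, fun x => ?_, fun g i j => ?_⟩
  · rw [hP, Module.Basis.equivFun_symm_apply]
    refine Finset.sum_congr rfl fun i _ => ?_
    rw [Module.Basis.reindex_apply]; rfl
  · have h2 : ((P⁻¹ * g * P : GL ι F) : Matrix ι ι F) i j =
        (((P⁻¹ * g * P : GL ι F) : Matrix ι ι F) *ᵥ Pi.single j 1) i := by
      rw [Matrix.mulVec_single_one]; rfl
    rw [h2, Units.val_mul, Units.val_mul, ← Matrix.mulVec_mulVec, ← Matrix.mulVec_mulVec, hP']
    have h3 : (P : Matrix ι ι F) *ᵥ Pi.single j 1 = b (e j) := by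
      rw [hP, Module.Basis.equivFun_symm_apply]
      rw [Finset.sum_eq_single j]
      · rw [Pi.single_eq_same, one_smul, Module.Basis.reindex_apply]; rfl
      · intro k _ hk
        rw [Pi.single_eq_of_ne hk, zero_smul]
      · intro h; exact absurd (Finset.mem_univ j) h
    rw [h3, Module.Basis.equivFun_apply, Module.Basis.repr_reindex_apply]; rfl

/-- **frames**: the stabiliser of an orthogonal frame of isometric lines lies in every subfield group of a suitable
basis, and carries a multiple of the form. -/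
theorem frame_le_subfield {Q : (ι → F) → F} (hQ : Geo.IsNondegenerateQuadraticForm Q) {t : ℕ}
    {D : Fin t → Submodule F (ι → F)} (hD : Geo.IsOrthogonalMDecomposition Q 1 D) (F₀ : Subfield F) :
    ∃ (P : GL ι F) (ζ : F), ζ ≠ 0 ∧ Geo.IsQuadFormRationalStructure (fun v : ι → F => ζ * Q v) F₀ P ∧
      Geo.decompositionStabilizer D ⊓ Cfsg.isometryGroup F Q ≤ Geo.subfieldSubgroup F₀ P := by
  classical
  obtain ⟨v, c, hc, hDv, hv, horth⟩ := Cfsg.Agent.H922.exists_frame_vectors hQ hD
  have ht : t * 1 = Fintype.card ι := Cfsg.Agent.H922.mul_eq_card hD.decomp.decomp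
  have hv0 : ∀ i, v i ≠ 0 := by
    intro i h
    have := hv i
    rw [h, Q_zero hQ] at this
    exact hc this.symm
  have hvD : ∀ i, v i ∈ D i := by
    intro i
    rw [hDv]
    exact Submodule.mem_span_singleton_self _
  have hli : LinearIndependent F v := hD.decomp.decomp.indep.linearIndependent D hvD hv0
  have hne : Nonempty (Fin t) := ⟨⟨0, lt_of_lt_of_le two_pos hD.decomp.decomp.two_le⟩⟩
  let b : Module.Basis (Fin t) F (ι → F) := basisOfLinearIndependentOfCardEqFinrank hli (by
    rw [Fintype.card_fin, Module.finrank_fintype_fun_eq_card]; omega)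
  have hb : ∀ i, b i = v i := fun i => by
    show basisOfLinearIndependentOfCardEqFinrank hli _ i = v i
    rw [coe_basisOfLinearIndependentOfCardEqFinrank]
  obtain ⟨e, P, hP, hPe⟩ := exists_GL_of_basis b
  refine ⟨P, c⁻¹, inv_ne_zero hc, ?_, ?_⟩
  · intro u hu
    show c⁻¹ * Q ((P : Matrix ι ι F) *ᵥ u) ∈ F₀
    have h1 : ∀ s : Finset ι, Q (∑ i ∈ s, u i • b (e i)) = ∑ i ∈ s, u i ^ 2 * c := by
      intro s
      induction s using Finset.induction_on with
      | empty => rw [Finset.sum_empty, Finset.sum_empty]; exact Q_zero hQ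
      | insert a s ha ih =>
        rw [Finset.sum_insert ha, Finset.sum_insert ha, Q_add' hQ, ih, hQ.smul, hb, hv]
        have h2 : polar Q (u a • v (e a)) (∑ i ∈ s, u i • b (e i)) = 0 := by
          have hf := hermForm_polar hQ
          rw [hf.sum_right]
          refine Finset.sum_eq_zero fun i hi => ?_
          rw [hQ.polar_bilinear.smul_left, hQ.polar_bilinear.smul_right, hb, horth, mul_zero, mul_zero]
          intro h
          rw [e.injective h] at ha
          exact ha hi
        rw [h2]; ring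
    rw [hP, h1, Finset.mul_sum]
    refine F₀.sum_mem fun i _ => ?_
    have : c⁻¹ * (u i ^ 2 * c) = u i ^ 2 := by field_simp
    rw [this]
    exact F₀.pow_mem (hu i) 2
  · rintro g ⟨hgD, hgI⟩
    apply Cfsg.Agent.H922.mem_subfieldSubgroup_of_entries
    intro i j
    rw [hPe, hb]
    obtain ⟨σ, hσ⟩ := exists_perm_of_mem hgD
    have h1 := hσ (e j) _ (hvD (e j))
    rw [hDv, Submodule.mem_span_singleton] at h1
    obtain ⟨a, ha⟩ := h1
    have h2 : a ^ 2 = 1 := by
      have h3 := mem_iso_iff.1 hgI (v (e j))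
      rw [← ha, hQ.smul, hv, hv] at h3
      exact mul_right_cancel₀ hc (by rw [h3, one_mul])
    have h3 : a ∈ F₀ := by
      have h4 : (a - 1) * (a + 1) = 0 := by linear_combination h2
      rcases mul_eq_zero.1 h4 with h | h
      · rw [sub_eq_zero.1 h]; exact F₀.one_mem
      · rw [eq_neg_of_add_eq_zero_left h]; exact F₀.neg_mem F₀.one_mem
    rw [← ha, ← hb, map_smul, Finsupp.smul_apply, smul_eq_mul, Module.Basis.repr_self]
    apply F₀.mul_mem h3
    rw [Finsupp.single_apply]
    split_ifs
    · exact F₀.one_mem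
    · exact F₀.zero_mem

end Cfsg.Agent.H925
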