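import Cfsg.Agent.H925.OrthPlane

/-!
# Plus type and an odd number of isometric planes (characteristic two)
-/

set_option autoImplicit false
set_option linter.unusedSectionVars false

namespace Cfsg.Agent.H925

open QuadraticMap Matrix

variable {ι : Type} [Fintype ι] [DecidableEq ι] {F : Type*} [Field F]

/-- an orthogonal decomposition into isometric subspaces identifies `(F^ι, Q)` with a power of one member -/
theorem exists_power_iso {Q : (ι → F) → F} (hQ : Geo.IsNondegenerateQuadraticForm Q) {t m : ℕ}
    {D : Fin t → Submodule F (ι → F)} (hD : Geo.IsOrthogonalMDecomposition Q m D) (i₀ : Fin t) :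
    ∃ Φ : (Fin t → D i₀) ≃ₗ[F] (ι → F), (∀ x, Q (Φ x) = ∑ i, Q (x i : ι → F)) ∧
      (∀ x y, polar Q (Φ x) (Φ y) = ∑ i, polar Q (x i : ι → F) (y i : ι → F)) := by
  classical
  choose e he using fun i => hD.isometric i₀ i
  let L : (Fin t → D i₀) →ₗ[F] (ι → F) := ∑ i, (D i).subtype ∘ₗ (e i).toLinearMap ∘ₗ LinearMap.proj i
  have hL : ∀ x, L x = ∑ i, ((e i (x i) : D i) : ι → F) := by
    intro x
    simp only [L, LinearMap.sum_apply]
    rfl
  have hsurj : Function.Surjective L := by
    rw [← LinearMap.range_eq_top, eq_top_iff, ← hD.decomp.decomp.iSup_eq_top]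
    apply iSup_le
    intro i v hv
    refine ⟨Pi.single i ((e i).symm ⟨v, hv⟩), ?_⟩
    rw [hL, Finset.sum_eq_single i]
    · rw [Pi.single_eq_same, LinearEquiv.apply_symm_apply]
    · intro j _ hj
      rw [Pi.single_eq_of_ne hj, map_zero]; rfl
    · intro h; exact absurd (Finset.mem_univ i) h
  have hdim : Module.finrank F (Fin t → D i₀) = Module.finrank F (ι → F) := by
    rw [Module.finrank_pi_fintype, Module.finrank_fintype_fun_eq_card, hD.decomp.decomp.finrank_eq,
      Finset.sum_const, Finset.card_univ, Fintype.card_fin, smul_eq_mul]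
    exact Cfsg.Agent.H922.mul_eq_card hD.decomp.decomp
  have hinj : Function.Injective L := (LinearMap.injective_iff_surjective_of_finrank_eq_finrank hdim).2 hsurj
  let Φ := LinearEquiv.ofBijective L ⟨hinj, hsurj⟩
  have hΦ : ∀ x, Φ x = ∑ i, ((e i (x i) : D i) : ι → F) := hL
  have hf := hermForm_polar hQ
  have hpol : ∀ x y, polar Q (Φ x) (Φ y) = ∑ i, polar Q (x i : ι → F) (y i : ι → F) := by
    intro x y
    rw [hΦ, hΦ, hf.sum_left]
    refine Finset.sum_congr rfl fun i _ => ?_
    rw [hf.sum_right, Finset.sum_eq_single i]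
    · exact Cfsg.Agent.H922.polar_of_isometry (e i) (he i) _ _
    · intro j _ hj
      exact hD.decomp.orthogonal i j (Ne.symm hj) _ (e i (x i)).2 _ (e j (y j)).2
    · intro h; exact absurd (Finset.mem_univ i) h
  refine ⟨Φ, fun x => ?_, hpol⟩
  rw [hΦ]
  have h1 : ∀ s : Finset (Fin t), Q (∑ i ∈ s, ((e i (x i) : D i) : ι → F)) = ∑ i ∈ s, Q (x i : ι → F) := by
    intro s
    induction s using Finset.induction_on with
    | empty => rw [Finset.sum_empty, Finset.sum_empty]; exact Q_zero hQ
    | insert a s ha ih =>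
      rw [Finset.sum_insert ha, Finset.sum_insert ha, Q_add' hQ, ih, he]
      have h2 : polar Q ((e a (x a) : D a) : ι → F) (∑ i ∈ s, ((e i (x i) : D i) : ι → F)) = 0 := by
        rw [hf.sum_right]
        refine Finset.sum_eq_zero fun i hi => ?_
        apply hD.decomp.orthogonal a i _ _ (e a (x a)).2 _ (e i (x i)).2
        rintro rfl
        exact ha hi
      rw [h2]; ring
  exact h1 _

/-- **Characteristic two**: if the form is of plus type and the space is an orthogonal sum of an odd number of
isometric planes then the planes are of plus type. -/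
theorem plus_of_decomp_two {Q : (ι → F) → F} (hQ : Geo.IsNondegenerateQuadraticForm Q) (h2 : (2 : F) = 0)
    (hplus : Geo.IsPlusTypeOn Q ⊤) {t : ℕ} (ht : Odd t) {D : Fin t → Submodule F (ι → F)}
    (hD : Geo.IsOrthogonalMDecomposition Q 2 D) (i₀ : Fin t) : Geo.IsPlusTypeOn Q (D i₀) := by
  classical
  by_contra hnp
  have hcard : t * 2 = Fintype.card ι := Cfsg.Agent.H922.mul_eq_card hD.decomp.decomp
  -- `D i₀` is anisotropic
  have hani : ∀ v ∈ D i₀, Q v = 0 → v = 0 := by
    intro v hv hQv
    by_contra hv0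
    apply hnp
    refine ⟨Submodule.span F {v}, ?_, ?_, ?_⟩
    · rw [Submodule.span_le, Set.singleton_subset_iff]; exact hv
    · intro w hw
      obtain ⟨c, rfl⟩ := Submodule.mem_span_singleton.1 hw
      rw [hQ.smul, hQv, mul_zero]
    · rw [finrank_span_singleton hv0, hD.decomp.decomp.finrank_eq]
  obtain ⟨Φ, hΦQ, hΦp⟩ := exists_power_iso hQ hD i₀
  obtain ⟨u, hu⟩ := ht
  let E : Fin t ≃ (Fin u ⊕ Fin u) ⊕ Unit := Fintype.equivOfCardEq (by simp [hu]; ring)
  let L : (Fin u → D i₀) →ₗ[F] (Fin t → D i₀) :=
    { toFun := fun y j => Sum.elim (Sum.elim y y) (fun _ => 0) (E j)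
      map_add' := by
        intro y z
        funext j
        show Sum.elim (Sum.elim (y + z) (y + z)) (fun _ => 0) (E j) =
          Sum.elim (Sum.elim y y) (fun _ => 0) (E j) + Sum.elim (Sum.elim z z) (fun _ => 0) (E j)
        rcases E j with (a | a) | a
        · rfl
        · rfl
        · show (0 : D i₀) = 0 + 0
          rw [add_zero]
      map_smul' := by
        intro c y
        funext j
        show Sum.elim (Sum.elim (c • y) (c • y)) (fun _ => 0) (E j) =
          c • Sum.elim (Sum.elim y y) (fun _ => 0) (E j)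
        rcases E j with (a | a) | a
        · rfl
        · rfl
        · show (0 : D i₀) = c • 0
          rw [smul_zero] }
  have hL : ∀ y a, (L y) (E.symm a) = Sum.elim (Sum.elim y y) (fun _ => 0) a := by
    intro y a
    show Sum.elim (Sum.elim y y) (fun _ => 0) (E (E.symm a)) = _
    rw [Equiv.apply_symm_apply]
  have hLinj : Function.Injective L := by
    intro y z h
    funext a
    have h1 := congrFun h (E.symm (Sum.inl (Sum.inl a)))
    rwa [hL, hL] at h1
  have hsum : ∀ f : Fin t → F, ∑ i, f i = (∑ a, f (E.symm (Sum.inl (Sum.inl a))) +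
      ∑ a, f (E.symm (Sum.inl (Sum.inr a)))) + f (E.symm (Sum.inr ())) := by
    intro f
    rw [← Equiv.sum_comp E.symm f, Fintype.sum_sum_type, Fintype.sum_sum_type]
    simp
  let U : Submodule F (ι → F) := (LinearMap.range L).map Φ.toLinearMap
  have hU : Geo.IsTotallySingularQuad Q U := by
    rintro _ ⟨_, ⟨y, rfl⟩, rfl⟩
    show Q (Φ (L y)) = 0
    rw [hΦQ, hsum]
    simp only [hL, Sum.elim_inl, Sum.elim_inr]
    rw [show Q ((0 : D i₀) : ι → F) = 0 from Q_zero hQ, ← two_mul, h2, zero_mul, add_zero]
  have hmax : ∀ v, Q v = 0 → (∀ w ∈ U, polar Q w v = 0) → v ∈ U := by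
    intro v hv hvU
    obtain ⟨x, rfl⟩ := Φ.surjective v
    have h1 : ∀ a : Fin u, x (E.symm (Sum.inl (Sum.inl a))) = x (E.symm (Sum.inl (Sum.inr a))) := by
      intro a
      set d : D i₀ := x (E.symm (Sum.inl (Sum.inl a))) + x (E.symm (Sum.inl (Sum.inr a))) with hd
      have hd0 : d = 0 := by
        by_contra hne
        have hne' : (d : ι → F) ≠ 0 := fun h => hne (Subtype.ext h)
        obtain ⟨w, hwD, hw⟩ := (hD.decomp.nondegenerate i₀ d d.2 hne').1
        apply hw
        have h3 := hvU (Φ (L (Pi.single a ⟨w, hwD⟩))) ⟨_, ⟨_, rfl⟩, rfl⟩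
        rw [hΦp, hsum] at h3
        simp only [hL, Sum.elim_inl, Sum.elim_inr] at h3
        rw [Finset.sum_eq_single a, Finset.sum_eq_single a] at h3
        · simp only [Pi.single_eq_same] at h3
          rw [show polar Q ((0 : D i₀) : ι → F) (x (E.symm (Sum.inr ())) : ι → F) = 0 from
            polar_zero_left (qf hQ) _, add_zero] at h3
          rw [hd, Submodule.coe_add, hQ.polar_bilinear.add_right]
          exact h3
        · intro b _ hb
          rw [Pi.single_eq_of_ne hb]
          exact polar_zero_left (qf hQ) _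
        · intro h; exact absurd (Finset.mem_univ a) h
        · intro b _ hb
          rw [Pi.single_eq_of_ne hb]
          exact polar_zero_left (qf hQ) _
        · intro h; exact absurd (Finset.mem_univ a) h
      have h4 : x (E.symm (Sum.inl (Sum.inr a))) + x (E.symm (Sum.inl (Sum.inr a))) = 0 := by
        rw [← two_smul F, h2, zero_smul]
      have h5 : x (E.symm (Sum.inl (Sum.inl a))) - x (E.symm (Sum.inl (Sum.inr a))) = 0 := by
        rw [sub_eq_add_neg, neg_eq_of_add_eq_zero_left h4]
        exact hd0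
      exact sub_eq_zero.1 h5
    have h6 : x (E.symm (Sum.inr ())) = 0 := by
      apply Subtype.ext
      apply hani _ (x (E.symm (Sum.inr ()))).2
      rw [hΦQ, hsum] at hv
      rw [Finset.sum_congr rfl (fun a _ => by rw [h1 a]), ← two_mul, h2, zero_mul, zero_add] at hv
      exact hv
    refine ⟨x, ⟨fun a => x (E.symm (Sum.inl (Sum.inl a))), ?_⟩, rfl⟩
    funext j
    obtain ⟨a, rfl⟩ := E.symm.surjective j
    rw [hL]
    rcases a with (a | a) | a
    · rfl
    · show x (E.symm (Sum.inl (Sum.inl a))) = _
      rw [h1]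
    · show (0 : D i₀) = _
      exact h6.symm
  have hfin := finrank_of_maximal_ts hQ hplus hU hmax
  have h7 : Module.finrank F U = u * 2 := by
    have e1 : Module.finrank F U = Module.finrank F (LinearMap.range L) :=
      LinearEquiv.finrank_map_eq Φ (LinearMap.range L)
    rw [e1, LinearMap.finrank_range_of_inj hLinj, Module.finrank_pi_fintype, hD.decomp.decomp.finrank_eq,
      Finset.sum_const, Finset.card_univ, Fintype.card_fin, smul_eq_mul]
  rw [h7] at hfin
  omega

end Cfsg.Agent.H925
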